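import Cfsg.Agent.Lib.F24.Hat

/-! The action of `Fi23` on its transpositions inside the model. -/

set_option autoImplicit false
set_option maxRecDepth 100000

namespace Cfsg.Agent.F24

open Cfsg.Agent.CG Cfsg.Agent.Mult Cfsg.Agent.TCX Subgroup

/-- The action on the points. -/
noncomputable def act (g : Hat) (x : ℕ) : ℕ := (rho g).1 x

theorem act_def (g : Hat) (x : ℕ) : act g x = (rho g).1 x := rfl

theorem act_mul (g h : Hat) (x : ℕ) : act (g * h) x = act g (act h x) := by rw [act, map_mul]; rfl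

theorem act_one (x : ℕ) : act 1 x = x := by rw [act, map_one]; rfl

theorem act_inv {g : Hat} {x z : ℕ} (h : act g x = z) : act g⁻¹ z = x := by
  rw [← h, ← act_mul, inv_mul_cancel, act_one]

theorem act_ev {w : List ℕ} {x z : ℕ} (hw : ltAll 12 w = true) (h : (ev mv w).1 x = z) : act (ev y w) x = z := by
  rw [act, rho_ev hw, h]

theorem act_H1 {h : Hat} (hh : h ∈ H1) : act h 0 = 0 :=
  m_fix0 _ (map_rho (S := [0,1,2,3,4,5,6,7,8,9,11]) (by decide +kernel) ▸ mem_map_of_mem rho hh)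

theorem act_l : act (y 11) 31671 = 31671 := by
  rw [act, rho_y (by norm_num)]; exact m_fixm _ (gen_mem_cl _ (by simp))

theorem act_CC {c : FF} (hc : c ∈ CC) : act (psi c) 31671 = 31671 := by
  have : CC ≤ (cl y [0,1,2,3,4,5,6,8,9,11]).comap psi := cl_le _ fun a ha => by
    have h : a < 10 := by simp at ha; omega
    rw [mem_comap, psi_fx0 h]
    exact mul_mem (gen_mem_cl _ (by simp)) (gen_mem_cl _ (by simp at ha ⊢; omega))
  exact m_fixm _ (map_rho (S := [0,1,2,3,4,5,6,8,9,11]) (by decide +kernel) ▸ mem_map_of_mem rho (this hc))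

theorem act_O1 (f : FF) : 1 ≤ act (psi f) 31671 ∧ act (psi f) 31671 ≤ 31671 :=
  m_O1 _ (map_rho (S := [0,1,2,3,4,5,6,7,8,9,11]) (by decide +kernel) ▸ mem_map_of_mem rho (psi_mem f)) _
    (by norm_num) le_rfl

theorem act_lpow (n : ℕ) (f : FF) : act (y 11 ^ n * psi f) 31671 = act (psi f) 31671 := by
  rw [((l_psi f).pow_left n).eq, act_mul]
  congr 1
  induction n with
  | zero => rw [pow_zero, act_one]
  | succ n ih => rw [pow_succ, act_mul, act_l, ih]

theorem act_fx {w : List ℕ} (h : okL w = true) : act (psi (ev fx w)) 31671 = act (ev y w) 31671 := by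
  rw [ev_psi h, act_lpow]

theorem a_v : act (ev y vw) 31671 = 31649 := act_ev (by decide +kernel) p_v
theorem a_tc : act (ev y [1,0,2,1]) 31649 = 31650 := act_ev (by decide +kernel) p_tc
theorem a_g : act (ev y gw) 31649 = 20438 := act_ev (by decide +kernel) p_g

theorem t_v : act (psi (ev fx vw)) 31671 = 31649 := by rw [act_fx (by decide +kernel), a_v]

theorem t_j : act (psi (ev fx [7])) 31671 = 31546 := by
  rw [act_fx (by decide +kernel), act_ev (by decide +kernel) p_j]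

theorem t_tc : act (psi (ev fx ([1,0,2,1] ++ vw))) 31671 = 31650 := by
  rw [act_fx (by decide +kernel), ev_append, act_mul, a_v, a_tc]

theorem t_g : act (psi (ev fx (gw ++ vw))) 31671 = 20438 := by
  rw [act_fx (by decide +kernel), ev_append, act_mul, a_v, a_g]

theorem orb_psi {S l : List ℕ} (h1 : ltAll 12 S = true) (h2 : okL S = true)
    (e : allL (fun a => Nat.beq (apW st (trw [a]) (pts l)) (pts l)) [11] = true) {i : ℕ}
    (h : ∃ g ∈ cl mv S, g.1 i ∈ l) : ∃ c ∈ cl fx S, act (psi c) i ∈ l := by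
  obtain ⟨g, hg, h⟩ := h
  rw [← map_rho h1] at hg
  obtain ⟨x, hx, rfl⟩ := hg
  obtain ⟨c, hc, rfl | rfl⟩ := dec h2 hx
  · exact ⟨c, hc, h⟩
  · refine ⟨c, hc, l_pts e ?_⟩
    rw [← rho_y (by norm_num)]
    change act _ i ∈ l at h
    rw [act_mul] at h
    exact h

theorem orbC {i : ℕ} (h1 : 1 ≤ i) (h2 : i ≤ 31671) :
    ∃ c ∈ CC, ∃ r ∈ [[], vw, [7]], act (psi c) i = act (psi (ev fx r)) 31671 := by
  obtain ⟨c, hc, h⟩ := orb_psi (by decide +kernel) (by decide +kernel) i_C (m_orbC h1 h2)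
  refine ⟨c, hc, ?_⟩
  simp only [List.mem_cons, List.not_mem_nil, or_false, exists_eq_or_imp, exists_eq_left] at h ⊢
  rwa [t_v, t_j, ev_nil, map_one, act_one]

theorem orbK {i : ℕ} (h1 : 1 ≤ i) (h2 : i ≤ 31671) : ∃ c ∈ cl fx [1,2,3,4,5,6,7,8,9],
    ∃ r ∈ [[], [1,0,2,1], gw], act (psi c) i = act (psi (ev fx (r ++ vw))) 31671 := by
  obtain ⟨c, hc, h⟩ := orb_psi (by decide +kernel) (by decide +kernel) i_K (m_orbK h1 h2)
  refine ⟨c, hc, ?_⟩
  simp only [List.mem_cons, List.not_mem_nil, or_false, exists_eq_or_imp, exists_eq_left] at h ⊢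
  rwa [List.nil_append, t_v, t_tc, t_g]

theorem stab {f : FF} (h : act (psi f) 31671 = 31671) : f ∈ CC := by
  letI : MulAction FF ℕ := MulAction.compHom ℕ ((Fx 920808).subtype.comp (rho.comp psi))
  have hs : ∀ (g : FF) (x : ℕ), g • x = act (psi g) x := fun _ _ => rfl
  have hle : CC ≤ MulAction.stabilizer FF 31671 := fun c hc => act_CC hc
  have h1 : 31671 ≤ (MulAction.stabilizer FF 31671).index := by
    rw [MulAction.index_stabilizer]
    have : (Finset.Icc 1 31671 : Set ℕ) ⊆ MulAction.orbit FF 31671 := by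
      intro i hi
      rw [Finset.coe_Icc] at hi
      obtain ⟨c, -, r, -, e⟩ := orbC hi.1 hi.2
      refine ⟨c⁻¹ * ev fx r, ?_⟩
      change act (psi _) _ = _
      rw [map_mul, act_mul, ← e, map_inv, act_inv rfl]
    have h2 := Set.ncard_le_ncard this (Set.finite_range _)
    rwa [Set.ncard_coe_finset, Nat.card_Icc] at h2
  have h2 := fx_idx
  rw [← (MulAction.stabilizer FF 31671).index_mul_card] at h2
  have h3 := Nat.le_of_mul_le_mul_left ((Nat.mul_le_mul_right _ h1).trans h2) (by norm_num)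
  rw [eq_of_le_of_card_ge hle h3]
  exact h

theorem same_pt {f g : FF} (h : act (psi f) 31671 = act (psi g) 31671) :
    f * fx 12 * f⁻¹ = g * fx 12 * g⁻¹ := by
  have := (m_comm (stab (f := g⁻¹ * f) (by rw [map_mul, act_mul, h, map_inv, act_inv rfl]))).eq
  calc f * fx 12 * f⁻¹ = g * (g⁻¹ * f * fx 12) * f⁻¹ := by group
    _ = _ := by rw [← this]; group

theorem conj_of_eqF {u : List ℕ} {a b : ℕ} (h : eqF (u ++ [a]) (b :: u) = true) :
    ev fx u * fx a * (ev fx u)⁻¹ = fx b := by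
  have := fx_eq h
  rw [ev_append, ev_singleton, ev_cons] at this
  rw [this, mul_inv_cancel_right]

theorem v_conj : ev fx vw * fx 12 * (ev fx vw)⁻¹ = fx 0 := conj_of_eqF (by decide +kernel)

/-- The conjugates of `m` under its centraliser. -/
theorem conj_m (f : FF) :
    ∃ c ∈ CC, ∃ r ∈ [fx 12, fx 0, fx 7 * fx 12 * fx 7], f * fx 12 * f⁻¹ = c * r * c⁻¹ := by
  obtain ⟨c, hc, r, hr, e⟩ := orbC (act_O1 f).1 (act_O1 f).2
  rw [← act_mul, ← map_mul] at e
  refine ⟨c⁻¹, inv_mem hc, ev fx r * fx 12 * (ev fx r)⁻¹, ?_, by rw [← same_pt e]; group⟩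
  simp only [List.mem_cons, List.not_mem_nil, or_false] at hr ⊢
  rcases hr with rfl | rfl | rfl
  · simp
  · exact Or.inr (Or.inl v_conj)
  · simp [fx_inv]

theorem cent_m {f : FF} (h : Commute (fx 12) f) : f ∈ CC := by
  obtain ⟨c, hc, r, hr, e⟩ := orbC (act_O1 f).1 (act_O1 f).2
  rw [← act_mul, ← map_mul] at e
  have h1 := same_pt e
  rw [← ((m_comm hc).mul_right h).eq, mul_inv_cancel_right] at h1
  simp only [List.mem_cons, List.not_mem_nil, or_false] at hr
  rcases hr with rfl | rfl | rfl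
  · rw [ev_nil, map_one, act_one] at e
    exact (mul_mem_cancel_left hc).1 (stab e)
  · rw [v_conj] at h1
    exact absurd (by simpa using h1) (fx_ne (u := [12]) (v := [0]) (by decide +kernel))
  · exact absurd (by simpa [fx_inv, mul_assoc] using h1) (fx_ne (u := [12]) (v := [7,12,7]) (by decide +kernel))

/-- The conjugates of `a` under the subgroup generated by `b, …, j`. -/
theorem conj_K (f : FF) : ∃ c ∈ cl fx [1,2,3,4,5,6,7,8,9], ∃ r ∈ [0, 2, 15], f * fx 0 * f⁻¹ = c * fx r * c⁻¹ := by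
  obtain ⟨c, hc, r, hr, e⟩ := orbK (act_O1 (f * ev fx vw)).1 (act_O1 _).2
  rw [← act_mul, ← map_mul] at e
  have h1 := same_pt e
  have h2 : f * fx 0 * f⁻¹ = c⁻¹ * (ev fx r * fx 0 * (ev fx r)⁻¹) * c⁻¹⁻¹ := by
    rw [← v_conj]
    calc _ = c⁻¹ * (c * (f * ev fx vw) * fx 12 * (c * (f * ev fx vw))⁻¹) * c := by group
      _ = _ := by rw [h1, ev_append]; group
  refine ⟨c⁻¹, inv_mem hc, ?_⟩
  simp only [List.mem_cons, List.not_mem_nil, or_false, exists_eq_or_imp, exists_eq_left] at hr ⊢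
  rcases hr with rfl | rfl | rfl
  · exact Or.inl (by simpa using h2)
  · exact Or.inr (Or.inl (by rw [h2, conj_of_eqF (b := 2) (by decide +kernel)]))
  · exact Or.inr (Or.inr (by rw [h2, conj_of_eqF (b := 15) (by decide +kernel)]))

theorem t3_conj : ev fx t3m * fx 12 * (ev fx t3m)⁻¹ = fx 0 := conj_of_eqF (by decide +kernel)

theorem cent_a {f : FF} (h : Commute (fx 0) f) : (ev fx t3m)⁻¹ * f * ev fx t3m ∈ CC := cent_m (by
  rw [← t3_conj] at h
  calc fx 12 * ((ev fx t3m)⁻¹ * f * ev fx t3m) =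
        (ev fx t3m)⁻¹ * (ev fx t3m * fx 12 * (ev fx t3m)⁻¹ * f) * ev fx t3m := by group
    _ = _ := by rw [h.eq]; group)

theorem a_comm {c : FF} (hc : c ∈ CC) : Commute (fx 0) (ev fx t3m * c * (ev fx t3m)⁻¹) := by
  rw [← t3_conj]
  have := (m_comm hc).eq
  calc _ = ev fx t3m * (fx 12 * c) * (ev fx t3m)⁻¹ := by group
    _ = _ := by rw [this]; group

/-- The conjugates of `a` under its centraliser. -/
theorem conj_a (f : FF) : ∃ c, Commute (fx 0) c ∧ ∃ s ∈ [[], [1,0,2,1], [1]],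
    f * fx 0 * f⁻¹ = c * ev fx s * fx 0 * (c * ev fx s)⁻¹ := by
  obtain ⟨c, hc, r, hr, e⟩ := conj_m ((ev fx t3m)⁻¹ * f * ev fx t3m)
  have h1 : f * fx 0 * f⁻¹ = ev fx t3m * c * r * (ev fx t3m * c)⁻¹ := by
    rw [← t3_conj]
    calc _ = ev fx t3m * ((ev fx t3m)⁻¹ * f * ev fx t3m * fx 12 * ((ev fx t3m)⁻¹ * f * ev fx t3m)⁻¹) *
          (ev fx t3m)⁻¹ := by group
      _ = _ := by rw [e]; group
  simp only [List.mem_cons, List.not_mem_nil, or_false, exists_eq_or_imp, exists_eq_left] at hr ⊢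
  rcases hr with rfl | rfl | rfl
  · exact ⟨_, a_comm hc, Or.inl (by rw [h1, ← t3_conj, ev_nil]; group)⟩
  · refine ⟨_, a_comm hc, Or.inr (Or.inl ?_)⟩
    have h2 := conj_of_eqF (u := t3m) (a := 0) (b := 2) (by decide +kernel)
    rw [← conj_of_eqF (u := [1,0,2,1]) (a := 0) (b := 2) (by decide +kernel)] at h2
    calc _ = ev fx t3m * c * (ev fx t3m)⁻¹ * (ev fx t3m * fx 0 * (ev fx t3m)⁻¹) * (ev fx t3m * c * (ev fx t3m)⁻¹)⁻¹ := by
          rw [h1]; group
      _ = _ := by rw [h2]; group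
  · refine ⟨_, a_comm (mul_mem hc (inv_mem (ev_mem_cl fx (w := w1) (by decide +kernel)))), Or.inr (Or.inr ?_)⟩
    have h2 := fx_eq (u := t3m ++ w1 ++ [7,12,7]) (v := [1,0,1] ++ t3m ++ w1) (by decide +kernel)
    simp only [ev_append, ev_cons, ev_nil, mul_one] at h2 ⊢
    calc _ = ev fx t3m * c * (ev fx w1)⁻¹ * (ev fx t3m)⁻¹ * (ev fx t3m * ev fx w1 * (fx 7 * (fx 12 * fx 7))) *
          (ev fx t3m * c)⁻¹ := by rw [h1]; group
      _ = _ := by rw [h2, mul_inv_rev _ (fx 1), fx_inv]; group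

theorem gen_conj {a : ℕ} (ha : a < 10) : ∃ g, fx a = g * fx 12 * g⁻¹ := by
  have step : ∀ {a b : ℕ}, eqF [a, b, a, b, a, b] [] = true → (∃ g, fx a = g * fx 12 * g⁻¹) →
      ∃ g, fx b = g * fx 12 * g⁻¹ := by
    rintro a b h ⟨g, hg⟩
    refine ⟨fx a * fx b * g, ?_⟩
    have := conj_of_cube (fx_sq a) (fx_sq b) (by simpa [pow_succ, mul_assoc] using fx_eq h)
    generalize fx a * fx b = c at this ⊢
    rw [← this, hg]; group
  have h0 : ∃ g, fx 0 = g * fx 12 * g⁻¹ := ⟨_, v_conj.symm⟩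
  have h1 := step (b := 1) (by decide +kernel) h0
  have h2 := step (b := 2) (by decide +kernel) h1
  have h3 := step (b := 3) (by decide +kernel) h2
  have h4 := step (b := 4) (by decide +kernel) h3
  have h5 := step (b := 5) (by decide +kernel) h4
  have h6 := step (b := 6) (by decide +kernel) h5
  have h7 := step (b := 7) (by decide +kernel) h6
  have h8 := step (b := 8) (by decide +kernel) h3
  have h9 := step (b := 9) (by decide +kernel) h8
  interval_cases a
  exacts [h0, h1, h2, h3, h4, h5, h6, h7, h8, h9]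

theorem faithful {f : FF} (h : rho (psi f) = 1) : f = 1 := by
  rw [← mem_bot, ← fx_center, mem_center_iff]
  intro g
  refine (commute_cl (y := fx) (S := [0,1,2,3,4,5,6,7,8,9]) (fun a ha => ?_) (fx_top ▸ mem_top g)).symm.eq
  obtain ⟨c, hc⟩ := gen_conj (a := a) (by simp at ha; omega)
  have := same_pt (f := f * c) (g := c) (by rw [map_mul, act_mul, act, h]; rfl)
  rw [commute_iff_eq, ← mul_inv_eq_iff_eq_mul, hc]
  exact Eq.trans (by group) this

theorem psi_inj : Function.Injective psi :=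
  (injective_iff_map_eq_one psi).2 fun f h => faithful (by rw [h, map_one])

theorem eq_one_of_rho {h : Hat} (hh : h ∈ H1) (hs : sg h = 1) (h1 : rho h = 1) : h = 1 := by
  obtain ⟨f, rfl⟩ := decH_even hh hs
  rw [faithful h1, map_one]

attribute [irreducible] act

end Cfsg.Agent.F24
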