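import Cfsg.Agent.Lib.F24.Cover
import Cfsg.Prelude.Def_Spor_Fi24

/-! The group `Fi24` as a quotient. -/

set_option autoImplicit false
set_option maxRecDepth 100000

namespace Cfsg.Agent.F24

open Cfsg.Agent.CG Cfsg.Agent.Mult Cfsg.Agent.TCX Subgroup
open scoped commutatorElement

/-- The letter of a generator. -/
def code : Spor.Fi24.Gen → ℕ
  | .a => 0
  | .b => 1
  | .c => 2
  | .d => 3
  | .e => 4
  | .f => 5
  | .g => 6
  | .j => 7
  | .h => 8
  | .i => 9
  | .k => 10
  | .l => 11

/-- The table of letters. -/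
def tab : List (Spor.Fi24.Gen × Bool) := [(.a, true), (.b, true), (.c, true), (.d, true), (.e, true), (.f, true),
  (.g, true), (.j, true), (.h, true), (.i, true), (.k, true), (.l, true)]

/-- All letters are involutions. -/
def invL : List ℕ := [0,1,2,3,4,5,6,7,8,9,10,11]

/-- Derivations of relators. -/
def hints1 : List (ℕ × Bool × List ℕ) := [(146,false,[]),(146,false,[]),(146,false,[]),(146,false,[]),(146,false,[]),(146,false,[]),(146,false,[]),(146,false,[]),(146,false,[]),(146,false,[]),(146,false,[]),(146,false,[]),(29,false,[]),(30,false,[]),(31,false,[]),(32,false,[]),(34,false,[]),(35,false,[]),(36,false,[]),(33,false,[]),(37,false,[]),(16,false,[10]),(4,false,[11]),(42,false,[]),(43,false,[]),(44,false,[]),(46,false,[]),(47,false,[]),(48,false,[]),(45,false,[]),(49,false,[]),(17,false,[10]),(5,false,[11]),(55,false,[]),(56,false,[]),(58,false,[]),(59,false,[]),(60,false,[]),(57,false,[]),(61,false,[]),(18,false,[10]),(6,false,[11]),(68,false,[]),(70,false,[]),(71,fals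e,[]),(72,false,[]),(69,false,[]),(73,false,[]),(19,false,[10]),(7,false,[11]),(82,false,[]),(83,false,[]),(84,false,[]),(81,false,[]),(85,false,[]),(20,false,[10]),(8,false,[11]),(107,false,[]),(108,false,[]),(94,false,[8]),(109,false,[]),(22,false,[10]),(10,false,[11]),(120,false,[]),(95,false,[8]),(121,false,[]),(23,false,[10]),(11,false,[11]),(96,false,[8]),(133,false,[]),(24,false,[10]),(12,false,[11]),(97,false,[]),(21,false,[10]),(9,false,[11]),(25,false,[10]),(13,false,[11]),(3,false,[11]),(0,false,[]),(1,false,[])]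
/-- Derivations of relators. -/
def hints2 : List (ℕ × Bool × List ℕ) := [(78,false,[]),(79,false,[]),(80,false,[]),(77,false,[10]),(22,false,[0]),(32,false,[1]),(41,false,[2]),(49,false,[3]),(56,false,[4]),(74,false,[8]),(62,false,[5]),(67,false,[6]),(71,false,[7]),(76,false,[9]),(77,false,[]),(80,false,[]),(21,false,[0]),(31,false,[1]),(40,false,[2]),(48,false,[3]),(55,false,[4]),(73,false,[8]),(61,false,[5]),(66,false,[6]),(70,false,[7]),(75,false,[9]),(22,false,[]),(21,false,[]),(80,false,[]),(12,false,[]),(13,false,[]),(14,false,[]),(15,false,[]),(19,false,[]),(16,false,[]),(17,false,[]),(18,false,[]),(20,false,[]),(32,false,[]),(31,false,[]),(12,false,[0]),(80,false,[]),(23,false,[]),(24,false,[]),(25,false,[]),(29,false,[]),(26,false,[]),(27,false,[]),(28,false,[]),(30,false,[]),(41,false,[]),(40,false,[]),(13,false,[0]),(23,false,[1]),(80,false,[]),(33,false,[]),(34,false,[]),(38,false,[]),(35,false,[]),(36,false,[]),(37,false,[]),(39,false,[]),(49,false,[]),(48,false,[])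,(14,false,[0]),(24,false,[1]),(33,false,[2]),(80,false,[]),(42,false,[]),(46,false,[]),(43,false,[]),(44,false,[]),(45,false,[]),(47,false,[]),(56,false,[]),(55,false,[]),(15,false,[0]),(25,false,[1]),(34,false,[2]),(42,false,[3]),(80,false,[]),(53,false,[]),(50,false,[]),(51,false,[]),(52,false,[]),(54,false,[]),(74,false,[]),(73,false,[]),(19,false,[0]),(29,false,[1]),(38,false,[2]),(46,false,[3]),(53,false,[4]),(80,false,[]),(59,false,[5]),(64,false,[6]),(68,false,[7]),(72,false,[]),(62,false,[]),(61,false,[]),(16,false,[0]),(26,false,[1]),(35,false,[2]),(43,false,[3]),(50,false,[4]),(59,false,[]),(80,false,[]),(57,false,[]),(58,false,[]),(60,false,[]),(67,false,[]),(66,false,[]),(17,false,[0]),(27,false,[1]),(36,false,[2]),(44,false,[3]),(51,false,[4]),(64,false,[]),(57,false,[5]),(80,false,[]),(63,false,[]),(65,false,[]),(71,false,[]),(70,false,[]),(18,false,[0]),(28,false,[1]),(37,false,[2]),(45,false,[3]),(52,false,[4]),(68,false,[]),(58,false,[5]),(63,false,[6]),(80,false,[]),(69,false,[]),(76,false,[]),(75,false,[]),(20,false,[0]),(30,false,[1]),(39,false,[2]),(47,false,[3]),(54,false,[4]),(72,false,[8]),(60,false,[5]),(65,false,[6]),(69,false,[7]),(80,false,[])]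

/-- The letters in `Fi24`. -/
def Yb : ℕ → Spor.Fi24 := letter Spor.Fi24.edges Spor.Fi24.extra tab

theorem Yb_code : ∀ γ, Yb (code γ) = PresentedGroup.of γ := by
  intro γ; cases γ <;> rfl

theorem Yb_rels : ∀ r ∈ F24a.R0 ++ [powL 17 ww], ev Yb r = 1 :=
  have h : ∀ a, Yb (invOf invL a) = (Yb a)⁻¹ :=
    letter_inv (I := Spor.coxNodes Spor.Fi24.edges) (by decide +kernel) (fun _ h => node_sq _ _ h) (invOf_ge rfl)
  ders_sound (hs := hints1) h (letter_rels h Yb_code) (by decide +kernel)

theorem exists_pr : ∃ f : Hat →* Spor.Fi24, ∀ a, a < 12 → f (y a) = Yb a :=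
  exists_lift Yb fun r hr => Yb_rels r (List.mem_append_left _ hr)

/-- The projection. -/
noncomputable def pr : Hat →* Spor.Fi24 := exists_pr.choose

theorem pr_y {a : ℕ} (ha : a < 12) : pr (y a) = Yb a := exists_pr.choose_spec a ha

attribute [irreducible] pr

theorem code_lt (γ : Spor.Fi24.Gen) : code γ < 12 := by cases γ <;> decide

theorem pr_surj : Function.Surjective pr := by
  rw [← MonoidHom.range_eq_top, eq_top_iff, ← PresentedGroup.closure_range_of, closure_le]
  rintro _ ⟨γ, rfl⟩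
  exact ⟨y (code γ), by rw [pr_y (code_lt γ), Yb_code]⟩

theorem pr_zeta : pr zeta = 1 := by
  have : pr zz = 1 := by
    rw [zz, map_pow, map_ev, ev_congr _ fun a ha => pr_y (lt_of_ltAll (n := 12) (by decide +kernel) a ha), ← ev_powL]
    exact Yb_rels _ (by simp)
  rw [← one_mul (pr zeta), ← this, ← map_mul, zz_zeta, this, map_one]

theorem hat_ext {Γ : Type*} [Group Γ] {f g : Hat →* Γ} (h : ∀ a, a < 12 → f (y a) = g (y a)) : f = g := by
  have : cl y [0,1,2,3,4,5,6,7,8,9,10,11] ≤ f.eqLocus g := cl_le _ fun a ha => h a (by simp at ha; omega)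
  exact MonoidHom.ext fun x => this (y_top ▸ mem_top x)

theorem exists_desc {Γ : Type*} [Group Γ] (f : Hat →* Γ) (hf : f zeta = 1) :
    ∃ g : Spor.Fi24 →* Γ, ∀ x, g (pr x) = f x := by
  have hinv : ∀ a, f (y (invOf invL a)) = (f (y a))⁻¹ := fun a => by
    rw [← map_inv, y_inv]; congr 2
    by_cases ha : a < 12
    · exact (beq_iff _ _).1 ((allLt_iff (fun a => Nat.beq (invOf invL a) a) 12).1 (by decide +kernel) a ha)
    · exact nth_triv _ _ (by simp [invL]; omega)
  have h0 : ∀ r ∈ F24a.R0 ++ [powL 17 ww], ev (fun a => f (y a)) r = 1 := fun r hr => by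
    rw [← map_ev]
    rcases List.mem_append.1 hr with hr | hr
    · rw [y_rels r hr, map_one]
    · rw [List.mem_singleton.1 hr, ev_powL, ← zz, eq_inv_of_mul_eq_one_left zz_zeta, map_inv, hf, inv_one]
  have h1 := (relWords_iff (code := code) hinv Spor.Fi24.edges Spor.Fi24.extra).1
    (ders_sound (hs := hints2) hinv h0 (by decide +kernel))
  refine ⟨PresentedGroup.toGroup h1, fun x => ?_⟩
  refine DFunLike.congr_fun (hat_ext (f := (PresentedGroup.toGroup h1).comp pr) fun a ha => ?_) x
  obtain ⟨γ, rfl⟩ : ∃ γ, a = code γ := by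
    interval_cases a
    exacts [⟨.a, rfl⟩, ⟨.b, rfl⟩, ⟨.c, rfl⟩, ⟨.d, rfl⟩, ⟨.e, rfl⟩, ⟨.f, rfl⟩, ⟨.g, rfl⟩, ⟨.j, rfl⟩, ⟨.h, rfl⟩,
      ⟨.i, rfl⟩, ⟨.k, rfl⟩, ⟨.l, rfl⟩]
  rw [MonoidHom.comp_apply, pr_y ha, Yb_code, PresentedGroup.toGroup.of]

theorem pr_eq_one {g : Hat} : pr g = 1 ↔ g ∈ zpowers zeta := by
  constructor
  · intro h
    obtain ⟨b, hb⟩ := exists_desc (QuotientGroup.mk' (zpowers zeta)) ((QuotientGroup.eq_one_iff _).2 (mem_zpowers _))
    have := hb g
    rw [h, map_one] at this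
    exact (QuotientGroup.eq_one_iff _).1 this.symm
  · rintro ⟨n, rfl⟩
    simp [pr_zeta]

instance finiteBar : Finite Spor.Fi24 := Finite.of_surjective pr pr_surj

/-- The sign on `Fi24`. -/
noncomputable def sb : Spor.Fi24 →* ℤˣ := (exists_desc sg sg_zeta).choose

theorem sb_pr (g : Hat) : sb (pr g) = sg g := (exists_desc sg sg_zeta).choose_spec g

attribute [irreducible] sb

theorem even_mem {g : Hat} (hg : sg g = 1) : g ∈ cl (fun a => y 11 * y a) [0,1,2,3,4,5,6,7,8,9,10,11] := by
  set E := cl (fun a => y 11 * y a) [0,1,2,3,4,5,6,7,8,9,10,11]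
  have hl : E ≤ E.comap (MulAut.conj (y 11)).toMonoidHom := cl_le _ fun a ha => by
    change y 11 * (y 11 * y a) * (y 11)⁻¹ ∈ E
    rw [← mul_assoc, l_sq, one_mul, ← y_inv a, ← mul_inv_rev]
    exact inv_mem (gen_mem_cl (fun a => y 11 * y a) ha)
  have hl' : ∀ x ∈ E, y 11 * x * y 11 ∈ E := fun x hx => by simpa [y_inv] using hl hx
  have hs : E ≤ sg.ker := cl_le _ fun a ha => by
    rw [MonoidHom.mem_ker, map_mul, sg_y (by norm_num), sg_y (by simp at ha; omega)]; simp
  have key : ∀ g ∈ cl y [0,1,2,3,4,5,6,7,8,9,10,11], g ∈ E ∨ y 11 * g ∈ E := by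
    intro g hg
    induction hg using closure_induction with
    | mem x hx =>
      obtain ⟨a, ha, rfl⟩ := hx
      exact Or.inr (gen_mem_cl (fun a => y 11 * y a) ha)
    | one => exact Or.inl (one_mem _)
    | mul a b _ _ ha hb =>
      rcases ha with ha | ha <;> rcases hb with hb | hb
      · exact Or.inl (mul_mem ha hb)
      · exact Or.inr (by simpa [← mul_assoc, mul_assoc _ (y 11) (y 11), l_sq] using mul_mem (hl' a ha) hb)
      · exact Or.inr (by simpa [mul_assoc] using mul_mem ha hb)
      · exact Or.inl (by simpa [← mul_assoc, mul_assoc _ (y 11) (y 11), l_sq] using mul_mem (hl' _ ha) hb)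
    | inv a _ ha =>
      rcases ha with ha | ha
      · exact Or.inl (inv_mem ha)
      · exact Or.inr (by simpa [y_inv, ← mul_assoc, mul_assoc _ (y 11) (y 11), l_sq] using hl' _ (inv_mem ha))
  refine (key g (y_top ▸ mem_top g)).resolve_right fun h => ?_
  have := hs h
  rw [MonoidHom.mem_ker, map_mul, hg, sg_y (by norm_num)] at this
  exact absurd this (by decide)

/-- A subgroup containing `Fi23` and `lk` contains all even elements. -/
theorem even_le {K : Subgroup Hat} (h1 : ∀ f, psi f ∈ K) (h2 : y 11 * y 10 ∈ K) {g : Hat} (hg : sg g = 1) : g ∈ K := by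
  refine cl_le _ (fun a ha => ?_) (even_mem hg)
  by_cases e : a < 10
  · rw [← psi_fx0 e]; exact h1 _
  · obtain rfl | rfl : a = 10 ∨ a = 11 := by simp at ha; omega
    · exact h2
    · rw [l_sq]; exact one_mem _

theorem commutator_le_ker : commutator Hat ≤ sg.ker := Abelianization.commutator_subset_ker sg

theorem psi_mem_comm (f : FF) : psi f ∈ ⁅sg.ker, sg.ker⁆ := by
  have h1 : psi.range ≤ sg.ker := by rintro _ ⟨f, rfl⟩; exact sg_psi f
  have := Group.IsPerfect.range psi
  exact commutator_mono h1 h1 ((commutator_eq_self (H := psi.range)).ge ⟨f, rfl⟩)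

instance perfectKer : Group.IsPerfect sg.ker := by
  rw [isPerfect_iff]
  refine le_antisymm (commutator_le_self _) fun g hg => even_le psi_mem_comm ?_ hg
  have h0 := psi_mem_comm (fx 0)
  have h1 := psi_mem_comm (fx 0 * fx 1)
  rw [map_mul, psi_fx0 (by norm_num), psi_fx0 (by norm_num), (l_comm (by norm_num)).eq, mul_assoc, ← mul_assoc (y 11),
    l_sq, one_mul] at h1
  rw [psi_fx0 (by norm_num)] at h0
  have h2 := mul_mem h1 ((inferInstance : (⁅sg.ker, sg.ker⁆).Normal).conj_mem _ (inv_mem h1) (y 10))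
  have h3 : y 0 * y 1 * (y 10 * (y 0 * y 1)⁻¹ * (y 10)⁻¹) = (y 0 * y 10)⁻¹ := by
    rw [eq_inv_iff_mul_eq_one, ← ak_cube, mul_inv_rev, y_inv, y_inv, y_inv, ← mul_assoc (y 10),
      (k_comm (a := 1) (by simp)).eq]
    simp only [pow_succ, pow_zero, one_mul, ← mul_assoc, mul_assoc _ (y 1) (y 1), y_sq, mul_one]
  rw [h3, inv_mem_iff] at h2
  exact mul_trans (y_sq 0) h0 h2

theorem commutator_hat : commutator Hat = sg.ker :=
  le_antisymm commutator_le_ker ((commutator_eq_self (H := sg.ker)).ge.trans (commutator_mono le_top le_top))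

theorem mem_comm_bar {g : Spor.Fi24} : g ∈ commutator Spor.Fi24 ↔ sb g = 1 := by
  refine ⟨fun h => Abelianization.commutator_subset_ker sb h, fun h => ?_⟩
  obtain ⟨x, rfl⟩ := pr_surj g
  rw [sb_pr] at h
  have := mem_map_of_mem pr (commutator_hat.ge h)
  rwa [map_commutator_eq, MonoidHom.range_eq_top.2 pr_surj] at this

end Cfsg.Agent.F24
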