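import Cfsg.Agent.Lib.F24.Zeta

/-! The three double cosets of `Fi23 × 2` modulo `ζ`. -/

set_option autoImplicit false
set_option maxRecDepth 100000

namespace Cfsg.Agent.F24

open Cfsg.Agent.CG Cfsg.Agent.Mult Cfsg.Agent.TCX Subgroup

/-- `f` is the component of `h` in `Fi23`. -/
def Rel (h : Hat) (f : FF) : Prop := h = psi f ∨ h = y 11 * psi f

theorem Rel.mul {a b : Hat} {f g : FF} (h1 : Rel a f) (h2 : Rel b g) : Rel (a * b) (f * g) := by
  rcases h1 with rfl | rfl <;> rcases h2 with rfl | rfl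
  · exact Or.inl (map_mul _ _ _).symm
  · exact Or.inr (by rw [map_mul, ← mul_assoc, ← (l_psi f).eq, mul_assoc])
  · exact Or.inr (by rw [map_mul, mul_assoc])
  · exact Or.inl (by rw [map_mul, (l_psi f).eq, mul_assoc, ← mul_assoc (y 11), l_sq, one_mul])

theorem Rel.inv {a : Hat} {f : FF} (h : Rel a f) : Rel a⁻¹ f⁻¹ := by
  rcases h with rfl | rfl
  · exact Or.inl (map_inv _ _).symm
  · exact Or.inr (by rw [mul_inv_rev, y_inv, ← map_inv, (l_psi _).eq])

theorem Rel.mem {a : Hat} {f : FF} (h : Rel a f) : a ∈ H1 := by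
  rcases h with rfl | rfl
  exacts [psi_mem f, mul_mem l_mem (psi_mem f)]

theorem rel_ev {w : List ℕ} (h : okL w = true) : Rel (ev y w) (ev fx w) := by
  rw [ev_psi h]
  rcases Nat.mod_two_eq_zero_or_one w.length with e | e <;> rw [e]
  exacts [Or.inl (by simp), Or.inr (by simp)]

theorem Rel.commute {a b : Hat} {f g : FF} (h1 : Rel a f) (h2 : Rel b g) (h : Commute f g) : Commute a b := by
  have h3 : Commute (psi f) (psi g) := h.map psi
  rcases h1 with rfl | rfl <;> rcases h2 with rfl | rfl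
  · exact h3
  · exact (l_psi f).symm.mul_right h3
  · exact (l_psi g).mul_left h3
  · exact ((Commute.refl _).mul_right (l_psi g)).mul_left ((l_psi f).symm.mul_right h3)

theorem rel_a : Rel (y 0) (fx 0) := Or.inr (y_psi0 (by norm_num))

theorem undec {S : List ℕ} (hS : okL S = true) {f : FF} (hf : f ∈ cl fx S) : ∃ h ∈ cl y S, Rel h f := by
  induction hf using closure_induction with
  | mem x hx =>
    obtain ⟨a, ha, rfl⟩ := hx
    exact ⟨y a, gen_mem_cl _ ha, Or.inr (okL_spec hS a ha)⟩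
  | one => exact ⟨1, one_mem _, Or.inl (map_one _).symm⟩
  | mul a b _ _ ha hb =>
    obtain ⟨f, h1, h2⟩ := ha
    obtain ⟨g, h3, h4⟩ := hb
    exact ⟨f * g, mul_mem h1 h3, h2.mul h4⟩
  | inv a _ ha =>
    obtain ⟨f, h1, h2⟩ := ha
    exact ⟨f⁻¹, inv_mem h1, h2.inv⟩

theorem dc_of {h c : Hat} {f g : FF} (h1 : Rel h f) (h2 : Rel c g) (e : f * fx 0 * f⁻¹ = g * fx 0 * g⁻¹) :
    ∃ d ∈ H1, Commute (y 0) d ∧ h = c * d :=
  ⟨c⁻¹ * h, (h2.inv.mul h1).mem, rel_a.commute (h2.inv.mul h1) (by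
    calc fx 0 * (g⁻¹ * f) = g⁻¹ * (g * fx 0 * g⁻¹) * f := by group
      _ = _ := by rw [← e]; group), by group⟩

section
variable {Γ : Type*} [Group Γ] (p : Hat →* Γ)

/-- The element lies in one of the three double cosets. -/
def Cv (g : Hat) : Prop := ∃ h ∈ H1, ∃ h' ∈ H1, ∃ r ∈ [1, uu, y 10], p g = p (h * r * h')

variable {p}

theorem Cv.mul {g a b : Hat} (h : Cv p g) (ha : a ∈ H1) (hb : b ∈ H1) : Cv p (a * g * b) := by
  obtain ⟨h, h1, h', h2, r, hr, e⟩ := h
  exact ⟨a * h, mul_mem ha h1, h' * b, mul_mem h2 hb, r, hr, by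
    rw [map_mul, map_mul, e, ← map_mul, ← map_mul]; congr 1; group⟩

theorem Cv.inv {g : Hat} (h : Cv p g) : Cv p g⁻¹ := by
  obtain ⟨h, h1, h', h2, r, hr, e⟩ := h
  have : r⁻¹ = r := by
    simp only [List.mem_cons, List.not_mem_nil, or_false] at hr
    rcases hr with rfl | rfl | rfl
    exacts [inv_one, uu_inv, y_inv _]
  exact ⟨h'⁻¹, inv_mem h2, h⁻¹, inv_mem h1, r, hr, by
    rw [map_inv, e, ← map_inv, mul_inv_rev, mul_inv_rev, this, mul_assoc]⟩

theorem cv_base {r : Hat} (hr : r ∈ [1, uu, y 10]) : Cv p r := ⟨1, one_mem _, 1, one_mem _, r, hr, by simp⟩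

theorem tc_mem : tc ∈ H1 := ev_H1 (by decide +kernel)

theorem cv_uu {h : Hat} (hh : h ∈ H1) : Cv p (uu * h * uu) := by
  obtain ⟨f, hf⟩ := decH hh
  obtain ⟨c, hc, s, hs, e⟩ := conj_a f
  have h1 : Rel (psi c) c := Or.inl rfl
  obtain ⟨d, d1, d2, rfl⟩ := dc_of hf (h1.mul (rel_ev (w := s)
    ((allL_iff okL _).1 (by decide +kernel) s hs))) e
  have e2 : uu * (psi c * ev y s * d) * uu = (uu * psi c * uu) * (uu * ev y s * uu) * (uu * d * uu) := by
    simp only [← mul_assoc, mul_assoc _ uu uu, uu_sq, mul_one]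
  rw [e2]
  refine Cv.mul ?_ (u_cent h1.mem (rel_a.commute h1 hc)) (u_cent d1 d2)
  simp only [List.mem_cons, List.not_mem_nil, or_false] at hs
  rcases hs with rfl | rfl | rfl
  · rw [ev_nil, mul_one, uu_sq]; exact cv_base (by simp)
  · rw [← tc, u_tc]; exact (cv_base (by simp)).mul tc_mem tc_mem
  · rw [ev_singleton, u_b, mul_assoc _ (y 0)]
    have ha : y 0 ∈ H1 := gen_mem_cl _ (by simp)
    have hb : y 1 ∈ H1 := gen_mem_cl _ (by simp)
    exact (cv_base (by simp)).mul (mul_mem hb ha) (mul_mem ha hb)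

variable (hp : p zeta = 1)
include hp

theorem cv_ku {h : Hat} (hh : h ∈ H1) : Cv p (y 10 * h * uu) := by
  obtain ⟨f, hf⟩ := decH hh
  obtain ⟨c, hc, r, hr, e⟩ := conj_K f
  obtain ⟨κ, k1, k2⟩ := undec (by decide +kernel) hc
  obtain ⟨s, hs, e2⟩ := (anyL_iff _ _).1 ((allL_iff (fun r => anyL (fun s => band (okL s) (eqF (s ++ [0]) (r :: s)))
    [[], [1,0,2,1], [2,15,1,0,2,1]]) _).1 (by decide +kernel) r hr)
  rw [band_eq] at e2
  obtain ⟨d, d1, d2, rfl⟩ := dc_of hf (k2.mul (rel_ev e2.1)) (by rw [e, ← conj_of_eqF e2.2]; group)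
  have e3 : y 10 * (κ * ev y s * d) * uu = κ * (y 10 * ev y s * uu) * (uu * d * uu) := by
    simp only [← mul_assoc, mul_assoc _ uu uu, uu_sq, mul_one, (k_K0 k1).eq]
  rw [e3]
  refine Cv.mul ?_ (K0_le k1) (u_cent d1 d2)
  have h2 : Cv p (y 10 * tc * uu) := by
    rw [k_tc]; exact (cv_base (by simp)).mul tc_mem (gen_mem_cl _ (by simp))
  simp only [List.mem_cons, List.not_mem_nil, or_false] at hs
  rcases hs with rfl | rfl | rfl
  · rw [ev_nil, mul_one, k_u, ← mul_one (_ * y 10)]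
    exact (cv_base (by simp)).mul (mul_mem l_mem (gen_mem_cl _ (by simp))) (one_mem _)
  · exact h2
  · obtain ⟨a, a1, b, b1, r, r1, e⟩ := h2.mul (ev_H1 (w := [2,15]) (by decide +kernel)) (one_mem _)
    refine ⟨a, a1, b, b1, r, r1, Eq.trans ?_ e⟩
    have e4 : y 10 * ev y [2,15,1,0,2,1] * uu = y 2 * zeta * (y 15 * (y 10 * tc * uu)) := by
      rw [ev_cons, ev_cons, ← tc, zeta, ← mul_assoc, (k_comm (a := 2) (by simp)).eq]
      simp only [← mul_assoc, mul_assoc _ (y 15) (y 15), mul_assoc _ (y 10) (y 10), y_sq, mul_one]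
    rw [e4]
    simp [hp, mul_assoc]

theorem cover (g : Hat) : Cv p g := by
  let T : Subgroup Hat :=
    { carrier := {g | ∀ x, Cv p x ↔ Cv p (g * x)}
      one_mem' := fun x => by simp
      mul_mem' := fun {a b} ha hb x => by rw [mul_assoc, ← ha, ← hb]
      inv_mem' := fun {a} ha x => by rw [ha (a⁻¹ * x), mul_inv_cancel_left] }
  have hH : H1 ≤ T := fun h hh x => ⟨fun hx => by simpa using hx.mul hh (one_mem _),
    fun hx => by simpa using hx.mul (inv_mem hh) (one_mem _)⟩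
  have h1 : ∀ x, Cv p x → Cv p (uu * x) := by
    rintro x ⟨h, h1, h', h2, r, hr, e⟩
    have h3 : Cv p (uu * h * r) := by
      simp only [List.mem_cons, List.not_mem_nil, or_false] at hr
      rcases hr with rfl | rfl | rfl
      · simpa using (cv_base (p := p) (r := uu) (by simp)).mul (one_mem _) h1
      · exact cv_uu h1
      · simpa [uu_inv, y_inv, mul_assoc] using (cv_ku hp (inv_mem h1)).inv
    obtain ⟨a, a1, b, b1, r', r1, e'⟩ := h3.mul (one_mem _) h2
    exact ⟨a, a1, b, b1, r', r1, by rw [← e', map_mul, e, ← map_mul]; congr 1; group⟩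
  have hu : uu ∈ T := fun x => ⟨h1 x, fun hx => by simpa [← mul_assoc, uu_sq] using h1 _ hx⟩
  have hT : cl y [0,1,2,3,4,5,6,7,8,9,10,11] ≤ T := cl_le _ fun a ha => by
    by_cases e : a = 10
    · have ha : y 0 ∈ T := hH (gen_mem_cl _ (by simp))
      have hb : y 1 ∈ T := hH (gen_mem_cl _ (by simp))
      have := mul_mem (mul_mem hu hb) hu
      rw [u_b, mul_mem_cancel_right hb, mul_mem_cancel_right ha, mul_mem_cancel_left (mul_mem hb ha)] at this
      rwa [e]
    · exact hH (gen_mem_cl _ (by simp at ha ⊢; omega))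
  simpa using (hT (y_top ▸ mem_top g) 1).1 (cv_base (by simp))

end

theorem cover_hat (g : Hat) : ∃ z ∈ zpowers zeta, ∃ h ∈ H1, ∃ h' ∈ H1, ∃ r ∈ [1, uu, y 10], g = z * (h * r * h') := by
  obtain ⟨h, h1, h', h2, r, hr, e⟩ := cover (p := QuotientGroup.mk' (zpowers zeta))
    ((QuotientGroup.eq_one_iff _).2 (mem_zpowers _)) g
  exact ⟨g / (h * r * h'), QuotientGroup.eq_iff_div_mem.1 e, h, h1, h', h2, r, hr, by simp⟩

instance finiteH1 : Finite H1 := Finite.of_surjective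
  (fun q : Bool × FF => (⟨(if q.1 then y 11 else 1) * psi q.2,
    mul_mem (by split_ifs; exacts [l_mem, one_mem _]) (psi_mem _)⟩ : H1)) fun h => by
  obtain ⟨f, e | e⟩ := decH h.2
  · exact ⟨(false, f), Subtype.ext (by simpa using e.symm)⟩
  · exact ⟨(true, f), Subtype.ext (by simpa using e.symm)⟩

instance finiteHat : Finite Hat := by
  have : Finite (zpowers zeta) := finite_zpowers.2 (isOfFinOrder_iff_pow_eq_one.2 ⟨3, by norm_num, zeta_cube⟩)
  have : Finite {r : Hat | r ∈ [1, uu, y 10]} := List.finite_toSet _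
  refine Finite.of_surjective (fun q : zpowers zeta × H1 × H1 × {r : Hat | r ∈ [1, uu, y 10]} =>
    q.1.1 * (q.2.1.1 * q.2.2.2.1 * q.2.2.1.1)) fun g => ?_
  obtain ⟨z, h0, h, h1, h', h2, r, hr, e⟩ := cover_hat g
  exact ⟨(⟨z, h0⟩, ⟨h, h1⟩, ⟨h', h2⟩, ⟨r, hr⟩), e.symm⟩

/-- The element `w ^ 17`. -/
noncomputable def zz : Hat := ev y ww ^ 17

theorem rho_zz : rho zz = mv 15 := by rw [zz, map_pow, rho_ev (by decide +kernel), m_W]

theorem sg_zz : sg zz = 1 := by rw [zz, map_pow, sg_ev (by decide +kernel)]; rfl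

theorem rho_conj (g : Hat) : rho (g * zz * g⁻¹) = rho (zz ^ (sg g : ℤ)) := by
  rw [map_mul, map_mul, map_inv, map_zpow, rho_zz]
  refine conj_sg rho (fun a ha => ?_) g
  rw [eq_inv_iff_mul_eq_one, mul_assoc, mul_assoc, ← mul_assoc (mv 15), rho_y ha, m_Rg ha, ← rho_y ha,
    ← map_mul, y_sq, map_one]

theorem act_congr {g h : Hat} (e : rho g = rho h) (x : ℕ) : act g x = act h x := by rw [act_def, act_def, e]

theorem act_zz (g : Hat) (i : ℤ) (x : ℕ) : act g (act (zz ^ i) x) = act (zz ^ (sg g * i)) (act g x) := by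
  rw [← act_mul, ← act_mul]
  refine act_congr ?_ x
  rw [zpow_mul, map_mul, map_mul, map_zpow rho (zz ^ _), ← rho_conj, ← map_zpow, conj_zpow, ← map_mul, ← map_mul]
  simp

theorem a_R : act zz 0 = 306936 := by rw [act_def, rho_zz, ← ev_singleton mv, p_R]
theorem a_R2 : act zz 306936 = 613872 := by rw [act_def, rho_zz, ← ev_singleton mv, p_R2]

theorem rho_zz3 : rho zz ^ 3 = 1 := by rw [rho_zz, m_R3]

theorem act_zz_mod (i : ℤ) (x : ℕ) : act (zz ^ i) x = act (zz ^ (i % 3)) x :=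
  act_congr (by rw [map_zpow, map_zpow]; exact zpow_eq_zpow_emod' _ rho_zz3) x

theorem act_fib (i : ℤ) : act (zz ^ i) 0 ∈ [0, 306936, 613872] := by
  rw [act_zz_mod]
  have h : i % 3 = 0 ∨ i % 3 = 1 ∨ i % 3 = 2 := by omega
  rcases h with h | h | h <;> rw [h]
  · simp [act_one]
  · simp [a_R]
  · rw [zpow_two, act_mul, a_R, a_R2]; simp

theorem a_y {a x z : ℕ} (ha : a < 12) (h : (ev mv [a]).1 x = z) : act (y a) x = z := by
  rw [act_def, rho_y ha, ← ev_singleton mv, h]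

theorem a_k : act (y 10) 0 = 306808 := a_y (by norm_num) p_k
theorem a_u : act uu 0 = 31649 := act_ev (by decide +kernel) p_u

theorem t_def : y 15 = ev y gw * y 0 * (ev y gw)⁻¹ := by
  have := y_eq (u := 15 :: gw) (v := gw ++ [0]) (by decide +kernel)
  rw [ev_cons, ev_append, ev_singleton] at this
  rw [← this, mul_inv_cancel_right]

theorem a_zeta : act zeta 0 = act (zz ^ (2 : ℤ)) 0 := by
  rw [zpow_two, act_mul, a_R, a_R2, zeta, act_mul, act_H1 (y_H1 (by decide +kernel)), act_mul, a_k, act_mul, t_def,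
    act_mul, act_inv (act_ev (by decide +kernel) p_g2), act_mul, a_y (by norm_num) p_a,
    act_ev (by decide +kernel) p_g3, a_y (by norm_num) p_k2]

theorem sg_zeta : sg zeta = 1 := by simp [zeta, sg_y]

theorem act_zeta (n : ℤ) : act (zeta ^ n) 0 = act (zz ^ (2 * n)) 0 := by
  induction n using Int.induction_on with
  | zero => simp
  | succ n ih =>
    rw [add_comm, zpow_add, zpow_one, act_mul, ih, act_zz, a_zeta, ← act_mul, ← zpow_add, sg_zeta]
    congr 2; simp; ring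
  | pred n ih =>
    have h : act zeta⁻¹ 0 = act (zz ^ (-2 : ℤ)) 0 := by
      apply act_inv
      rw [act_zz, a_zeta, ← act_mul, ← zpow_add, sg_zeta]
      simp [act_one]
    rw [sub_eq_neg_add, zpow_add, zpow_neg_one, act_mul, ih, act_zz, h, ← act_mul, ← zpow_add, map_inv, sg_zeta]
    congr 2; simp; ring

theorem zeta_fix {z : Hat} (hz : z ∈ zpowers zeta) (h : act z 0 = 0) : z = 1 := by
  obtain ⟨n, rfl⟩ := hz
  dsimp only at h ⊢
  rw [act_zeta, act_zz_mod] at h
  rw [zpow_eq_zpow_emod' _ zeta_cube]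
  have h3 : n % 3 = 0 ∨ 2 * n % 3 = 1 ∨ 2 * n % 3 = 2 := by omega
  rcases h3 with h3 | h3 | h3
  · simp [h3]
  · rw [h3, zpow_one, a_R] at h; omega
  · rw [h3, zpow_two, act_mul, a_R, a_R2] at h; omega

/-- The stabiliser of the first block. -/
def SS : Subgroup Hat where
  carrier := {g | ∃ i : ℤ, act g 0 = act (zz ^ i) 0}
  one_mem' := ⟨0, by simp⟩
  mul_mem' := by
    rintro a b ⟨i, ha⟩ ⟨j, hb⟩
    exact ⟨_, by rw [act_mul, hb, act_zz, ha, ← act_mul, ← zpow_add]⟩
  inv_mem' := by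
    rintro a ⟨i, ha⟩
    refine ⟨sg a * -i, act_inv ?_⟩
    rw [act_zz, ha, ← act_mul, ← zpow_add, ← mul_assoc, ← Units.val_mul, Int.units_mul_self]
    simp [act_one]

theorem H1_le : H1 ≤ SS := fun h hh => ⟨0, by simp [act_H1 hh, act_one]⟩

theorem zeta_le : zpowers zeta ≤ SS := zpowers_le.2 ⟨2, a_zeta⟩

theorem k_not : y 10 ∉ SS := by
  rintro ⟨i, h⟩
  have := act_fib i
  rw [← h, a_k] at this
  simp at this

theorem mem_SS {g : Hat} (hg : g ∈ SS) : ∃ z ∈ zpowers zeta, ∃ h ∈ H1, g = z * h := by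
  obtain ⟨z, h0, h, h1, h', h2, r, hr, rfl⟩ := cover_hat g
  rw [mul_mem_cancel_left (zeta_le h0), mul_mem_cancel_right (H1_le h2), mul_mem_cancel_left (H1_le h1)] at hg
  simp only [List.mem_cons, List.not_mem_nil, or_false] at hr
  rcases hr with rfl | rfl | rfl
  · exact ⟨z, h0, _, mul_mem (mul_mem h1 (one_mem _)) h2, rfl⟩
  · obtain ⟨i, h⟩ := hg
    have := act_fib i
    rw [← h, a_u] at this
    simp at this
  · exact absurd hg k_not

theorem zz_zeta : zz * zeta = 1 := by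
  have h0 : act (zz * zeta) 0 = 0 := by
    rw [act_mul, a_zeta, ← act_mul, ← zpow_one_add, act_zz_mod]; simp [act_one]
  obtain ⟨z, h1, h, h2, e⟩ := mem_SS (g := zz * zeta) ⟨0, by simp [h0, act_one]⟩
  rw [e, act_mul, act_H1 h2] at h0
  rw [zeta_fix h1 h0, one_mul] at e
  obtain ⟨f, hf⟩ := decH_even (e ▸ h2) (by rw [map_mul, sg_zz, sg_zeta, one_mul])
  have : f ∈ center FF := mem_center_iff.2 fun g => by
    rw [← mul_inv_eq_one]
    apply faithful
    have h3 := rho_conj (psi g)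
    rw [sg_psi, Units.val_one, zpow_one] at h3
    have h4 : psi (g * f * (f * g)⁻¹) = psi g * zz * (psi g)⁻¹ * zz⁻¹ := by
      rw [map_mul, map_mul, map_inv, map_mul, ← hf]
      calc _ = psi g * zz * (zeta * (psi g)⁻¹ * zeta⁻¹) * zz⁻¹ := by group
        _ = _ := by rw [(zeta_psi g).inv_right.eq]; group
    rw [h4, map_mul, h3, ← map_mul, mul_inv_cancel, map_one]
  rw [fx_center, mem_bot] at this
  rw [hf, this, map_one]

end Cfsg.Agent.F24
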