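import Cfsg.Agent.Lib.F24.D0
import Cfsg.Agent.Lib.F24.D1
import Cfsg.Agent.Lib.F24.D2
import Cfsg.Agent.Lib.Mult.Net

set_option autoImplicit false
set_option maxRecDepth 100000

namespace Cfsg.Agent.F24

open Cfsg.Agent.CG Cfsg.Agent.Mult

noncomputable def s11 : List (ℕ × ℕ) := [(306936, Nat.shiftLeft (Nat.sub (Nat.pow 2 306936) 1) 306936),
  (1, copies 306936 3 mk0)]
noncomputable def s10 : List (ℕ × ℕ) := [(306936, Nat.shiftLeft (Nat.sub (Nat.pow 2 306936) 1) 306936),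
  (1, copies 306936 3 mk1)]
noncomputable def s0 : List (ℕ × ℕ) := [(306936, Nat.shiftLeft (Nat.sub (Nat.pow 2 306936) 1) 306936),
  (1, copies 306936 3 mk2),
  (2, copies 306936 3 mk3)]
noncomputable def s1 : List (ℕ × ℕ) := [(306936, Nat.shiftLeft (Nat.sub (Nat.pow 2 306936) 1) 306936),
  (1, copies 306936 3 mk4),
  (2, copies 306936 3 mk5)]
noncomputable def s2 : List (ℕ × ℕ) := [(306936, Nat.shiftLeft (Nat.sub (Nat.pow 2 306936) 1) 306936),
  (1, copies 306936 3 mk6),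
  (2, copies 306936 3 mk7),
  (4, copies 306936 3 mk8)]
noncomputable def s3 : List (ℕ × ℕ) := [(306936, Nat.shiftLeft (Nat.sub (Nat.pow 2 306936) 1) 306936),
  (1, copies 306936 3 mk9),
  (2, copies 306936 3 mk10),
  (4, copies 306936 3 mk11)]
noncomputable def s4 : List (ℕ × ℕ) := [(306936, Nat.shiftLeft (Nat.sub (Nat.pow 2 306936) 1) 306936),
  (1, copies 306936 3 mk12),
  (2, copies 306936 3 mk13),
  (4, copies 306936 3 mk14),
  (8, copies 306936 3 mk15)]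
noncomputable def s5 : List (ℕ × ℕ) := [(306936, Nat.shiftLeft (Nat.sub (Nat.pow 2 306936) 1) 306936),
  (1, copies 306936 3 mk16),
  (2, copies 306936 3 mk17),
  (4, copies 306936 3 mk18),
  (8, copies 306936 3 mk19)]
noncomputable def s6 : List (ℕ × ℕ) := [(306936, Nat.shiftLeft (Nat.sub (Nat.pow 2 306936) 1) 306936),
  (1, copies 306936 3 mk20),
  (2, copies 306936 3 mk21),
  (4, copies 306936 3 mk22),
  (8, copies 306936 3 mk23),
  (16, copies 306936 3 mk24)]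
noncomputable def s7 : List (ℕ × ℕ) := [(306936, Nat.shiftLeft (Nat.sub (Nat.pow 2 306936) 1) 306936),
  (1, copies 306936 3 mk25),
  (2, copies 306936 3 mk26),
  (4, copies 306936 3 mk27),
  (8, copies 306936 3 mk28),
  (16, copies 306936 3 mk29)]
noncomputable def s8 : List (ℕ × ℕ) := [(306936, Nat.shiftLeft (Nat.sub (Nat.pow 2 306936) 1) 306936),
  (1, copies 306936 3 mk30),
  (2, copies 306936 3 mk31),
  (4, copies 306936 3 mk32),
  (8, copies 306936 3 mk33),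
  (16, copies 306936 3 mk34),
  (32, copies 306936 3 mk35)]
noncomputable def s9 : List (ℕ × ℕ) := [(306936, Nat.shiftLeft (Nat.sub (Nat.pow 2 306936) 1) 306936),
  (1, copies 306936 3 mk36),
  (2, copies 306936 3 mk37),
  (4, copies 306936 3 mk38),
  (8, copies 306936 3 mk39),
  (16, copies 306936 3 mk40),
  (32, copies 306936 3 mk41)]
noncomputable def s12 : List (ℕ × ℕ) := [(153468, copies 306936 3 mk42),
  (76734, copies 306936 3 mk43),
  (38367, copies 306936 3 mk44),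
  (19184, copies 306936 3 mk45),
  (9592, copies 306936 3 mk46),
  (4796, copies 306936 3 mk47),
  (2398, copies 306936 3 mk48),
  (1199, copies 306936 3 mk49),
  (599, copies 306936 3 mk50),
  (600, copies 306936 3 mk51),
  (300, copies 306936 3 mk52),
  (150, copies 306936 3 mk53),
  (75, copies 306936 3 mk54),
  (37, copies 306936 3 mk55),
  (38, copies 306936 3 mk56),
  (19, copies 306936 3 mk57),
  (9, copies 306936 3 mk58),
  (10, copies 306936 3 mk59),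
  (5, copies 306936 3 mk60),
  (2, copies 306936 3 mk61),
  (3, copies 306936 3 mk62),
  (1, copies 306936 3 mk63),
  (2, copies 306936 3 mk64),
  (1, copies 306936 3 mk65),
  (2, copies 306936 3 mk66),
  (2, copies 306936 3 mk67),
  (3, copies 306936 3 mk68),
  (5, copies 306936 3 mk69),
  (9, copies 306936 3 mk70),
  (10, copies 306936 3 mk71),
  (19, copies 306936 3 mk72),
  (37, copies 306936 3 mk73),
  (38, copies 306936 3 mk74),
  (75, copies 306936 3 mk75),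
  (150, copies 306936 3 mk76),
  (300, copies 306936 3 mk77),
  (599, copies 306936 3 mk78),
  (600, copies 306936 3 mk79),
  (1199, copies 306936 3 mk80),
  (2398, copies 306936 3 mk81),
  (4796, copies 306936 3 mk82),
  (9592, copies 306936 3 mk83),
  (19184, copies 306936 3 mk84),
  (38367, copies 306936 3 mk85),
  (76734, copies 306936 3 mk86),
  (153468, copies 306936 3 mk87),
  (306936, mk88),
  (306936, Nat.shiftLeft (Nat.lor mk88 mk89) 306936),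
  (306936, mk89)]
noncomputable def s13 : List (ℕ × ℕ) := [(306936, mk89),
  (306936, Nat.shiftLeft (Nat.lor mk88 mk89) 306936),
  (306936, mk88),
  (153468, copies 306936 3 mk87),
  (76734, copies 306936 3 mk86),
  (38367, copies 306936 3 mk85),
  (19184, copies 306936 3 mk84),
  (9592, copies 306936 3 mk83),
  (4796, copies 306936 3 mk82),
  (2398, copies 306936 3 mk81),
  (1199, copies 306936 3 mk80),
  (600, copies 306936 3 mk79),
  (599, copies 306936 3 mk78),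
  (300, copies 306936 3 mk77),
  (150, copies 306936 3 mk76),
  (75, copies 306936 3 mk75),
  (38, copies 306936 3 mk74),
  (37, copies 306936 3 mk73),
  (19, copies 306936 3 mk72),
  (10, copies 306936 3 mk71),
  (9, copies 306936 3 mk70),
  (5, copies 306936 3 mk69),
  (3, copies 306936 3 mk68),
  (2, copies 306936 3 mk67),
  (2, copies 306936 3 mk66),
  (1, copies 306936 3 mk65),
  (2, copies 306936 3 mk64),
  (1, copies 306936 3 mk63),
  (3, copies 306936 3 mk62),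
  (2, copies 306936 3 mk61),
  (5, copies 306936 3 mk60),
  (10, copies 306936 3 mk59),
  (9, copies 306936 3 mk58),
  (19, copies 306936 3 mk57),
  (38, copies 306936 3 mk56),
  (37, copies 306936 3 mk55),
  (75, copies 306936 3 mk54),
  (150, copies 306936 3 mk53),
  (300, copies 306936 3 mk52),
  (600, copies 306936 3 mk51),
  (599, copies 306936 3 mk50),
  (1199, copies 306936 3 mk49),
  (2398, copies 306936 3 mk48),
  (4796, copies 306936 3 mk47),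
  (9592, copies 306936 3 mk46),
  (19184, copies 306936 3 mk45),
  (38367, copies 306936 3 mk44),
  (76734, copies 306936 3 mk43),
  (153468, copies 306936 3 mk42)]
noncomputable def s14 : List (ℕ × ℕ) := [(153468, copies 306936 3 mk90),
  (76734, copies 306936 3 mk91),
  (38367, copies 306936 3 mk92),
  (19184, copies 306936 3 mk93),
  (9592, copies 306936 3 mk94),
  (4796, copies 306936 3 mk95),
  (2398, copies 306936 3 mk96),
  (1199, copies 306936 3 mk97),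
  (599, copies 306936 3 mk98),
  (600, copies 306936 3 mk99),
  (300, copies 306936 3 mk100),
  (150, copies 306936 3 mk101),
  (75, copies 306936 3 mk102),
  (37, copies 306936 3 mk103),
  (38, copies 306936 3 mk104),
  (19, copies 306936 3 mk105),
  (9, copies 306936 3 mk106),
  (10, copies 306936 3 mk107),
  (5, copies 306936 3 mk108),
  (2, copies 306936 3 mk109),
  (3, copies 306936 3 mk110),
  (1, copies 306936 3 mk111),
  (2, copies 306936 3 mk112),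
  (1, copies 306936 3 mk113),
  (2, copies 306936 3 mk114),
  (2, copies 306936 3 mk115),
  (3, copies 306936 3 mk116),
  (5, copies 306936 3 mk117),
  (9, copies 306936 3 mk118),
  (10, copies 306936 3 mk119),
  (19, copies 306936 3 mk120),
  (37, copies 306936 3 mk121),
  (38, copies 306936 3 mk122),
  (75, copies 306936 3 mk123),
  (150, copies 306936 3 mk124),
  (300, copies 306936 3 mk125),
  (599, copies 306936 3 mk126),
  (600, copies 306936 3 mk127),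
  (1199, copies 306936 3 mk128),
  (2398, copies 306936 3 mk129),
  (4796, copies 306936 3 mk130),
  (9592, copies 306936 3 mk131),
  (19184, copies 306936 3 mk132),
  (38367, copies 306936 3 mk133),
  (76734, copies 306936 3 mk134),
  (153468, copies 306936 3 mk135),
  (306936, mk136),
  (306936, Nat.shiftLeft (Nat.lor mk136 mk137) 306936),
  (306936, mk137)]
noncomputable def s15 : List (ℕ × ℕ) := [(306936, Nat.sub (Nat.pow 2 306936) 1),
  (306936, Nat.shiftLeft (Nat.sub (Nat.pow 2 306936) 1) 306936)]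
noncomputable def st : List (List (ℕ × ℕ)) := [s0,s1,s2,s3,s4,s5,s6,s7,s8,s9,s10,s11,s12,s13,s14,s15]
noncomputable def t3m : List ℕ := [1,0,2,1,3,2,4,3,5,4,6,5,7,6,12,7]
noncomputable def h2w : List ℕ := [1,2,3,8,4,3,2,1,0,1,2,3,4,8,3,2,1]
noncomputable def h3w : List ℕ := [5,4,3,8,2,3,4,1,2,3,8,5,4,3,2,1,0,1,2,3,4,5,8,3,2,1,4,3,2,8,3,4,5]
noncomputable def tw : List ℕ := [1,2,3,4,0,1,2,3,8,9,5,3,4,2,3,8,5,6,4,5,2,3,4,1,2,3,8,9,5,2,3,4,1,2,3,8,7,6,5,4,3,2,1,0,1,2,3,4,5,6,7,8,3,2,1,4,3,2,5,9,8,3,2,1,4,3,2,5,4,6,5,8,3,2,4,3,5,9,8,3,2,1,0,4,3,2,1]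
noncomputable def tW : List ℕ := [13,9,5,13,6,7,4,5,6,3,4,5,13,9,6,7,4,5,6,3,4,5,13,12,7,6,5,4,3,2,3,4,5,6,7,12,13,5,4,3,6,5,4,7,6,9,13,5,4,3,6,5,4,7,6,13,5,9,13]
noncomputable def xw : List ℕ := [5,1,6,4,9,3,2,8]
noncomputable def kaw : List ℕ := [7,6,3,4,3,1,2,1]
noncomputable def Wg : List (List ℕ) := [[9,8,5,6,4,5,3,4,2,3,8,1,2,3,4,5,6,7,3,8,9,2,3,8,3,4,5,2,3,4,1,2,3,8,9,4,5,3,4,1,2,3,8,6,5,4,3,2,1,8,5,3,4,2,3,8,9,6,5,4,3,8,2,3,4,5,6,4,3,8,9,5,4,3,8,2,3,4,5,2,3,4,3,2,3,9,8,9],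
  [6,5,4,3,8,9,8,7,5,6,4,5,3,4,2,3,8,1,2,3,4,5,6,7,3,8,9,4,2,3,8,4,5,2,3,4,1,2,3,8,9,4,5,3,4,1,2,3,8,6,5,4,3,2,1,2,3,8,9,4,3,8,2,3,4,5,6,9,8,3,4,2,3,8,9,5,4,3,8,2,3,4,5,4,9,8,3,9,8,9],
  [8,7,5,6,4,5,3,4,2,3,8,1,2,3,4,5,6,7,3,8,9,4,2,3,8,4,5,2,3,4,1,2,3,8,9,4,5,3,4,1,2,3,8,6,5,4,3,2,1,4,3,8,9,2,3,8,4,5,3,4,2,3,8,9,6,5,4,3,8,2,3,4,5,6,5,9,8,2,3,4,9,8,3,8],
  [9,3,8,6,7,5,6,4,5,3,4,2,3,8,1,2,3,4,5,6,7,3,8,9,4,1,2,3,8,3,4,5,2,3,4,1,2,3,8,9,5,3,4,1,2,3,8,6,5,4,3,2,1,8,9,4,3,8,2,3,4,5,6,2,3,4,5,2,3,4,9,8,3,9,8,9],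
  [8,9,7,6,4,5,3,4,2,3,8,1,2,3,4,5,6,7,2,3,8,9,4,1,2,3,8,3,4,5,2,3,4,1,2,3,8,9,5,3,4,1,2,3,8,6,5,4,3,2,1,9,8,3,4,5,6,9,8,3,4,5,9,8,2,3,4,8,3,8],
  [6,5,3,4,2,3,8,9,7,6,5,4,3,8,1,2,3,4,5,6,7,8,9,3,8,3,4,5,2,3,4,1,2,3,8,9,5,3,4,1,2,3,8,6,5,4,3,2,1,9,3,8,2,3,4,5,3,4,3,2,9,8],
  [5,4,3,8,9,7,6,4,5,3,4,2,3,8,1,2,3,4,5,6,7,4,3,8,9,2,3,8,3,4,5,2,3,4,1,2,3,8,9,8,4,5,2,3,4,1,2,3,8,6,5,4,3,2,1,9,4,3,8,2,3,4,5,6,5,4,3,8,2,3,4,5,4,3,8,2,3,4,9,8,3,8],
  [4,3,8,9,3,8,6,7,5,6,4,5,3,4,2,3,8,1,2,3,4,5,6,7,4,3,8,9,2,3,8,3,4,5,2,3,4,1,2,3,8,9,4,5,2,3,4,1,2,3,8,6,5,4,3,2,1,2,3,4,5,6,9,3,8,2,3,4,5,4,3,8,2,3,4,3,2,8,3,9,8,9]]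
noncomputable def vw : List ℕ := [1,2,3,8,4,5,3,4,2,3,8,6,7,5,6,4,5,3,4,2,3,8,0,1,2,3,4,5,6,7]
noncomputable def gw : List ℕ := [1,2,3,4,0,1,2,3,8,9,5,3,4,2,3,8,5,6,4,5,2,3,4,1,2,3,8,9,5,2,3,4,1,2,3,8,7,6,5,4,3,2,1]
/- t mid = 0 -/
/- es = 2 -/
/- xm = 31671 -/
/- xa = 31649 -/
/- xc = 31650 -/
/- xj = 31546 -/
/- xt = 20438 -/
/- ux0 = 31649 -/
/- p1 = 306808 -/
/- p2 = 812904 -/
/- p3 = 505968 -/
/- p4 = 613744 -/
/- p5 = 613872 -/
/- lk = 306809 -/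
/- chain0 = 0 -/
/-  rounds = 10 -/
/-  size = 1080 -/
/- chain1 = 31659 -/
/-  rounds = 8 -/
/-  size = 3159 -/
/- chain2 = 306809 -/
/-  rounds = 9 -/
/-  size = 56 -/
/- chain3 = 31649 -/
/-  rounds = 6 -/
/-  size = 27 -/
/- chain4 = 31394 -/
/-  rounds = 4 -/
/-  size = 16 -/
/- chain5 = 30926 -/
/-  rounds = 2 -/
/-  size = 5 -/
/- chain6 = 31654 -/
/-  rounds = 2 -/
/-  size = 4 -/
/- chain7 = 28354 -/
/-  rounds = 1 -/
/-  size = 3 -/
/- chain8 = 31655 -/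
/-  rounds = 1 -/
/-  size = 2 -/
/- Crounds = 9 -/
/- size = 31671 -/
/- Krounds = 9 -/
/- size = 31671 -/

end Cfsg.Agent.F24
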