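import Cfsg.Agent.Lib.Mult.PB
import Cfsg.Agent.Lib.TCX.Ext

/-! General lemmas: perfect groups, sections of central extensions, involutions. -/

set_option autoImplicit false

namespace Cfsg.Agent.F24

open Cfsg.Agent.CG Cfsg.Agent.Mult Subgroup
open scoped commutatorElement

section
variable {Γ : Type*} [Group Γ]

theorem inv_of_sq {a : Γ} (h : a * a = 1) : a⁻¹ = a := inv_eq_of_mul_eq_one_right h

theorem comm_of_sq {a b : Γ} (ha : a * a = 1) (hb : b * b = 1) (h : a * b * (a * b) = 1) : Commute a b := by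
  have := inv_of_sq h
  rw [mul_inv_rev, inv_of_sq ha, inv_of_sq hb] at this
  exact this.symm

theorem braid_of_cube {a b : Γ} (ha : a * a = 1) (hb : b * b = 1) (h : (a * b) ^ 3 = 1) :
    a * b * a = b * a * b := by
  have h1 : a * b * a * (b * a * b) = 1 := by rw [← h]; simp only [pow_succ, pow_zero, one_mul, mul_assoc]
  rw [eq_inv_of_mul_eq_one_left h1]
  simp only [mul_inv_rev, inv_of_sq ha, inv_of_sq hb, mul_assoc]

theorem conj_of_cube {a b : Γ} (ha : a * a = 1) (hb : b * b = 1) (h : (a * b) ^ 3 = 1) :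
    (a * b) * a * (a * b)⁻¹ = b := by
  rw [braid_of_cube ha hb h, mul_inv_rev, inv_of_sq ha, inv_of_sq hb]
  calc b * a * b * (b * a) = b * a * (b * b) * a := by group
    _ = b * (a * a) := by rw [hb]; group
    _ = b := by rw [ha, mul_one]

theorem mul_eq_commutator {a b : Γ} (ha : a * a = 1) (hb : b * b = 1) (h : (a * b) ^ 3 = 1) : a * b = ⁅b, a⁆ := by
  rw [commutatorElement_def, inv_of_sq ha, inv_of_sq hb, ← braid_of_cube ha hb h, mul_assoc, ha, mul_one]

theorem eq_of_cube_of_comm {a b : Γ} (ha : a * a = 1) (hb : b * b = 1) (h : (a * b) ^ 3 = 1) (hc : Commute a b) :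
    a = b := by
  have := conj_of_cube ha hb h
  rw [← this, hc.eq, mul_assoc b, ha, mul_one, mul_inv_rev, inv_of_sq ha, inv_of_sq hb, ← mul_assoc, ← hc.eq,
    mul_assoc, hb, mul_one]

theorem ev_reverse {y : ℕ → Γ} {w : List ℕ} (h : ∀ a ∈ w, y a * y a = 1) : ev y w.reverse = (ev y w)⁻¹ := by
  induction w with
  | nil => simp
  | cons a w ih =>
    rw [List.reverse_cons, ev_append, ih fun b hb => h b (by simp [hb]), ev_singleton, ev_cons, mul_inv_rev,
      inv_of_sq (h a (by simp))]

theorem commute_cl {y : ℕ → Γ} {S : List ℕ} {g : Γ} (h : ∀ a ∈ S, Commute g (y a)) {x : Γ} (hx : x ∈ cl y S) :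
    Commute g x := by
  have : cl y S ≤ centralizer {g} := cl_le _ fun a ha => mem_centralizer_singleton_iff.2 (h a ha).symm.eq
  exact (mem_centralizer_singleton_iff.1 (this hx) : Commute x g).symm

theorem ev_mem_cl (y : ℕ → Γ) {S w : List ℕ} (h : allL (fun a => memL a S) w = true) : ev y w ∈ cl y S :=
  ev_mem _ fun a ha => gen_mem_cl _ ((memL_iff _ _).1 ((allL_iff _ _).1 h a ha))

/-- A group generated by conjugate involutions with a relator of odd length is perfect. -/
theorem perfect_cl {y : ℕ → Γ} {S : List ℕ} {a : ℕ} (ha : y a * y a = 1)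
    (h : ∀ b ∈ S, y b * y a ∈ ⁅cl y S, cl y S⁆) {w : List ℕ} (hw : ∀ b ∈ w, b ∈ S) (ho : Odd w.length)
    (h1 : ev y w = 1) : Group.IsPerfect (cl y S) := by
  rw [isPerfect_iff]
  refine le_antisymm (commutator_le_self _) ?_
  have key : ∀ w : List ℕ, (∀ b ∈ w, b ∈ S) → ev y w * y a ^ w.length ∈ ⁅cl y S, cl y S⁆ := by
    intro w hw
    induction w with
    | nil => simp
    | cons b w ih =>
      have h2 := ih fun c hc => hw c (by simp [hc])
      have h3 := hw b (by simp)
      have : ev y (b :: w) * y a ^ (b :: w).length =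
          ⁅y b, ev y w * y a ^ w.length⁆ * (ev y w * y a ^ w.length) * (y b * y a) := by
        rw [ev_cons, List.length_cons, pow_succ, commutatorElement_def]; group
      rw [this]
      exact mul_mem (mul_mem (commutator_mem_commutator (gen_mem_cl _ h3) (commutator_le_self _ h2)) h2) (h b h3)
  have h2 := key w hw
  obtain ⟨n, hn⟩ := ho
  rw [h1, hn, one_mul, pow_succ, pow_mul, sq, ha, one_pow, one_mul] at h2
  refine cl_le _ fun b hb => ?_
  have := mul_mem (h b hb) h2
  rwa [mul_assoc, ha, mul_one] at this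

/-- Homomorphisms of a perfect group that agree modulo the centre agree. -/
theorem agree {P E : Type*} [Group P] [Group E] [Group.IsPerfect P] (s t : P →* E)
    (h : ∀ x, (s x)⁻¹ * t x ∈ center E) : s = t := by
  have : commutator P ≤ s.eqLocus t := by
    rw [commutator_def, commutator_le]
    intro x _ z _
    change s _ = t _
    rw [map_commutatorElement, map_commutatorElement]
    have := commutator_congr (σ := QuotientGroup.mk' (center E)) (by rw [QuotientGroup.ker_mk'])
      (x := s x) (x' := t x) (y := s z) (y' := t z) (QuotientGroup.eq.2 (h x)) (QuotientGroup.eq.2 (h z))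
    exact this
  exact MonoidHom.ext fun x => this Group.IsPerfect.mem_commutator

/-- A central extension splits over a perfect group with trivial multiplier. -/
theorem exists_section {E G F : Type} [Group E] [Finite E] [Group G] [Group F] [Group.IsPerfect F] (hF : MB F [])
    {σ : E →* G} (hs : Function.Surjective σ) (hc : σ.ker ≤ center E) {φ : F →* G} (hφ : Function.Injective φ) :
    ∃ s : F →* E, ∀ f, σ (s f) = φ f := by
  let K := φ.range.comap σ
  have hK : (⁅K, K⁆).map σ = φ.range := by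
    rw [map_commutator, map_comap_eq_self_of_surjective hs]
    have := Group.IsPerfect.range φ
    exact commutator_eq_self
  have hm : ∀ x : (⁅K, K⁆ : Subgroup E), σ x ∈ φ.range := fun x => hK ▸ mem_map_of_mem σ x.2
  let τ : (⁅K, K⁆ : Subgroup E) →* F := (MonoidHom.ofInjective hφ).symm.toMonoidHom.comp
    ((σ.comp (⁅K, K⁆ : Subgroup E).subtype).codRestrict φ.range hm)
  have hτ : ∀ x, φ (τ x) = σ x := fun x => MonoidHom.apply_ofInjective_symm hφ _
  have hsur : Function.Surjective τ := fun f => by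
    obtain ⟨x, h1, h2⟩ : φ f ∈ (⁅K, K⁆).map σ := hK ▸ ⟨f, rfl⟩
    exact ⟨⟨x, h1⟩, hφ ((hτ _).trans h2)⟩
  have hp : Group.IsPerfect (⁅K, K⁆ : Subgroup E) := by
    rw [isPerfect_iff]
    refine le_antisymm (commutator_le_self _) ?_
    rw [commutator_le]
    intro x hx z hz
    obtain ⟨x', h1, h2⟩ : σ x ∈ (⁅K, K⁆).map σ := hK ▸ hx
    obtain ⟨z', h3, h4⟩ : σ z ∈ (⁅K, K⁆).map σ := hK ▸ hz
    rw [← commutator_congr hc h2 h4]
    exact commutator_mem_commutator h1 h3
  obtain ⟨ks, g, c⟩ := hF _ τ ⟨hsur, fun x hx => by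
    have : x.1 ∈ center E := hc (by rw [MonoidHom.mem_ker, ← hτ, MonoidHom.mem_ker.1 hx, map_one])
    rw [mem_center_iff] at this ⊢
    exact fun g => Subtype.ext (this g), fun x _ => Group.IsPerfect.mem_commutator⟩
  cases g
  have hinj : Function.Injective τ := (MonoidHom.ker_eq_bot_iff τ).1 (by simpa using c)
  let e := MulEquiv.ofBijective τ ⟨hinj, hsur⟩
  refine ⟨(⁅K, K⁆ : Subgroup E).subtype.comp e.symm.toMonoidHom, fun f => ?_⟩
  change σ (e.symm f) = _
  rw [← hτ]
  exact congrArg φ (e.apply_symm_apply f)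

/-- An element of order prime to `6!` whose powers move `l` inside a list of six elements fixes `l`. -/
theorem commute_of_six {q l : Γ} {n : ℕ} (hq : q ^ 13 ^ n = 1) {L : List Γ} (hL : L.length ≤ 6)
    (h : ∀ i : ℕ, q ^ i * l * (q ^ i)⁻¹ ∈ L) : Commute q l := by
  classical
  obtain ⟨i, hi, j, hj, hne, e⟩ := Finset.exists_ne_map_eq_of_card_lt_of_maps_to (s := Finset.range 7)
    (t := L.toFinset) (by simpa using Nat.lt_succ_of_le ((List.toFinset_card_le L).trans hL))
    (f := fun i => q ^ i * l * (q ^ i)⁻¹) (fun i _ => by simpa using h i)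
  wlog hij : i < j generalizing i j
  · exact this j hj i hi hne.symm e.symm (by omega)
  obtain ⟨d, rfl⟩ := Nat.exists_eq_add_of_lt hij
  have hc : Commute (q ^ (d + 1)) l := by
    have e : q ^ i * l * (q ^ i)⁻¹ = q ^ (i + d + 1) * l * (q ^ (i + d + 1))⁻¹ := e
    rw [add_assoc, pow_add] at e
    calc q ^ (d + 1) * l = (q ^ i)⁻¹ * (q ^ i * q ^ (d + 1) * l * (q ^ i * q ^ (d + 1))⁻¹) * q ^ i * q ^ (d + 1) := by
          group
      _ = l * q ^ (d + 1) := by rw [← e]; group
  have hd : (d + 1).Coprime (orderOf q) := by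
    refine Nat.Coprime.coprime_dvd_right (orderOf_dvd_of_pow_eq_one hq) (Nat.Coprime.pow_right _ ?_)
    rw [Finset.mem_range] at hj
    exact (Nat.coprime_of_lt_prime (by omega) (by omega) (by norm_num)).symm
  obtain ⟨m, hm⟩ := exists_pow_eq_self_of_coprime hd
  rw [← hm]
  exact hc.pow_left m

/-- An automorphism that keeps the image of a finite group restricts to it. -/
theorem restrict_aut {P : Type*} [Group P] [Finite P] {ι : P →* Γ} (hι : Function.Injective ι) (α : MulAut Γ)
    (h : ∀ x, α (ι x) ∈ ι.range) : ∃ β : MulAut P, ∀ x, ι (β x) = α (ι x) := by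
  let f : P →* P := (MonoidHom.ofInjective hι).symm.toMonoidHom.comp
    ((α.toMonoidHom.comp ι).codRestrict ι.range h)
  have hf : ∀ x, ι (f x) = α (ι x) := fun x => MonoidHom.apply_ofInjective_symm hι _
  have hi : Function.Injective f := fun x z e => hι (α.injective (by rw [← hf, ← hf, e]))
  exact ⟨MulEquiv.ofBijective f (Finite.injective_iff_bijective.1 hi), hf⟩

/-- A perfect central extension of a group with two outer automorphism classes. -/
theorem out_le_two {P : Type*} [Group P] [Group.IsPerfect P] {m : P} (hm : m ∈ center P) [(zpowers m).Normal]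
    (h2 : Nat.card (Out (P ⧸ zpowers m)) = 2) (α β : MulAut P) (hα : α m = m) (hβ : β m = m) :
    (∃ c, ∀ x, α x = c * x * c⁻¹) ∨ (∃ c, ∀ x, β x = c * x * c⁻¹) ∨ ∃ c, ∀ x, α x = c * β x * c⁻¹ := by
  have hz : ∀ γ : MulAut P, γ m = m → (zpowers m).map (γ : P →* P) = zpowers m := fun γ h => by
    rw [MonoidHom.map_zpowers]; exact congrArg _ h
  let bar : ∀ γ : MulAut P, γ m = m → MulAut (P ⧸ zpowers m) := fun γ h => QuotientGroup.congr _ _ γ (hz γ h)
  have key : ∀ (γ δ : MulAut P) (h : γ m = m) (h' : δ m = m),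
      ((bar γ h : MulAut _) : Out (P ⧸ zpowers m)) = (bar δ h' : MulAut _) → ∃ c, ∀ x, γ x = c * δ x * c⁻¹ := by
    intro γ δ h h' e
    obtain ⟨q, hq⟩ := QuotientGroup.eq_iff_div_mem.1 e
    obtain ⟨c, rfl⟩ := QuotientGroup.mk_surjective q
    have := agree ((MulAut.conj c * δ : MulAut P) : P →* P) γ fun x => by
      refine zpowers_le.2 hm (QuotientGroup.eq.1 ?_)
      have h1 := congrArg (fun ε : MulAut (P ⧸ zpowers m) => ε (x : P ⧸ zpowers m)) (eq_div_iff_mul_eq'.1 hq)
      exact h1
    exact ⟨c, fun x => (congrArg (fun f : P →* P => f x) this).symm⟩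
  obtain ⟨z, -, hz⟩ := (Nat.card_eq_two_iff' ((bar 1 rfl : MulAut _) : Out (P ⧸ zpowers m))).1 h2
  by_cases e1 : ((bar α hα : MulAut _) : Out (P ⧸ zpowers m)) = (bar 1 rfl : MulAut _)
  · exact Or.inl (key α 1 hα rfl e1)
  by_cases e2 : ((bar β hβ : MulAut _) : Out (P ⧸ zpowers m)) = (bar 1 rfl : MulAut _)
  · exact Or.inr (Or.inl (key β 1 hβ rfl e2))
  exact Or.inr (Or.inr (key α β hα hβ ((hz _ e1).trans (hz _ e2).symm)))

theorem inner_of_out_one (h : Nat.card (Out Γ) = 1) (α : MulAut Γ) : ∃ c, ∀ x, α x = c * x * c⁻¹ := by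
  have : α ∈ Inn Γ := by rw [index_eq_one.1 h]; trivial
  obtain ⟨c, rfl⟩ := this
  exact ⟨c, fun _ => rfl⟩

end

end Cfsg.Agent.F24
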