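import Cfsg.Agent.Lib.F24.Lists
import Cfsg.Agent.Lib.F24.Gen
import Cfsg.Agent.Lib.Id.Pres
import Cfsg.Agent.Lib.Id.Fi23
import Cfsg.Agent.Lib.Grp.Fi23.Out
import Cfsg.Agent.S2079

/-! Facts about the table group `Fi23`. -/

set_option autoImplicit false
set_option maxRecDepth 100000

namespace Cfsg.Agent.F24

open Cfsg.Agent.CG Cfsg.Agent.Mult Cfsg.Agent.TCX Subgroup
open scoped commutatorElement

/-- The table group. -/
abbrev FF : Type := CG.Fi23.PG

/-- The ninth power of `bcdefgh`. -/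
def MW : List ℕ := (List.replicate 9 [1,2,3,4,5,6,8]).flatten

/-- The further letters. -/
noncomputable def DE : List (List ℕ) :=
  [MW, h2w, h3w, tw, kaw ++ tw ++ kaw.reverse, kbw ++ tw ++ kbw.reverse]

/-- The letters in the table group. -/
noncomputable def DF : List (List ℕ) := [0] :: [1] :: [2] :: [3] :: [4] :: [5] :: [6] :: [7] :: [8] :: [9] :: [] :: [] :: DE

/-- The values of the letters in the table group. -/
noncomputable def fx : ℕ → FF := ext CG.Fi23.act.gen DF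

theorem fx_nth (a : ℕ) : fx a = ev CG.Fi23.act.gen (nth DF [] a) := rfl

/-- Two words agree in the table group. -/
noncomputable def eqF (u v : List ℕ) : Bool := eqW CG.Fi23.act.app CG.Fi23.bs (subst DF u) (subst DF v)

theorem fx_eq {u v : List ℕ} (h : eqF u v = true) : ev fx u = ev fx v := by
  rw [fx, ← ev_subst, ← ev_subst]; exact CG.Fi23.base.ev_eq h

theorem fx_ne {u v : List ℕ} (h : eqF u v = false) : ev fx u ≠ ev fx v := by
  rw [fx, ← ev_subst, ← ev_subst]; exact CG.Fi23.act.ev_ne_of_eqW CG.Fi23.base.1 h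

theorem fx_rels {R : List (List ℕ)} (h : allL (fun r => eqF r []) R = true) : ∀ r ∈ R, ev fx r = 1 :=
  fun r hr => fx_eq ((allL_iff _ _).1 h r hr)

theorem fx_sq (a : ℕ) : fx a * fx a = 1 := by
  by_cases ha : a < 18
  · simpa using fx_eq ((allLt_iff (fun a => eqF [a, a] []) 18).1 (by decide +kernel) a ha)
  · rw [fx, TCX.ext, nth_triv _ _ (by simp [DF, DE]; omega)]; simp

theorem fx_inv (a : ℕ) : (fx a)⁻¹ = fx a := inv_of_sq (fx_sq a)

theorem fx_top : cl fx [0,1,2,3,4,5,6,7,8,9] = ⊤ := (cl_ext _ (by decide +kernel)).trans CG.Fi23.clS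

attribute [irreducible] fx

theorem fx_card : Nat.card FF = 4089470473293004800 := CG.Fi23.card

/-- The centraliser of the letter `12`. -/
noncomputable abbrev CC : Subgroup FF := cl fx [0,1,2,3,4,5,6,8,9]

theorem fx_idx : Nat.card FF ≤ 31671 * Nat.card CC := by
  have := (TCX.Fi23.l0_ok FF fx (fx_rels (by decide +kernel)) inferInstance).2
  rwa [fx_top, card_top] at this

theorem fx_center : center FF = ⊥ :=
  Id.center_eq_bot_of_cent CG.Fi23.base CG.Fi23.centP [17, 19] (by decide +kernel)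

theorem fx_adj {S : List ℕ} {a b : ℕ} (h : eqF [b, a, b, a, b, a] [] = true) (ha : a ∈ S) (hb : b ∈ S) :
    fx b * fx a ∈ ⁅cl fx S, cl fx S⁆ := by
  rw [mul_eq_commutator (fx_sq b) (fx_sq a) (by simpa [pow_succ, mul_assoc] using fx_eq h)]
  exact commutator_mem_commutator (gen_mem_cl _ ha) (gen_mem_cl _ hb)

theorem mul_trans {Γ : Type*} [Group Γ] {N : Subgroup Γ} {a b c : Γ} (hb : b * b = 1) (h1 : a * b ∈ N)
    (h2 : b * c ∈ N) : a * c ∈ N := by
  have := mul_mem h1 h2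
  rwa [mul_assoc, ← mul_assoc b, hb, one_mul] at this

theorem perfect_aux {S : List ℕ} (h : ∀ a ∈ [0,1,2,3,4,5,6,8,9], a ∈ S) :
    ∀ a ∈ [0,1,2,3,4,5,6,8,9], fx a * fx 3 ∈ ⁅cl fx S, cl fx S⁆ := by
  have h2 := fx_adj (a := 3) (b := 2) (by decide +kernel) (h _ (by simp)) (h _ (by simp))
  have h4 := fx_adj (a := 3) (b := 4) (by decide +kernel) (h _ (by simp)) (h _ (by simp))
  have h8 := fx_adj (a := 3) (b := 8) (by decide +kernel) (h _ (by simp)) (h _ (by simp))
  have h1 := mul_trans (fx_sq _) (fx_adj (a := 2) (b := 1) (by decide +kernel) (h _ (by simp)) (h _ (by simp))) h2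
  have h0 := mul_trans (fx_sq _) (fx_adj (a := 1) (b := 0) (by decide +kernel) (h _ (by simp)) (h _ (by simp))) h1
  have h5 := mul_trans (fx_sq _) (fx_adj (a := 4) (b := 5) (by decide +kernel) (h _ (by simp)) (h _ (by simp))) h4
  have h6 := mul_trans (fx_sq _) (fx_adj (a := 5) (b := 6) (by decide +kernel) (h _ (by simp)) (h _ (by simp))) h5
  have h9 := mul_trans (fx_sq _) (fx_adj (a := 8) (b := 9) (by decide +kernel) (h _ (by simp)) (h _ (by simp))) h8
  have h3 : fx 3 * fx 3 ∈ ⁅cl fx S, cl fx S⁆ := by rw [fx_sq]; exact one_mem _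
  simp only [List.forall_mem_cons, List.not_mem_nil, false_imp_iff, implies_true, and_true]
  exact ⟨h0, h1, h2, h3, h4, h5, h6, h8, h9⟩

instance perfectCC : Group.IsPerfect CC :=
  perfect_cl (fx_sq 3) (perfect_aux fun _ h => h) (w := (List.replicate 9 [0,1,2,3,4,5,8]).flatten) (by decide)
    (by decide) (fx_eq (v := []) (by decide +kernel))

instance perfectFF : Group.IsPerfect FF := by
  rw [← Group.IsPerfect.top_iff, ← fx_top]
  have h := perfect_aux (S := [0,1,2,3,4,5,6,7,8,9]) (by decide)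
  refine perfect_cl (fx_sq 3) (fun b hb => ?_) (w := (List.replicate 9 [0,1,2,3,4,5,8]).flatten) (by decide)
    (by decide) (fx_eq (v := []) (by decide +kernel))
  by_cases e : b = 7
  · rw [e]
    exact mul_trans (fx_sq _) (fx_adj (a := 6) (b := 7) (by decide +kernel) (by simp) (by simp)) (h 6 (by simp))
  · exact h b (by simp at hb ⊢; omega)

theorem m_mem : fx 12 ∈ CC := by
  have : fx 12 = ev fx MW := by simpa using fx_eq (u := [12]) (v := MW) (by decide +kernel)
  rw [this]; exact ev_mem_cl _ (by decide +kernel)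

theorem m_comm {c : FF} (hc : c ∈ CC) : Commute (fx 12) c :=
  commute_cl (fun a ha => by
    simpa [commute_iff_eq] using fx_eq ((allL_iff (fun a => eqF [12, a] [a, 12]) _).1 (by decide +kernel) a ha)) hc

/-- The central involution of `CC`. -/
noncomputable def mC : CC := ⟨fx 12, m_mem⟩

theorem mC_center : mC ∈ center CC := mem_center_iff.2 fun g => Subtype.ext (m_comm g.2).symm.eq

instance normalmC : (zpowers mC).Normal :=
  ⟨fun n hn g => by rw [mem_center_iff.1 (zpowers_le.2 mC_center hn) g, mul_inv_cancel_right]; exact hn⟩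

/-- The letters of `Fi22`. -/
def TR : List (List ℕ) := [[0],[1],[2],[3],[4],[5],[6],[8],[9]]

theorem TR_mem (a : ℕ) : ext fx TR a ∈ CC := by
  by_cases ha : a < 9
  · exact ev_mem_cl _ ((allLt_iff (fun a => allL (fun a => memL a [0,1,2,3,4,5,6,8,9]) (nth TR [] a)) 9).1
      (by decide +kernel) a ha)
  · rw [TCX.ext, nth_triv _ _ (by simp [TR]; omega)]; exact one_mem _

theorem out_quot : Nat.card (Out (CC ⧸ zpowers mC)) = 2 := by
  let zc : ℕ → CC := fun a => ⟨ext fx TR a, TR_mem a⟩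
  let z : ℕ → CC ⧸ zpowers mC := fun a => QuotientGroup.mk' _ (zc a)
  have hz : ∀ r, bor (eqF (subst TR r) []) (eqF (subst TR r) [12]) = true → ev z r = 1 := by
    intro r h
    have e : ((ev zc r : CC) : FF) = ev fx (subst TR r) := by rw [ev_subst]; exact map_ev zc CC.subtype r
    rw [← map_ev, QuotientGroup.mk'_apply, QuotientGroup.eq_one_iff]
    rcases (bor_eq _ _).1 h with h | h
    · rw [show ev zc r = 1 from Subtype.ext (e.trans (fx_eq h))]; exact one_mem _
    · rw [show ev zc r = mC from Subtype.ext (e.trans (by simpa [mC] using fx_eq h))]; exact mem_zpowers _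
  have hinv : ∀ a, z (invOf TCX.Fi22.invL a) = (z a)⁻¹ := by
    intro a
    by_cases ha : a < 9
    · have := hz _ ((allLt_iff (fun a => bor (eqF (subst TR [a, invOf TCX.Fi22.invL a]) [])
        (eqF (subst TR [a, invOf TCX.Fi22.invL a]) [12])) 9).1 (by decide +kernel) a ha)
      exact eq_inv_of_mul_eq_one_right (by simpa using this)
    · have h1 : z a = 1 := by
        have : zc a = 1 := Subtype.ext (by
          change ext fx TR a = 1
          rw [TCX.ext, nth_triv _ _ (by simp [TR]; omega)]; rfl)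
        simp [z, this]
      rw [invOf, nth_triv _ _ (by simp [TCX.Fi22.invL]; omega), h1, inv_one]
  have htop : cl z [0,1,2,3,4,5,6,7,8] = ⊤ := by
    have : cl zc [0,1,2,3,4,5,6,7,8] = ⊤ := by
      apply map_injective CC.subtype_injective
      rw [map_cl, ← MonoidHom.range_eq_map, range_subtype]
      refine le_antisymm (cl_le _ fun a _ => TR_mem a) (cl_le _ fun a ha => ?_)
      obtain ⟨b, hb, e⟩ := (anyL_iff _ _).1 ((allL_iff (fun a => anyL (fun b => eqL (nth TR [] b) [a])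
        [0,1,2,3,4,5,6,7,8]) _).1 (by decide +kernel) a ha)
      have : fx a = ext fx TR b := by rw [TCX.ext, (eqL_iff _ _).1 e, ev_singleton]
      rw [this]
      exact gen_mem_cl (fun a => CC.subtype (zc a)) hb
    rw [← map_cl, this, ← MonoidHom.range_eq_map, QuotientGroup.range_mk']
  have hc : 64561751654400 ≤ Nat.card (CC ⧸ zpowers mC) := by
    have h1 := fx_idx
    rw [fx_card, card_eq_card_quotient_mul_card_subgroup (zpowers mC), Nat.card_zpowers] at h1
    have h2 : orderOf mC ≤ 2 := orderOf_le_of_pow_eq_one (by norm_num) (Subtype.ext (by simpa [sq, mC] using fx_sq 12))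
    have h3 := Nat.mul_le_mul_left (Nat.card (CC ⧸ zpowers mC)) h2
    omega
  obtain ⟨e, -⟩ := iso_of_bound Id.Fi22.y_code (by intro γ; cases γ <;> decide) (TCX.Fi22.bounds _ _ Id.Fi22.y_rels)
    hinv (fun r hr => hz r ((allL_iff (fun r => bor (eqF (subst TR r) []) (eqF (subst TR r) [12])) _).1
      (by decide +kernel) r hr)) htop (by
      intro a ha
      simp only [List.mem_cons, List.not_mem_nil, or_false] at ha
      rcases ha with rfl | rfl | rfl | rfl | rfl | rfl | rfl | rfl | rfl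
      exacts [⟨.a, Or.inl rfl⟩, ⟨.b, Or.inl rfl⟩, ⟨.c, Or.inl rfl⟩, ⟨.d, Or.inl rfl⟩, ⟨.e, Or.inl rfl⟩,
        ⟨.f, Or.inl rfl⟩, ⟨.g, Or.inl rfl⟩, ⟨.h, Or.inl rfl⟩, ⟨.i, Or.inl rfl⟩]) hc
  rw [← card_out_congr e, S2079.result]

/-- The element of order thirteen. -/
noncomputable def xF : FF := ev fx xw

theorem xF_order : orderOf xF = 13 :=
  haveI := Fact.mk (show Nat.Prime 13 by norm_num)
  orderOf_eq_prime (by rw [xF, ← ev_powL]; exact fx_eq (v := []) (by decide +kernel))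
    (fx_ne (v := []) (by decide +kernel))

theorem not_dvd169 : ¬ 13 ^ (1 + 1) ∣ Nat.card FF := by rw [fx_card]; norm_num

theorem cent_x : ∃ g : FF, ∀ s, Commute xF s → ∃ φ ∈ CG.Fi23.pF, s = g * ev CG.Fi23.act.gen φ * g⁻¹ := by
  obtain ⟨g, hg⟩ := exists_conj_of_card (n := 1) (by norm_num) (H := zpowers xF) (K := cl CG.Fi23.act.gen CG.Fi23.pS)
    (by rw [Nat.card_zpowers, xF_order, pow_one]) CG.Fi23.cardP not_dvd169
  refine ⟨g, fun s hs => ?_⟩
  obtain ⟨φ, h1, h2⟩ := CG.Fi23.centP (g⁻¹ * s * g) fun y hy => by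
    obtain ⟨n, hn⟩ := hg y hy
    have := (hs.zpow_left n).eq
    dsimp only at hn
    rw [hn] at this
    calc y * (g⁻¹ * s * g) = g⁻¹ * (g * y * g⁻¹ * s) * g := by group
      _ = _ := by rw [this]; group
  exact ⟨φ, h1, by rw [← h2]; group⟩

/-- The word has order `n`, a prime. -/
noncomputable def ordF (n : ℕ) (φ : List ℕ) : Bool :=
  band (eqW CG.Fi23.act.app CG.Fi23.bs (powL n φ) []) (bnot (eqW CG.Fi23.act.app CG.Fi23.bs φ []))

theorem eqW_of_eq {u v : List ℕ} (h : ev CG.Fi23.act.gen u = ev CG.Fi23.act.gen v) :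
    eqW CG.Fi23.act.app CG.Fi23.bs u v = true := by
  by_contra h1
  exact CG.Fi23.act.ev_ne_of_eqW CG.Fi23.base.1 (Bool.eq_false_iff.2 h1) h

theorem ordF_of {n : ℕ} {φ : List ℕ} {g : FF} (h1 : (g * ev CG.Fi23.act.gen φ * g⁻¹) ^ n = 1)
    (h2 : g * ev CG.Fi23.act.gen φ * g⁻¹ ≠ 1) : ordF n φ = true := by
  rw [ordF, band_eq, bnot_eq]
  refine ⟨eqW_of_eq ?_, Bool.eq_false_iff.2 fun h => h2 ?_⟩
  · rw [ev_powL]; simpa using h1
  · rw [CG.Fi23.base.ev_eq h]; simp

theorem pair_of_chk {n n' : ℕ} {T : List ℕ → List ℕ → Bool}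
    (h : allL (fun φ => bor (bnot (ordF n φ)) (allL (fun φ' => bor (bnot (ordF n' φ')) (T φ φ')) CG.Fi23.pF))
      CG.Fi23.pF = true) {s r : FF} (hs : Commute xF s) (hr : Commute xF r) (h1 : s ^ n = 1) (h2 : s ≠ 1)
    (h3 : r ^ n' = 1) (h4 : r ≠ 1) : ∃ g φ φ', s = g * ev CG.Fi23.act.gen φ * g⁻¹ ∧
      r = g * ev CG.Fi23.act.gen φ' * g⁻¹ ∧ T φ φ' = true := by
  obtain ⟨g, hg⟩ := cent_x
  obtain ⟨φ, m1, rfl⟩ := hg s hs
  obtain ⟨φ', m2, rfl⟩ := hg r hr
  have := (allL_iff _ _).1 h φ m1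
  rw [ordF_of h1 h2] at this
  have := (allL_iff _ _).1 this φ' m2
  rw [ordF_of h3 h4] at this
  exact ⟨g, φ, φ', rfl, rfl, this⟩

theorem cx_22 {s r : FF} (hs : Commute xF s) (hr : Commute xF r) (h1 : s ^ 2 = 1) (h2 : s ≠ 1) (h3 : r ^ 2 = 1)
    (h4 : r ≠ 1) : (s * r) ^ 3 = 1 := by
  obtain ⟨g, φ, φ', rfl, rfl, h⟩ := pair_of_chk
    (T := fun φ φ' => eqW CG.Fi23.act.app CG.Fi23.bs (powL 3 (app2 φ φ')) []) (by decide +kernel) hs hr h1 h2 h3 h4
  have := CG.Fi23.base.ev_eq h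
  rw [ev_powL, app2_eq, ev_append] at this
  rw [conj_mul, conj_pow, this]; simp

theorem cx_23 {s r : FF} (hs : Commute xF s) (hr : Commute xF r) (h1 : s ^ 2 = 1) (h2 : s ≠ 1) (h3 : r ^ 3 = 1)
    (h4 : r ≠ 1) : ¬ Commute s r := by
  obtain ⟨g, φ, φ', rfl, rfl, h⟩ := pair_of_chk
    (T := fun φ φ' => bnot (eqW CG.Fi23.act.app CG.Fi23.bs (app2 φ φ') (app2 φ' φ))) (by decide +kernel)
    hs hr h1 h2 h3 h4
  intro hc
  refine CG.Fi23.act.ev_ne_of_eqW CG.Fi23.base.1 ((bnot_eq _).1 h) ?_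
  have := hc.eq
  rw [conj_mul, conj_mul] at this
  simpa [app2_eq] using this

theorem cx_33 {s r : FF} (hs : Commute xF s) (hr : Commute xF r) (h1 : s ^ 3 = 1) (h2 : s ≠ 1) (h3 : r ^ 3 = 1)
    (h4 : r ≠ 1) : s = r ∨ s = r⁻¹ := by
  obtain ⟨g, φ, φ', rfl, rfl, h⟩ := pair_of_chk
    (T := fun φ φ' => bor (eqW CG.Fi23.act.app CG.Fi23.bs φ φ') (eqW CG.Fi23.act.app CG.Fi23.bs (app2 φ φ') []))
    (by decide +kernel) hs hr h1 h2 h3 h4
  rcases (bor_eq _ _).1 h with h | h
  · exact Or.inl (by rw [CG.Fi23.base.ev_eq h])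
  · have := CG.Fi23.base.ev_eq h
    rw [app2_eq, ev_append] at this
    exact Or.inr (eq_inv_of_mul_eq_one_left (by rw [conj_mul, this]; simp))

end Cfsg.Agent.F24
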