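import Cfsg.Agent.Lib.F24.Model
import Cfsg.Agent.Lib.F24.FF

/-! The group presented by the graph `Y₅₄₂` and one further relation; its subgroup `Fi23 × 2`. -/

set_option autoImplicit false
set_option maxRecDepth 100000

namespace Cfsg.Agent.F24

open Cfsg.Agent.CG Cfsg.Agent.Mult Cfsg.Agent.TCX Subgroup

/-- The letters in the free group. -/
def y0 (a : ℕ) : FreeGroup (Fin 12) := if h : a < 12 then FreeGroup.of ⟨a, h⟩ else 1

/-- The presented group. -/
def Hat : Type := PresentedGroup {r | ∃ w ∈ F24a.R0, r = ev y0 w}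

instance groupHat : Group Hat := inferInstanceAs (Group (PresentedGroup {r | ∃ w ∈ F24a.R0, r = ev y0 w}))

/-- The basic letters. -/
def yb (a : ℕ) : Hat := PresentedGroup.mk _ (y0 a)

/-- The words of the letters. -/
noncomputable def DX : List (List ℕ) :=
  [0] :: [1] :: [2] :: [3] :: [4] :: [5] :: [6] :: [7] :: [8] :: [9] :: [10] :: [11] :: DE

/-- The letters. -/
noncomputable def y : ℕ → Hat := ext yb DX

theorem y_eq_yb {a : ℕ} (h : a < 12) : y a = yb a := by
  have := (allLt_iff (fun a => eqL (nth DX [] a) [a]) 12).1 (by decide +kernel) a h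
  rw [y, TCX.ext, (eqL_iff _ _).1 this, ev_singleton]

theorem lt_of_ltAll {n : ℕ} {w : List ℕ} (h : ltAll n w = true) : ∀ a ∈ w, a < n :=
  fun a ha => (blt_iff _ _).1 ((allL_iff _ _).1 h a ha)

theorem R0_lt : ∀ r ∈ F24a.R0, ∀ a ∈ r, a < 12 := fun r hr =>
  lt_of_ltAll ((allL_iff (ltAll 12) _).1 (by decide +kernel) r hr)

theorem y_rels : ∀ r ∈ F24a.R0, ev y r = 1 := fun r hr => by
  rw [ev_congr _ fun a ha => y_eq_yb (R0_lt r hr a ha)]
  exact (map_ev y0 (PresentedGroup.mk _) r).symm.trans (PresentedGroup.one_of_mem ⟨r, hr, rfl⟩)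

theorem exists_lift {Γ : Type*} [Group Γ] (z : ℕ → Γ) (h : ∀ r ∈ F24a.R0, ev z r = 1) :
    ∃ f : Hat →* Γ, ∀ a, a < 12 → f (y a) = z a := by
  have e : ∀ a, a < 12 → FreeGroup.lift (fun i : Fin 12 => z i) (y0 a) = z a := fun a ha => by simp [y0, ha]
  refine ⟨PresentedGroup.toGroup (f := fun i : Fin 12 => z i) ?_, fun a ha => ?_⟩
  · rintro _ ⟨w, hw, rfl⟩
    rw [map_ev, ← h w hw]
    exact ev_congr _ fun a ha => e a (R0_lt w hw a ha)
  · rw [y_eq_yb ha]; exact e a ha

theorem y_top : cl y [0,1,2,3,4,5,6,7,8,9,10,11] = ⊤ := by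
  rw [eq_top_iff]
  refine (PresentedGroup.closure_range_of _).ge.trans ((closure_le _).2 ?_)
  rintro _ ⟨i, rfl⟩
  have : (PresentedGroup.of i : Hat) = y i := by rw [y_eq_yb i.2, yb, y0, dif_pos i.2]; rfl
  rw [this]
  exact gen_mem_cl y (by have := i.2; simp; omega)

theorem y_def (a : ℕ) : y a = ev y (nth DX [] a) := by
  by_cases ha : a < 18
  · exact ev_congr _ fun b hb => (y_eq_yb
      (lt_of_ltAll ((allLt_iff (fun a => ltAll 12 (nth DX [] a)) 18).1 (by decide +kernel) a ha) b hb)).symm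
  · rw [y, TCX.ext, nth_triv _ _ (by simp [DX, DE]; omega)]; rfl

theorem y_rel {r : List ℕ} (h : anyL (eqL r) F24a.R0 = true) : ev y r = 1 := by
  obtain ⟨w, hw, e⟩ := (anyL_iff _ _).1 h
  rw [(eqL_iff _ _).1 e]; exact y_rels w hw

theorem y_sq0 {a : ℕ} (ha : a < 12) : y a * y a = 1 := by
  simpa using y_rel ((allLt_iff (fun a => anyL (eqL [a, a]) F24a.R0) 12).1 (by decide +kernel) a ha)

theorem l_comm {a : ℕ} (ha : a < 10) : Commute (y 11) (y a) :=
  (comm_of_sq (y_sq0 (by omega)) (y_sq0 (by omega)) (by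
    simpa [mul_assoc] using
      y_rel ((allLt_iff (fun a => anyL (eqL [a, 11, a, 11]) F24a.R0) 10).1 (by decide +kernel) a ha))).symm

theorem k_comm {a : ℕ} (ha : a ∈ [1,2,3,4,5,6,7,8,9]) : Commute (y 10) (y a) :=
  (comm_of_sq (y_sq0 (by simp at ha; omega)) (y_sq0 (by omega)) (by
    simpa [mul_assoc] using
      y_rel ((allL_iff (fun a => anyL (eqL [a, 10, a, 10]) F24a.R0) _).1 (by decide +kernel) a ha))).symm

theorem kl_cube : (y 10 * y 11) ^ 3 = 1 := by
  simpa [pow_succ, mul_assoc] using y_rel (r := [10,11,10,11,10,11]) (by decide +kernel)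

theorem ak_cube : (y 0 * y 10) ^ 3 = 1 := by
  simpa [pow_succ, mul_assoc] using y_rel (r := [0,10,0,10,0,10]) (by decide +kernel)

/-- The permutation representation. -/
noncomputable def rho : Hat →* Fx 920808 := (exists_lift mv m_R0).choose

theorem rho_y {a : ℕ} (ha : a < 12) : rho (y a) = mv a := (exists_lift mv m_R0).choose_spec a ha

theorem rho_ev {w : List ℕ} (h : ltAll 12 w = true) : rho (ev y w) = ev mv w := by
  rw [map_ev]; exact ev_congr _ fun a ha => rho_y (lt_of_ltAll h a ha)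

theorem map_rho {S : List ℕ} (h : ltAll 12 S = true) : (cl y S).map rho = cl mv S := by
  rw [map_cl]; unfold cl; congr 1
  exact Set.image_congr fun a ha => rho_y (lt_of_ltAll h a ha)

theorem ev_const {Γ : Type*} [Monoid Γ] (c : Γ) (w : List ℕ) : ev (fun _ => c) w = c ^ w.length := by
  induction w with
  | nil => simp
  | cons a w ih => rw [ev_cons, ih, List.length_cons, pow_succ']

theorem exists_sg : ∃ f : Hat →* ℤˣ, ∀ a, a < 12 → f (y a) = -1 := exists_lift (fun _ => -1) fun r hr => by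
  have := (allL_iff (fun r : List ℕ => Nat.beq (r.length % 2) 0) _).1 (by decide +kernel) r hr
  rw [ev_const, Even.neg_one_pow (Nat.even_iff.2 ((beq_iff _ _).1 this))]

/-- The sign. -/
noncomputable def sg : Hat →* ℤˣ := exists_sg.choose

theorem sg_ev0 {w : List ℕ} (h : ltAll 12 w = true) : sg (ev y w) = (-1) ^ w.length := by
  rw [map_ev, ← ev_const]; exact ev_congr _ fun a ha => exists_sg.choose_spec a (lt_of_ltAll h a ha)

theorem sg_y {a : ℕ} (ha : a < 18) : sg (y a) = -1 := by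
  have := (allLt_iff (fun a => band (ltAll 12 (nth DX [] a)) (Nat.beq ((nth DX [] a).length % 2) 1)) 18).1
    (by decide +kernel) a ha
  rw [band_eq, beq_iff] at this
  rw [y_def, sg_ev0 this.1, Odd.neg_one_pow (Nat.odd_iff.2 this.2)]

theorem sg_ev {w : List ℕ} (h : ltAll 18 w = true) : sg (ev y w) = (-1) ^ w.length := by
  rw [map_ev, ← ev_const]; exact ev_congr _ fun a ha => sg_y (lt_of_ltAll h a ha)

theorem y_spider : ev y spider = 1 := by
  obtain ⟨h1, h2⟩ := F24a.bounds0 Hat y y_rels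
  refine eq_one_of_card_le rho (L := cl y [0,1,2,3,4,5,8,9,10,11]) ?_ (ev_mem_cl _ (by decide +kernel))
    ((rho_ev (by decide +kernel)).trans m_spider)
  rw [map_rho (by decide +kernel)]
  exact h2.trans (m_card.trans (card_le_of_le (cl_mono _ (by decide))))

theorem ev_lmul {w : List ℕ} (h : ∀ a ∈ w, a < 10) : ev (fun a => y 11 * y a) w = y 11 ^ w.length * ev y w := by
  induction w with
  | nil => simp
  | cons a w ih =>
    rw [ev_cons, ev_cons, ih fun b hb => h b (by simp [hb]), List.length_cons, pow_succ', mul_assoc, mul_assoc,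
      ← mul_assoc (y a), ← ((l_comm (h a (by simp))).pow_left _).eq, mul_assoc]

theorem l_pow (n : ℕ) : y 11 ^ n = y 11 ^ (n % 2) := pow_eq_pow_mod n (by rw [sq, y_sq0 (by norm_num)])

theorem exists_psi : ∃ f : FF →* Hat, ∀ a ∈ CG.Fi23.tcS, f (fx a) = y 11 * y a := by
  refine Id.Fi23.factBounds.out.lift (fx_rels (by decide +kernel)) fx_top fx_card.ge _ fun r hr => ?_
  have := (allL_iff (fun r : List ℕ => band (ltAll 10 r) (bor (band (Nat.beq (r.length % 2) 0)
    (anyL (eqL r) (spider :: F24a.R0))) (band (Nat.beq (r.length % 2) 1) (anyL (eqL (11 :: r.reverse)) F24a.R0)))) _).1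
    (by decide +kernel) r hr
  rw [band_eq, bor_eq, band_eq, band_eq, beq_iff, beq_iff] at this
  rw [ev_lmul (lt_of_ltAll this.1), l_pow]
  rcases this.2 with ⟨h1, h2⟩ | ⟨h1, h2⟩
  · obtain ⟨w, hw, e⟩ := (anyL_iff _ _).1 h2
    rw [h1, pow_zero, one_mul, (eqL_iff _ _).1 e]
    rcases List.mem_cons.1 hw with rfl | hw
    exacts [y_spider, y_rels w hw]
  · have h3 := y_rel h2
    rw [ev_cons, ev_reverse fun a ha => y_sq0 ((lt_of_ltAll this.1 a ha).trans (by norm_num)), mul_inv_eq_one] at h3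
    rw [h1, pow_one, ← h3, y_sq0 (by norm_num)]

/-- The homomorphism from `Fi23`. -/
noncomputable def psi : FF →* Hat := exists_psi.choose

theorem psi_fx0 {a : ℕ} (ha : a < 10) : psi (fx a) = y 11 * y a :=
  exists_psi.choose_spec a (by simp [CG.Fi23.tcS]; omega)

/-- The subgroup `Fi23 × 2`. -/
noncomputable abbrev H1 : Subgroup Hat := cl y [0,1,2,3,4,5,6,7,8,9,11]

theorem psi_mem (f : FF) : psi f ∈ H1 := by
  have : cl fx [0,1,2,3,4,5,6,7,8,9] ≤ H1.comap psi := cl_le _ fun a ha => by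
    have h : a < 10 := by simp at ha; omega
    rw [mem_comap, psi_fx0 h]
    exact mul_mem (gen_mem_cl _ (by simp)) (gen_mem_cl _ (by simp; omega))
  exact this (fx_top ▸ mem_top f)

theorem l_H1 {h : Hat} (hh : h ∈ H1) : Commute (y 11) h := commute_cl (fun a ha => by
  by_cases e : a = 11
  · rw [e]
  · exact l_comm (by simp at ha; omega)) hh

theorem l_psi (f : FF) : Commute (y 11) (psi f) := l_H1 (psi_mem f)

theorem l_sq : y 11 * y 11 = 1 := y_sq0 (by norm_num)

theorem sg_psi (f : FF) : sg (psi f) = 1 := by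
  have : cl fx [0,1,2,3,4,5,6,7,8,9] ≤ (sg.comp psi).ker := cl_le _ fun a ha => by
    have h : a < 10 := by simp at ha; omega
    rw [MonoidHom.mem_ker, MonoidHom.comp_apply, psi_fx0 h, map_mul, sg_y (by omega), sg_y (by omega)]; simp
  exact this (fx_top ▸ mem_top f)

theorem ev_psi_of {w : List ℕ} (h : ∀ a ∈ w, y a = y 11 * psi (fx a)) :
    ev y w = y 11 ^ w.length * psi (ev fx w) := by
  induction w with
  | nil => simp
  | cons a w ih =>
    rw [ev_cons, ev_cons, ih fun b hb => h b (by simp [hb]), h a (by simp), List.length_cons, pow_succ', map_mul,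
      mul_assoc, mul_assoc, ← mul_assoc (psi _), ← ((l_psi _).pow_left _).eq, mul_assoc]

theorem y_psi0 {a : ℕ} (ha : a < 10) : y a = y 11 * psi (fx a) := by rw [psi_fx0 ha, ← mul_assoc, l_sq, one_mul]

theorem fx_def {w : List ℕ} (h : ltAll 10 w = true) : ev CG.Fi23.act.gen w = ev fx w := ev_congr _ fun a ha => by
  have := (allLt_iff (fun a => eqL (nth DF [] a) [a]) 10).1 (by decide +kernel) a (lt_of_ltAll h a ha)
  rw [fx_nth, (eqL_iff _ _).1 this, ev_singleton]

theorem y_psi {a : ℕ} (ha : a < 18) (h : a ≠ 10) : y a = y 11 * psi (fx a) := by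
  by_cases h1 : a < 10
  · exact y_psi0 h1
  by_cases h2 : a = 11
  · rw [h2, show fx 11 = 1 from fx_nth 11, map_one, mul_one]
  have := (allRange_iff (fun a => band (ltAll 10 (nth DF [] a)) (band (eqL (nth DX [] a) (nth DF [] a))
    (Nat.beq ((nth DF [] a).length % 2) 1))) 12 6).1 (by decide +kernel) a (by omega) (by omega)
  rw [band_eq, band_eq, eqL_iff, beq_iff] at this
  rw [y_def, this.2.1, ev_psi_of fun b hb => y_psi0 (lt_of_ltAll this.1 b hb), l_pow, this.2.2, pow_one,
    ← fx_def this.1, fx_nth]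

/-- The letters of the word lie in `Fi23 × 2`. -/
noncomputable def okL (w : List ℕ) : Bool := allL (fun a => band (blt a 18) (bnot (Nat.beq a 10))) w

theorem okL_spec {w : List ℕ} (h : okL w = true) : ∀ a ∈ w, y a = y 11 * psi (fx a) := fun a ha => by
  have := (allL_iff _ _).1 h a ha
  rw [band_eq, blt_iff, bnot_eq, beq_false_iff] at this
  exact y_psi this.1 this.2

theorem ev_psi {w : List ℕ} (h : okL w = true) : ev y w = y 11 ^ (w.length % 2) * psi (ev fx w) := by
  rw [ev_psi_of (okL_spec h), l_pow]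

/-- Two words agree in `Fi23 × 2`. -/
noncomputable def idH (u v : List ℕ) : Bool :=
  band (okL u) (band (okL v) (band (Nat.beq (u.length % 2) (v.length % 2)) (eqF u v)))

theorem y_eq {u v : List ℕ} (h : idH u v = true) : ev y u = ev y v := by
  rw [idH, band_eq, band_eq, band_eq, beq_iff] at h
  rw [ev_psi h.1, ev_psi h.2.1, h.2.2.1, fx_eq h.2.2.2]

theorem y_sq (a : ℕ) : y a * y a = 1 := by
  by_cases h : a < 12
  · exact y_sq0 h
  by_cases ha : a < 18
  · simpa using y_eq ((allRange_iff (fun a => idH [a, a] []) 12 6).1 (by decide +kernel) a (by omega) (by omega))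
  · rw [y, TCX.ext, nth_triv _ _ (by simp [DX, DE]; omega)]; simp

theorem y_inv (a : ℕ) : (y a)⁻¹ = y a := inv_of_sq (y_sq a)

attribute [irreducible] y rho sg psi

theorem dec {S : List ℕ} (hS : okL S = true) {h : Hat} (hh : h ∈ cl y S) :
    ∃ f ∈ cl fx S, h = psi f ∨ h = y 11 * psi f := by
  induction hh using closure_induction with
  | mem x hx =>
    obtain ⟨a, ha, rfl⟩ := hx
    exact ⟨fx a, gen_mem_cl _ ha, Or.inr (okL_spec hS a ha)⟩
  | one => exact ⟨1, one_mem _, Or.inl (map_one _).symm⟩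
  | mul a b _ _ ha hb =>
    obtain ⟨f, h1, h2⟩ := ha
    obtain ⟨g, h3, h4⟩ := hb
    refine ⟨f * g, mul_mem h1 h3, ?_⟩
    rcases h2 with rfl | rfl <;> rcases h4 with rfl | rfl
    · exact Or.inl (map_mul _ _ _).symm
    · exact Or.inr (by rw [map_mul, ← mul_assoc, ← (l_psi f).eq, mul_assoc])
    · exact Or.inr (by rw [map_mul, mul_assoc])
    · exact Or.inl (by rw [map_mul, (l_psi f).eq, mul_assoc, ← mul_assoc (y 11), l_sq, one_mul])
  | inv a _ ha =>
    obtain ⟨f, h1, h2⟩ := ha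
    refine ⟨f⁻¹, inv_mem h1, ?_⟩
    rcases h2 with rfl | rfl
    · exact Or.inl (map_inv _ _).symm
    · exact Or.inr (by rw [mul_inv_rev, y_inv, ← map_inv, (l_psi _).eq])

theorem decH {h : Hat} (hh : h ∈ H1) : ∃ f, h = psi f ∨ h = y 11 * psi f := by
  obtain ⟨f, -, h1⟩ := dec (by decide +kernel) hh
  exact ⟨f, h1⟩

theorem decH_even {h : Hat} (hh : h ∈ H1) (hs : sg h = 1) : ∃ f, h = psi f := by
  obtain ⟨f, rfl | rfl⟩ := decH hh
  · exact ⟨f, rfl⟩
  · rw [map_mul, sg_psi, sg_y (by norm_num)] at hs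
    exact absurd hs (by decide)

theorem l_mem : y 11 ∈ H1 := gen_mem_cl _ (by simp)

theorem ev_H1 {w : List ℕ} (h : okL w = true) : ev y w ∈ H1 := by
  rw [ev_psi h]; exact mul_mem (pow_mem l_mem _) (psi_mem _)

end Cfsg.Agent.F24
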