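import Cfsg.Agent.Lib.F24.Pts

set_option autoImplicit false
set_option maxRecDepth 100000
set_option Elab.async false

namespace Cfsg.Agent.F24

open Cfsg.Agent.CG Cfsg.Agent.Mult

theorem k0_0 : chkL 920808 20 st G0 0 = true := by decide +kernel
theorem k1_0 : chkL 920808 20 st G1 0 = true := by decide +kernel
theorem k2_0 : chkL 920808 20 st G2 0 = true := by decide +kernel
theorem k3_0 : chkL 920808 20 st G3 0 = true := by decide +kernel
theorem k4_0 : chkL 920808 20 st G4 0 = true := by decide +kernel
theorem k5_0 : chkL 920808 20 st G5 0 = true := by decide +kernel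
theorem k6_0 : chkL 920808 20 st G6 0 = true := by decide +kernel
theorem k0_1 : chkL 920808 20 st G0 1 = true := by decide +kernel
theorem k1_1 : chkL 920808 20 st G1 1 = true := by decide +kernel
theorem k2_1 : chkL 920808 20 st G2 1 = true := by decide +kernel
theorem k3_1 : chkL 920808 20 st G3 1 = true := by decide +kernel
theorem k4_1 : chkL 920808 20 st G4 1 = true := by decide +kernel
theorem k5_1 : chkL 920808 20 st G5 1 = true := by decide +kernel
theorem k6_1 : chkL 920808 20 st G6 1 = true := by decide +kernel
theorem k0_2 : chkL 920808 20 st G0 2 = true := by decide +kernel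
theorem k1_2 : chkL 920808 20 st G1 2 = true := by decide +kernel
theorem k2_2 : chkL 920808 20 st G2 2 = true := by decide +kernel
theorem k3_2 : chkL 920808 20 st G3 2 = true := by decide +kernel
theorem k4_2 : chkL 920808 20 st G4 2 = true := by decide +kernel
theorem k5_2 : chkL 920808 20 st G5 2 = true := by decide +kernel
theorem k6_2 : chkL 920808 20 st G6 2 = true := by decide +kernel
theorem k0_3 : chkL 920808 20 st G0 3 = true := by decide +kernel
theorem k1_3 : chkL 920808 20 st G1 3 = true := by decide +kernel
theorem k2_3 : chkL 920808 20 st G2 3 = true := by decide +kernel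
theorem k3_3 : chkL 920808 20 st G3 3 = true := by decide +kernel
theorem k4_3 : chkL 920808 20 st G4 3 = true := by decide +kernel
theorem k5_3 : chkL 920808 20 st G5 3 = true := by decide +kernel
theorem k6_3 : chkL 920808 20 st G6 3 = true := by decide +kernel
theorem k0_4 : chkL 920808 20 st G0 4 = true := by decide +kernel
theorem k1_4 : chkL 920808 20 st G1 4 = true := by decide +kernel
theorem k2_4 : chkL 920808 20 st G2 4 = true := by decide +kernel
theorem k3_4 : chkL 920808 20 st G3 4 = true := by decide +kernel
theorem k4_4 : chkL 920808 20 st G4 4 = true := by decide +kernel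
theorem k5_4 : chkL 920808 20 st G5 4 = true := by decide +kernel
theorem k6_4 : chkL 920808 20 st G6 4 = true := by decide +kernel

end Cfsg.Agent.F24
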