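import Cfsg.Agent.Lib.F24.K0

set_option autoImplicit false
set_option maxRecDepth 100000
set_option Elab.async false

namespace Cfsg.Agent.F24

open Cfsg.Agent.CG Cfsg.Agent.Mult

theorem k0_5 : chkL 920808 20 st G0 5 = true := by decide +kernel
theorem k1_5 : chkL 920808 20 st G1 5 = true := by decide +kernel
theorem k2_5 : chkL 920808 20 st G2 5 = true := by decide +kernel
theorem k3_5 : chkL 920808 20 st G3 5 = true := by decide +kernel
theorem k4_5 : chkL 920808 20 st G4 5 = true := by decide +kernel
theorem k5_5 : chkL 920808 20 st G5 5 = true := by decide +kernel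
theorem k6_5 : chkL 920808 20 st G6 5 = true := by decide +kernel
theorem k0_6 : chkL 920808 20 st G0 6 = true := by decide +kernel
theorem k1_6 : chkL 920808 20 st G1 6 = true := by decide +kernel
theorem k2_6 : chkL 920808 20 st G2 6 = true := by decide +kernel
theorem k3_6 : chkL 920808 20 st G3 6 = true := by decide +kernel
theorem k4_6 : chkL 920808 20 st G4 6 = true := by decide +kernel
theorem k5_6 : chkL 920808 20 st G5 6 = true := by decide +kernel
theorem k6_6 : chkL 920808 20 st G6 6 = true := by decide +kernel
theorem k0_7 : chkL 920808 20 st G0 7 = true := by decide +kernel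
theorem k1_7 : chkL 920808 20 st G1 7 = true := by decide +kernel
theorem k2_7 : chkL 920808 20 st G2 7 = true := by decide +kernel
theorem k3_7 : chkL 920808 20 st G3 7 = true := by decide +kernel
theorem k4_7 : chkL 920808 20 st G4 7 = true := by decide +kernel
theorem k5_7 : chkL 920808 20 st G5 7 = true := by decide +kernel
theorem k6_7 : chkL 920808 20 st G6 7 = true := by decide +kernel
theorem k0_8 : chkL 920808 20 st G0 8 = true := by decide +kernel
theorem k1_8 : chkL 920808 20 st G1 8 = true := by decide +kernel
theorem k2_8 : chkL 920808 20 st G2 8 = true := by decide +kernel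
theorem k3_8 : chkL 920808 20 st G3 8 = true := by decide +kernel
theorem k4_8 : chkL 920808 20 st G4 8 = true := by decide +kernel
theorem k5_8 : chkL 920808 20 st G5 8 = true := by decide +kernel
theorem k6_8 : chkL 920808 20 st G6 8 = true := by decide +kernel
theorem k0_9 : chkL 920808 20 st G0 9 = true := by decide +kernel
theorem k1_9 : chkL 920808 20 st G1 9 = true := by decide +kernel
theorem k2_9 : chkL 920808 20 st G2 9 = true := by decide +kernel
theorem k3_9 : chkL 920808 20 st G3 9 = true := by decide +kernel
theorem k4_9 : chkL 920808 20 st G4 9 = true := by decide +kernel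
theorem k5_9 : chkL 920808 20 st G5 9 = true := by decide +kernel
theorem k6_9 : chkL 920808 20 st G6 9 = true := by decide +kernel

end Cfsg.Agent.F24
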