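import Cfsg.Agent.Lib.F24.K1

set_option autoImplicit false
set_option maxRecDepth 100000
set_option Elab.async false

namespace Cfsg.Agent.F24

open Cfsg.Agent.CG Cfsg.Agent.Mult

theorem k0_10 : chkL 920808 20 st G0 10 = true := by decide +kernel
theorem k1_10 : chkL 920808 20 st G1 10 = true := by decide +kernel
theorem k2_10 : chkL 920808 20 st G2 10 = true := by decide +kernel
theorem k3_10 : chkL 920808 20 st G3 10 = true := by decide +kernel
theorem k4_10 : chkL 920808 20 st G4 10 = true := by decide +kernel
theorem k5_10 : chkL 920808 20 st G5 10 = true := by decide +kernel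
theorem k6_10 : chkL 920808 20 st G6 10 = true := by decide +kernel
theorem k0_11 : chkL 920808 20 st G0 11 = true := by decide +kernel
theorem k1_11 : chkL 920808 20 st G1 11 = true := by decide +kernel
theorem k2_11 : chkL 920808 20 st G2 11 = true := by decide +kernel
theorem k3_11 : chkL 920808 20 st G3 11 = true := by decide +kernel
theorem k4_11 : chkL 920808 20 st G4 11 = true := by decide +kernel
theorem k5_11 : chkL 920808 20 st G5 11 = true := by decide +kernel
theorem k6_11 : chkL 920808 20 st G6 11 = true := by decide +kernel
theorem k0_12 : chkL 920808 20 st G0 12 = true := by decide +kernel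
theorem k1_12 : chkL 920808 20 st G1 12 = true := by decide +kernel
theorem k2_12 : chkL 920808 20 st G2 12 = true := by decide +kernel
theorem k3_12 : chkL 920808 20 st G3 12 = true := by decide +kernel
theorem k4_12 : chkL 920808 20 st G4 12 = true := by decide +kernel
theorem k5_12 : chkL 920808 20 st G5 12 = true := by decide +kernel
theorem k6_12 : chkL 920808 20 st G6 12 = true := by decide +kernel
theorem k0_13 : chkL 920808 20 st G0 13 = true := by decide +kernel
theorem k1_13 : chkL 920808 20 st G1 13 = true := by decide +kernel
theorem k2_13 : chkL 920808 20 st G2 13 = true := by decide +kernel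
theorem k3_13 : chkL 920808 20 st G3 13 = true := by decide +kernel
theorem k4_13 : chkL 920808 20 st G4 13 = true := by decide +kernel
theorem k5_13 : chkL 920808 20 st G5 13 = true := by decide +kernel
theorem k6_13 : chkL 920808 20 st G6 13 = true := by decide +kernel
theorem k0_14 : chkL 920808 20 st G0 14 = true := by decide +kernel
theorem k1_14 : chkL 920808 20 st G1 14 = true := by decide +kernel
theorem k2_14 : chkL 920808 20 st G2 14 = true := by decide +kernel
theorem k3_14 : chkL 920808 20 st G3 14 = true := by decide +kernel
theorem k4_14 : chkL 920808 20 st G4 14 = true := by decide +kernel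
theorem k5_14 : chkL 920808 20 st G5 14 = true := by decide +kernel
theorem k6_14 : chkL 920808 20 st G6 14 = true := by decide +kernel

end Cfsg.Agent.F24
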