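import Cfsg.Agent.Lib.F24.K2

set_option autoImplicit false
set_option maxRecDepth 100000
set_option Elab.async false

namespace Cfsg.Agent.F24

open Cfsg.Agent.CG Cfsg.Agent.Mult

theorem k0_15 : chkL 920808 20 st G0 15 = true := by decide +kernel
theorem k1_15 : chkL 920808 20 st G1 15 = true := by decide +kernel
theorem k2_15 : chkL 920808 20 st G2 15 = true := by decide +kernel
theorem k3_15 : chkL 920808 20 st G3 15 = true := by decide +kernel
theorem k4_15 : chkL 920808 20 st G4 15 = true := by decide +kernel
theorem k5_15 : chkL 920808 20 st G5 15 = true := by decide +kernel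
theorem k6_15 : chkL 920808 20 st G6 15 = true := by decide +kernel
theorem k0_16 : chkL 920808 20 st G0 16 = true := by decide +kernel
theorem k1_16 : chkL 920808 20 st G1 16 = true := by decide +kernel
theorem k2_16 : chkL 920808 20 st G2 16 = true := by decide +kernel
theorem k3_16 : chkL 920808 20 st G3 16 = true := by decide +kernel
theorem k4_16 : chkL 920808 20 st G4 16 = true := by decide +kernel
theorem k5_16 : chkL 920808 20 st G5 16 = true := by decide +kernel
theorem k6_16 : chkL 920808 20 st G6 16 = true := by decide +kernel
theorem k0_17 : chkL 920808 20 st G0 17 = true := by decide +kernel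
theorem k1_17 : chkL 920808 20 st G1 17 = true := by decide +kernel
theorem k2_17 : chkL 920808 20 st G2 17 = true := by decide +kernel
theorem k3_17 : chkL 920808 20 st G3 17 = true := by decide +kernel
theorem k4_17 : chkL 920808 20 st G4 17 = true := by decide +kernel
theorem k5_17 : chkL 920808 20 st G5 17 = true := by decide +kernel
theorem k6_17 : chkL 920808 20 st G6 17 = true := by decide +kernel
theorem k0_18 : chkL 920808 20 st G0 18 = true := by decide +kernel
theorem k1_18 : chkL 920808 20 st G1 18 = true := by decide +kernel
theorem k2_18 : chkL 920808 20 st G2 18 = true := by decide +kernel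
theorem k3_18 : chkL 920808 20 st G3 18 = true := by decide +kernel
theorem k4_18 : chkL 920808 20 st G4 18 = true := by decide +kernel
theorem k5_18 : chkL 920808 20 st G5 18 = true := by decide +kernel
theorem k6_18 : chkL 920808 20 st G6 18 = true := by decide +kernel
theorem k0_19 : chkL 920808 20 st G0 19 = true := by decide +kernel
theorem k1_19 : chkL 920808 20 st G1 19 = true := by decide +kernel
theorem k2_19 : chkL 920808 20 st G2 19 = true := by decide +kernel
theorem k3_19 : chkL 920808 20 st G3 19 = true := by decide +kernel
theorem k4_19 : chkL 920808 20 st G4 19 = true := by decide +kernel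
theorem k5_19 : chkL 920808 20 st G5 19 = true := by decide +kernel
theorem k6_19 : chkL 920808 20 st G6 19 = true := by decide +kernel

end Cfsg.Agent.F24
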