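import Cfsg.Agent.Lib.Mult.Net
import Cfsg.Agent.Lib.TCX.Ext

/-! Permutation networks with a change of coordinates: words, orbits, counting, fixed points. -/

set_option autoImplicit false

namespace Cfsg.Agent.F24

open Cfsg.Agent.CG Cfsg.Agent.Mult Cfsg.Agent.TCX

/-- Cancel the pairs `12, 13`. -/
noncomputable def can (w : List ℕ) : List ℕ :=
  List.rec (motive := fun _ => List ℕ) [] (fun a _ ih => List.rec (motive := fun _ => List ℕ) [a]
    (fun b t _ => Bool.rec (motive := fun _ => List ℕ) (a :: b :: t) t (band (Nat.beq a 12) (Nat.beq b 13))) ih) w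

theorem ev_can {Γ : Type*} [Group Γ] {y : ℕ → Γ} (h : y 12 * y 13 = 1) (w : List ℕ) : ev y (can w) = ev y w := by
  induction w with
  | nil => rfl
  | cons a w ih =>
    have e : can (a :: w) = List.rec (motive := fun _ => List ℕ) [a]
      (fun b t _ => Bool.rec (motive := fun _ => List ℕ) (a :: b :: t) t (band (Nat.beq a 12) (Nat.beq b 13)))
      (can w) := rfl
    rw [e, ev_cons, ← ih]
    cases can w with
    | nil => simp
    | cons b t =>
      dsimp only
      cases hb : band (Nat.beq a 12) (Nat.beq b 13)
      · rfl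
      · rw [band_eq, beq_iff, beq_iff] at hb
        rw [hb.1, hb.2, ev_cons, ← mul_assoc, h, one_mul]

theorem sw_sq (N : ℕ) (p : ℕ × ℕ) : sw N p * sw N p = 1 := by
  unfold sw
  split_ifs with h
  · exact Subtype.ext (Equiv.ext fun i => swF_inv h i)
  · simp

theorem prod_reverse (N : ℕ) (l : List (ℕ × ℕ)) : (l.map (sw N)).prod * (l.reverse.map (sw N)).prod = 1 := by
  induction l with
  | nil => simp
  | cons p l ih =>
    rw [List.reverse_cons, List.map_append, List.prod_append, List.map_cons, List.prod_cons, mul_assoc,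
      ← mul_assoc (l.map (sw N)).prod, ih]
    simpa using sw_sq N p

/-- The words of networks for the letters. -/
noncomputable def DD : List (List ℕ) :=
  [[0],[13,1,12],[2],[13,3,12],[4],[13,5,12],[6],[13,7,12],[8],[13,9,12],[13,10,12],[11],[],[],[14],[15]]

/-- A word of letters as a word of networks. -/
noncomputable def trw (w : List ℕ) : List ℕ := can (subst DD w)

/-- The permutations of the letters. -/
noncomputable def mu (N : ℕ) (st : List (List (ℕ × ℕ))) : ℕ → Fx N := ext (net N st) DD

/-- The pairs of words agree on the plane `p`. -/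
noncomputable def chkL (N k : ℕ) (st : List (List (ℕ × ℕ))) (L : List (List ℕ × List ℕ)) (p : ℕ) : Bool :=
  allL (fun q => eqP N k st (trw q.1) (trw q.2) p) L

/-- The union of the images under the letters of `S`, one after the other. -/
noncomputable def uni (st : List (List (ℕ × ℕ))) (S : List ℕ) (X : ℕ) : ℕ :=
  List.rec (motive := fun _ => ℕ → ℕ) (fun X => X) (fun a _ ih X => force (Nat.lor X (apN (nth st [] a) X)) ih) S X

/-- One round of the orbit computation. -/
noncomputable def rnd (st : List (List (ℕ × ℕ))) (SA SB : List ℕ) (X : ℕ) : ℕ :=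
  force (uni st SA X) fun X1 => force (apN (nth st [] 13) X1) fun Y => force (uni st SB Y) fun Y1 =>
    apN (nth st [] 12) Y1

/-- `n` rounds. -/
noncomputable def orb (st : List (List (ℕ × ℕ))) (SA SB : List ℕ) (n X : ℕ) : ℕ :=
  Nat.rec (motive := fun _ => ℕ) X (fun _ ih => force ih (rnd st SA SB)) n

/-- The number of bits below `2 ^ k`. -/
noncomputable def popc (k x : ℕ) : ℕ :=
  Nat.rec (motive := fun _ => ℕ → ℕ) (fun x => Nat.mod x 2)
    (fun j ih x => Nat.rec (motive := fun _ => ℕ) 0 (fun _ _ => force (Nat.pow 2 j) fun n =>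
      Nat.add (force (Nat.mod x (Nat.pow 2 n)) ih) (force (Nat.shiftRight x n) ih)) x) k x

/-- The points moved by a word, as seen on the first `k` planes. -/
noncomputable def mov (N K : ℕ) (st : List (List (ℕ × ℕ))) (w : List ℕ) (k : ℕ) : ℕ :=
  Nat.rec (motive := fun _ => ℕ) 0 (fun p ih => force (Nat.land (plane K p) (Nat.sub (Nat.pow 2 N) 1)) fun x =>
    force (Nat.xor (apW st w x) x) fun d => Nat.lor d ih) k

theorem popc_eq (k x : ℕ) : popc k x = ((Finset.range (2 ^ k)).filter fun i => x.testBit i = true).card := by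
  induction k generalizing x with
  | zero =>
    change x % 2 = _
    rw [pow_zero, Finset.range_one, Finset.filter_singleton, Nat.testBit_zero]
    rcases Nat.mod_two_eq_zero_or_one x with h | h <;> simp [h]
  | succ k ih =>
    cases x with
    | zero => simp [popc]
    | succ x =>
      have e : popc (k + 1) (x + 1) = force (Nat.pow 2 k) fun n =>
        Nat.add (force (Nat.mod (x + 1) (Nat.pow 2 n)) (popc k)) (force (Nat.shiftRight (x + 1) n) (popc k)) := rfl
      rw [e, force_eq, force_eq, force_eq, ih, ih, pow_succ, mul_two, Finset.range_add, Finset.filter_union,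
        Finset.card_union_of_disjoint, Finset.filter_map, Finset.card_map]
      · rw [Nat.add_eq]
        congr 2
        · apply Finset.filter_congr
          intro i hi
          have : (Nat.mod (x + 1) (Nat.pow 2 (Nat.pow 2 k))) = (x + 1) % 2 ^ (2 ^ k) := rfl
          rw [this, Nat.testBit_mod_two_pow]
          simp [Finset.mem_range.1 hi]
        · apply Finset.filter_congr
          intro i _
          have : Nat.shiftRight (x + 1) (Nat.pow 2 k) = (x + 1) >>> (2 ^ k) := rfl
          rw [this, Nat.testBit_shiftRight]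
          rfl
      · apply Finset.disjoint_filter_filter
        rw [Finset.disjoint_left]
        intro i h1 h2
        obtain ⟨j, -, rfl⟩ := Finset.mem_map.1 h2
        have := Finset.mem_range.1 h1
        simp at this

section
variable {N k : ℕ} {st : List (List (ℕ × ℕ))} (h : stOK N st = true) (hP : net N st 12 * net N st 13 = 1)
include hP

theorem ev_trw (w : List ℕ) : ev (net N st) (trw w) = ev (mu N st) w := by
  rw [trw, ev_can hP, ev_subst, mu]

include h

theorem eq_of_chkL (hN : N ≤ 2 ^ k) {L : List (List ℕ × List ℕ)} (e : ∀ p, p < k → chkL N k st L p = true) :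
    ∀ q ∈ L, ev (mu N st) q.1 = ev (mu N st) q.2 := fun q hq => by
  rw [← ev_trw hP, ← ev_trw hP]
  exact ev_eq_of_eqP h hN fun p hp => (allL_iff _ _).1 (e p hp) q hq

theorem testBit_trw (w : List ℕ) (x i : ℕ) :
    (apW st (trw w) x).testBit i = x.testBit ((ev (mu N st) w).1 i) := by
  rw [testBit_apW h, ev_trw hP]

/-- The image of one point. -/
theorem pt_eq {w : List ℕ} {x z : ℕ} (e : Nat.beq (apW st (trw w) (Nat.shiftLeft 1 z)) (Nat.shiftLeft 1 x) = true) :
    (ev (mu N st) w).1 x = z := by
  have := congrArg (Nat.testBit · x) ((beq_iff _ _).1 e)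
  simp only [testBit_trw h hP] at this
  have e1 : ∀ n, Nat.shiftLeft 1 n = 2 ^ n := Nat.one_shiftLeft
  rw [e1, e1, Nat.testBit_two_pow_self, Nat.testBit_two_pow] at this
  exact (of_decide_eq_true this).symm

/-- An invariant set. -/
theorem inv_set {S : List ℕ} {X : ℕ} (e : allL (fun a => Nat.beq (apW st (trw [a]) X) X) S = true) :
    ∀ g ∈ cl (mu N st) S, ∀ i, X.testBit (g.1 i) = X.testBit i := by
  let K : Subgroup (Fx N) :=
    { carrier := {g | ∀ i, X.testBit (g.1 i) = X.testBit i}
      one_mem' := fun _ => rfl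
      mul_mem' := fun {a b} ha hb i => (ha _).trans (hb i)
      inv_mem' := fun {a} ha i => by
        have := ha (a⁻¹.1 i)
        rw [← this]; congr 1
        simp }
  have : cl (mu N st) S ≤ K := cl_le _ fun a ha i => by
    have := congrArg (Nat.testBit · i) ((beq_iff _ _).1 ((allL_iff _ _).1 e a ha))
    simpa only [testBit_trw h hP, ev_singleton] using this
  exact this

omit hP in
theorem testBit_apN (a x i : ℕ) : (apN (nth st [] a) x).testBit i = x.testBit ((net N st a).1 i) := by
  have := testBit_apW h [a] x i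
  rw [ev_singleton] at this
  rw [← this]
  change _ = (force (apN (nth st [] a) x) (fun x => x)).testBit i
  rw [force_eq]

omit hP in
theorem uni_sound {O : ℕ → Prop} {S : List ℕ} (hS : ∀ a ∈ S, ∀ i, O ((net N st a).1 i) → O i) {X : ℕ}
    (hX : ∀ i, X.testBit i = true → O i) : ∀ i, (uni st S X).testBit i = true → O i := by
  induction S generalizing X with
  | nil => exact hX
  | cons a S ih =>
    have e : uni st (a :: S) X = force (Nat.lor X (apN (nth st [] a) X)) (uni st S) := rfl
    rw [e, force_eq]
    refine ih (fun b hb => hS b (by simp [hb])) fun i hi => ?_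
    have hi : (X ||| apN (nth st [] a) X).testBit i = true := hi
    rw [Nat.testBit_or, Bool.or_eq_true, testBit_apN h] at hi
    exact hi.elim (hX i) fun h1 => hS a (by simp) i (hX _ h1)

theorem orb_sound {SA SB S : List ℕ} (hA : allL (fun a => band (memL a S) (eqL (nth DD [] a) [a])) SA = true)
    (hB : allL (fun a => band (memL a S) (eqL (nth DD [] a) [13, a, 12])) SB = true) (n X i : ℕ)
    (hi : (orb st SA SB n X).testBit i = true) : ∃ g ∈ cl (mu N st) S, X.testBit (g.1 i) = true := by
  let O : ℕ → Prop := fun i => ∃ g ∈ cl (mu N st) S, X.testBit (g.1 i) = true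
  have hO : ∀ a ∈ S, ∀ i, O ((mu N st a).1 i) → O i := by
    rintro a ha i ⟨g, h1, h2⟩
    exact ⟨g * mu N st a, mul_mem h1 (gen_mem_cl _ ha), h2⟩
  have hP' : ∀ i, (net N st 13).1 ((net N st 12).1 i) = i := fun i => by
    have := congrArg (fun g : Fx N => g.1 i) (mul_eq_one_comm.1 hP)
    exact this
  have hP2 : ∀ i, (net N st 12).1 ((net N st 13).1 i) = i := fun i => congrArg (fun g : Fx N => g.1 i) hP
  rw [allL_iff] at hA hB
  induction n generalizing i with
  | zero => exact ⟨1, one_mem _, hi⟩
  | succ n ih =>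
    have e : orb st SA SB (n + 1) X = force (orb st SA SB n X) (rnd st SA SB) := rfl
    rw [e, force_eq, rnd, force_eq, force_eq, force_eq, testBit_apN h] at hi
    have h1 := uni_sound h (O := O) (S := SA) (fun a ha i hi => by
      have := hA a ha
      rw [band_eq, memL_iff, eqL_iff] at this
      refine hO a this.1 i ?_
      rwa [mu, ext, this.2, ev_singleton]) ih
    have h2 := uni_sound h (O := fun j => O ((net N st 13).1 j)) (S := SB) (fun a ha i hi => by
      have := hB a ha
      rw [band_eq, memL_iff, eqL_iff] at this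
      refine hO a this.1 _ ?_
      rw [mu, ext, this.2]
      simp only [ev_cons, ev_nil, mul_one, Subgroup.coe_mul, Equiv.Perm.mul_apply]
      rwa [hP2]) (X := apN (nth st [] 13) (uni st SA (orb st SA SB n X)))
      (fun j hj => h1 _ (by rwa [testBit_apN h] at hj)) _ hi
    rwa [hP'] at h2

/-- One step of a chain of point stabilisers. -/
theorem card_step {SA SB S S' : List ℕ} (hA : allL (fun a => band (memL a S) (eqL (nth DD [] a) [a])) SA = true)
    (hB : allL (fun a => band (memL a S) (eqL (nth DD [] a) [13, a, 12])) SB = true) {n b c : ℕ}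
    (h1 : Nat.ble c (popc k (orb st SA SB n (Nat.shiftLeft 1 b))) = true)
    (h2 : allL (fun a => Nat.beq (apW st (trw [a]) (Nat.shiftLeft 1 b)) (Nat.shiftLeft 1 b)) S' = true)
    (h3 : allL (fun a => memL a S) S' = true) {M : ℕ} (h4 : M ≤ Nat.card (cl (mu N st) S')) :
    c * M ≤ Nat.card (cl (mu N st) S) := by
  classical
  set K := cl (mu N st) S
  have e1 : Nat.shiftLeft 1 b = 2 ^ b := Nat.one_shiftLeft b
  rw [Nat.card_congr (MulAction.orbitProdStabilizerEquivGroup K b).symm, Nat.card_prod]
  apply Nat.mul_le_mul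
  · rw [ble_iff, popc_eq] at h1
    refine h1.trans ?_
    have hf : (MulAction.orbit K b).Finite := Set.finite_range _
    rw [Nat.card_coe_set_eq, ← Set.ncard_coe_finset]
    refine Set.ncard_le_ncard (fun i hi => ?_) hf
    obtain ⟨g, g1, g2⟩ := orb_sound h hP hA hB n _ i (Finset.mem_filter.1 hi).2
    rw [e1, Nat.testBit_two_pow] at g2
    refine ⟨(⟨g, g1⟩ : K)⁻¹, ?_⟩
    dsimp only
    rw [inv_smul_eq_iff]
    exact of_decide_eq_true g2
  · refine h4.trans ?_
    have hle : cl (mu N st) S' ≤ K := cl_mono _ fun a ha => (memL_iff _ _).1 ((allL_iff _ _).1 h3 a ha)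
    let f : cl (mu N st) S' → MulAction.stabilizer K b := fun g => ⟨⟨g.1, hle g.2⟩, by
      have := inv_set h hP h2 g.1 g.2 b
      rw [e1, Nat.testBit_two_pow_self, Nat.testBit_two_pow] at this
      exact (of_decide_eq_true this).symm⟩
    exact Nat.card_le_card_of_injective f fun a b e => Subtype.ext (congrArg (fun z => z.1.1) e)

theorem mov_fix {w : List ℕ} {i : ℕ} (hi : (ev (mu N st) w).1 i = i) (K j : ℕ) :
    (mov N K st (trw w) j).testBit i = false := by
  induction j with
  | zero => simp [mov]
  | succ j ih =>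
    have e : mov N K st (trw w) (j + 1) = force (Nat.land (plane K j) (Nat.sub (Nat.pow 2 N) 1)) fun x =>
      force (Nat.xor (apW st (trw w) x) x) fun d => Nat.lor d (mov N K st (trw w) j) := rfl
    rw [e, force_eq, force_eq]
    generalize Nat.land (plane K j) (Nat.sub (Nat.pow 2 N) 1) = x
    change ((apW st (trw w) x ^^^ x) ||| _).testBit i = false
    rw [Nat.testBit_or, ih, Nat.testBit_xor, testBit_trw h hP, hi]
    simp

/-- An upper bound for the number of fixed points. -/
theorem card_fix_le (hN : N ≤ 2 ^ k) {w : List ℕ} {c : ℕ}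
    (e : Nat.ble (popc k (Nat.xor (mov N k st (trw w) k) (Nat.sub (Nat.pow 2 N) 1))) c = true) {T : Finset ℕ}
    (hT : ∀ i ∈ T, i < N ∧ (ev (mu N st) w).1 i = i) : T.card ≤ c := by
  rw [ble_iff, popc_eq] at e
  refine le_trans (Finset.card_le_card fun i hi => ?_) e
  obtain ⟨h1, h2⟩ := hT i hi
  rw [Finset.mem_filter, Finset.mem_range]
  refine ⟨by omega, ?_⟩
  change (mov N k st (trw w) k ^^^ (2 ^ N - 1)).testBit i = true
  rw [Nat.testBit_xor, mov_fix h hP h2, Nat.testBit_two_pow_sub_one]
  simp [h1]

end

end Cfsg.Agent.F24
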