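import Cfsg.Agent.Lib.F24.Defs
import Cfsg.Agent.Lib.F24.Net2

set_option autoImplicit false
set_option maxRecDepth 100000
set_option Elab.async false

namespace Cfsg.Agent.F24

open Cfsg.Agent.CG Cfsg.Agent.Mult

noncomputable def G0 : List (List ℕ × List ℕ) := [([0,0], []),
  ([1,1], []),
  ([2,2], []),
  ([3,3], []),
  ([4,4], []),
  ([5,5], []),
  ([6,6], []),
  ([7,7], []),
  ([8,8], []),
  ([9,9], []),
  ([10,10], []),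
  ([11,11], []),
  ([0,2,0,2], []),
  ([0,4,0,4], []),
  ([0,6,0,6], []),
  ([0,8,0,8], []),
  ([0,11,0,11], []),
  ([1,3,1,3], []),
  ([1,5,1,5], []),
  ([1,7,1,7], []),
  ([1,9,1,9], []),
  ([1,10,1,10], []),
  ([2,4,2,4], []),
  ([2,6,2,6], []),
  ([2,8,2,8], []),
  ([2,11,2,11], []),
  ([3,5,3,5], []),
  ([3,7,3,7], []),
  ([3,9,3,9], []),
  ([3,10,3,10], []),
  ([4,6,4,6], []),
  ([4,8,4,8], []),
  ([4,11,4,11], []),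
  ([5,7,5,7], []),
  ([5,9,5,9], []),
  ([5,10,5,10], []),
  ([6,8,6,8], []),
  ([6,11,6,11], []),
  ([7,9,7,9], []),
  ([7,10,7,10], []),
  ([8,11,8,11], []),
  ([9,10,9,10], []),
  ([15,15,15], []),
  ([15,0,15], [0]),
  ([15,1,15], [1]),
  ([15,2,15], [2]),
  ([15,3,15], [3]),
  ([15,4,15], [4]),
  ([15,5,15], [5]),
  ([15,6,15], [6]),
  ([15,7,15], [7]),
  ([15,8,15], [8]),
  ([15,9,15], [9]),
  ([15,10,15], [10]),
  ([15,11,15], [11])]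
noncomputable def G1 : List (List ℕ × List ℕ) := [([0,3,0,3], []),
  ([0,5,0,5], []),
  ([0,7,0,7], []),
  ([0,9,0,9], []),
  ([1,4,1,4], []),
  ([1,6,1,6], []),
  ([1,8,1,8], []),
  ([1,11,1,11], []),
  ([2,5,2,5], []),
  ([2,7,2,7], []),
  ([2,9,2,9], []),
  ([2,10,2,10], []),
  ([3,6,3,6], []),
  ([3,11,3,11], [])]
noncomputable def G2 : List (List ℕ × List ℕ) := [([4,7,4,7], []),
  ([4,9,4,9], []),
  ([4,10,4,10], []),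
  ([5,8,5,8], []),
  ([5,11,5,11], []),
  ([6,9,6,9], []),
  ([6,10,6,10], []),
  ([7,8,7,8], []),
  ([7,11,7,11], []),
  ([8,10,8,10], []),
  ([9,11,9,11], []),
  ([3,2,1,0,10,11,3,4,5,6,7,3,8,9], [14])]
noncomputable def G3 : List (List ℕ × List ℕ) := [([0,1,0,1,0,1], []),
  ([0,10,0,10,0,10], []),
  ([1,2,1,2,1,2], []),
  ([2,3,2,3,2,3], []),
  ([3,4,3,4,3,4], []),
  ([3,8,3,8,3,8], []),
  ([4,5,4,5,4,5], []),
  ([5,6,5,6,5,6], []),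
  ([6,7,6,7,6,7], []),
  ([8,9,8,9,8,9], []),
  ([10,11,10,11,10,11], [])]
noncomputable def G4 : List (List ℕ × List ℕ) := [([11,8,5,4,3,2,1,0,8,5,4,3,2,1,0,8,5,4,3,2,1,0,8,5,4,3,2,1,0,8,5,4,3,2,1,0,8,5,4,3,2,1,0,8,5,4,3,2,1,0,8,5,4,3,2,1,0,8,5,4,3,2,1,0], []),
  ([14,14,14,14,14,14,14,14,14,14,14,14,14,14,14,14,14], [15])]
noncomputable def G5 : List (List ℕ × List ℕ) := [([3,2,1,3,4,5,3,8,9,3,2,1,3,4,5,3,8,9,3,2,1,3,4,5,3,8,9,3,2,1,3,4,5,3,8,9,3,2,1,3,4,5,3,8,9,3,2,1,3,4,5,3,8,9,3,2,1,3,4,5,3,8,9,3,2,1,3,4,5,3,8,9,3,2,1,3,4,5,3,8,9,3,2,1,3,4,5,3,8,9], [])]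
noncomputable def G6 : List (List ℕ × List ℕ) := [([10,11,0,10,1,2,3,8,4,3,2,1,0,1,2,3,4,8,3,2,1,10,11,0,10], [5,4,3,8,2,3,4,1,2,3,8,5,4,3,2,1,0,1,2,3,4,5,8,3,2,1,4,3,2,8,3,4,5])]
noncomputable def kbw : List ℕ := [9,4,5,1,2,3,1,2,1]
noncomputable def w1 : List ℕ := [8,3,4,2,3,8,5,6,4,5,3,4,2,3,8,0,1,2,3,4,5,6]
/-- The points `1, …, 31671`. -/
noncomputable def O1 : ℕ := Nat.shiftLeft (Nat.sub (Nat.pow 2 31671) 1) 1
/-- A set of points. -/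
noncomputable def pts (l : List ℕ) : ℕ := maskOf l

end Cfsg.Agent.F24
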