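import Cfsg.Agent.Lib.F24.K3
import Cfsg.Agent.Lib.TCX.F24a.Main

/-! What the checks say about the permutations of the letters. -/

set_option autoImplicit false
set_option maxRecDepth 100000

namespace Cfsg.Agent.F24

open Cfsg.Agent.CG Cfsg.Agent.Mult Cfsg.Agent.TCX

/-- The permutations of the letters. -/
noncomputable def mv : ℕ → Fx 920808 := mu 920808 st

theorem all20 {P : ℕ → Prop} (h0 : P 0) (h1 : P 1) (h2 : P 2) (h3 : P 3) (h4 : P 4) (h5 : P 5) (h6 : P 6) (h7 : P 7)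
    (h8 : P 8) (h9 : P 9) (h10 : P 10) (h11 : P 11) (h12 : P 12) (h13 : P 13) (h14 : P 14) (h15 : P 15) (h16 : P 16)
    (h17 : P 17) (h18 : P 18) (h19 : P 19) : ∀ p, p < 20 → P p := by
  intro p hp
  interval_cases p <;> assumption

theorem hP : net 920808 st 12 * net 920808 st 13 = 1 := by
  have e1 : nth st [] 12 = s12 := rfl
  have e2 : nth st [] 13 = s12.reverse := rfl
  unfold net
  rw [e1, e2]
  exact prod_reverse _ _

theorem g0 : ∀ q ∈ G0, ev mv q.1 = ev mv q.2 := eq_of_chkL st_ok hP (by norm_num)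
  (all20 (P := fun p => chkL 920808 20 st G0 p = true) k0_0 k0_1 k0_2 k0_3 k0_4 k0_5 k0_6 k0_7 k0_8 k0_9 k0_10 k0_11 k0_12 k0_13 k0_14 k0_15 k0_16 k0_17 k0_18 k0_19)

theorem g1 : ∀ q ∈ G1, ev mv q.1 = ev mv q.2 := eq_of_chkL st_ok hP (by norm_num)
  (all20 (P := fun p => chkL 920808 20 st G1 p = true) k1_0 k1_1 k1_2 k1_3 k1_4 k1_5 k1_6 k1_7 k1_8 k1_9 k1_10 k1_11 k1_12 k1_13 k1_14 k1_15 k1_16 k1_17 k1_18 k1_19)

theorem g2 : ∀ q ∈ G2, ev mv q.1 = ev mv q.2 := eq_of_chkL st_ok hP (by norm_num)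
  (all20 (P := fun p => chkL 920808 20 st G2 p = true) k2_0 k2_1 k2_2 k2_3 k2_4 k2_5 k2_6 k2_7 k2_8 k2_9 k2_10 k2_11 k2_12 k2_13 k2_14 k2_15 k2_16 k2_17 k2_18 k2_19)

theorem g3 : ∀ q ∈ G3, ev mv q.1 = ev mv q.2 := eq_of_chkL st_ok hP (by norm_num)
  (all20 (P := fun p => chkL 920808 20 st G3 p = true) k3_0 k3_1 k3_2 k3_3 k3_4 k3_5 k3_6 k3_7 k3_8 k3_9 k3_10 k3_11 k3_12 k3_13 k3_14 k3_15 k3_16 k3_17 k3_18 k3_19)

theorem g4 : ∀ q ∈ G4, ev mv q.1 = ev mv q.2 := eq_of_chkL st_ok hP (by norm_num)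
  (all20 (P := fun p => chkL 920808 20 st G4 p = true) k4_0 k4_1 k4_2 k4_3 k4_4 k4_5 k4_6 k4_7 k4_8 k4_9 k4_10 k4_11 k4_12 k4_13 k4_14 k4_15 k4_16 k4_17 k4_18 k4_19)

theorem g5 : ∀ q ∈ G5, ev mv q.1 = ev mv q.2 := eq_of_chkL st_ok hP (by norm_num)
  (all20 (P := fun p => chkL 920808 20 st G5 p = true) k5_0 k5_1 k5_2 k5_3 k5_4 k5_5 k5_6 k5_7 k5_8 k5_9 k5_10 k5_11 k5_12 k5_13 k5_14 k5_15 k5_16 k5_17 k5_18 k5_19)

theorem g6 : ∀ q ∈ G6, ev mv q.1 = ev mv q.2 := eq_of_chkL st_ok hP (by norm_num)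
  (all20 (P := fun p => chkL 920808 20 st G6 p = true) k6_0 k6_1 k6_2 k6_3 k6_4 k6_5 k6_6 k6_7 k6_8 k6_9 k6_10 k6_11 k6_12 k6_13 k6_14 k6_15 k6_16 k6_17 k6_18 k6_19)

/-- All pairs of words that were checked. -/
noncomputable def GG : List (List ℕ × List ℕ) := G0 ++ G1 ++ G2 ++ G3 ++ G4 ++ G5 ++ G6

theorem gg {u v : List ℕ} (h : anyL (fun q => band (eqL u q.1) (eqL v q.2)) GG = true) : ev mv u = ev mv v := by
  obtain ⟨q, hq, e⟩ := (anyL_iff _ _).1 h
  rw [band_eq, eqL_iff, eqL_iff] at e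
  rw [e.1, e.2]
  simp only [GG, List.mem_append] at hq
  rcases hq with (((((hq | hq) | hq) | hq) | hq) | hq) | hq
  exacts [g0 q hq, g1 q hq, g2 q hq, g3 q hq, g4 q hq, g5 q hq, g6 q hq]

theorem m_R0 : ∀ r ∈ F24a.R0, ev mv r = 1 := fun r hr =>
  gg (v := []) ((allL_iff (fun r => anyL (fun q => band (eqL r q.1) (eqL [] q.2)) GG) _).1 (by decide +kernel) r hr)

theorem m_R3 : mv 15 ^ 3 = 1 := by
  have := gg (u := [15,15,15]) (v := []) (by decide +kernel)
  simpa [pow_succ, mul_assoc] using this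

theorem m_Rg {a : ℕ} (ha : a < 12) : mv 15 * mv a * mv 15 = mv a := by
  have := gg (u := [15,a,15]) (v := [a])
    ((allLt_iff (fun a => anyL (fun q => band (eqL [15,a,15] q.1) (eqL [a] q.2)) GG) 12).1 (by decide +kernel) a ha)
  simpa [mul_assoc] using this

/-- The word whose seventeenth power generates the normal subgroup of order three. -/
def ww : List ℕ := [3,2,1,0,10,11,3,4,5,6,7,3,8,9]

theorem m_W : ev mv ww ^ 17 = mv 15 := by
  have h1 := gg (u := ww) (v := [14]) (by decide +kernel)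
  have h2 := gg (u := repL 17 14) (v := [15]) (by decide +kernel)
  rw [h1, ev_singleton, ← ev_repL, h2, ev_singleton]

/-- The spider relator. -/
def spider : List ℕ := (List.replicate 10 [3,2,1,3,4,5,3,8,9]).flatten

theorem m_spider : ev mv spider = 1 := gg (v := []) (by decide +kernel)

theorem m_uh : ev mv ([10,11,0,10] ++ h2w ++ [10,11,0,10]) = ev mv h3w := gg (by decide +kernel)

theorem p_u : (ev mv [10,11,0,10]).1 0 = 31649 := by
  have := pt_eq st_ok hP q_u
  unfold mv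
  with_reducible exact this
theorem p_v : (ev mv vw).1 31671 = 31649 := by
  have := pt_eq st_ok hP q_v
  unfold mv
  with_reducible exact this
theorem p_j : (ev mv [7]).1 31671 = 31546 := by
  have := pt_eq st_ok hP q_j
  unfold mv
  with_reducible exact this
theorem p_tc : (ev mv [1,0,2,1]).1 31649 = 31650 := by
  have := pt_eq st_ok hP q_tc
  unfold mv
  with_reducible exact this
theorem p_g : (ev mv gw).1 31649 = 20438 := by
  have := pt_eq st_ok hP q_g
  unfold mv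
  with_reducible exact this
theorem p_k : (ev mv [10]).1 0 = 306808 := by
  have := pt_eq st_ok hP q_k
  unfold mv
  with_reducible exact this
theorem p_l : (ev mv [11]).1 306808 = 306809 := by
  have := pt_eq st_ok hP q_l
  unfold mv
  with_reducible exact this
theorem p_g2 : (ev mv gw).1 812904 = 306808 := by
  have := pt_eq st_ok hP q_g2
  unfold mv
  with_reducible exact this
theorem p_a : (ev mv [0]).1 812904 = 505968 := by
  have := pt_eq st_ok hP q_a
  unfold mv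
  with_reducible exact this
theorem p_g3 : (ev mv gw).1 505968 = 613744 := by
  have := pt_eq st_ok hP q_g3
  unfold mv
  with_reducible exact this
theorem p_k2 : (ev mv [10]).1 613744 = 613872 := by
  have := pt_eq st_ok hP q_k2
  unfold mv
  with_reducible exact this
theorem p_R : (ev mv [15]).1 0 = 306936 := by
  have := pt_eq st_ok hP q_R
  unfold mv
  with_reducible exact this
theorem p_R2 : (ev mv [15]).1 306936 = 613872 := by
  have := pt_eq st_ok hP q_R2
  unfold mv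
  with_reducible exact this
theorem p_e2 : (ev mv kaw).1 20438 = 17298 := by
  have := pt_eq st_ok hP q_e2
  unfold mv
  with_reducible exact this
theorem p_e3 : (ev mv kbw).1 20438 = 17620 := by
  have := pt_eq st_ok hP q_e3
  unfold mv
  with_reducible exact this

theorem fix_of_inv {S : List ℕ} {x : ℕ}
    (e : allL (fun a => Nat.beq (apW st (trw [a]) (Nat.shiftLeft 1 x)) (Nat.shiftLeft 1 x)) S = true) :
    ∀ g ∈ cl mv S, g.1 x = x := fun g hg => by
  have := inv_set st_ok hP e g hg x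
  have e1 : Nat.shiftLeft 1 x = 2 ^ x := Nat.one_shiftLeft x
  rw [e1, Nat.testBit_two_pow_self, Nat.testBit_two_pow] at this
  exact (of_decide_eq_true this).symm

theorem m_fix0 : ∀ g ∈ cl mv [0,1,2,3,4,5,6,7,8,9,11], g.1 0 = 0 := fix_of_inv i_0

theorem m_fixm : ∀ g ∈ cl mv [0,1,2,3,4,5,6,8,9,11], g.1 31671 = 31671 := fix_of_inv i_m

theorem testBit_seg (n i : ℕ) : (Nat.shiftLeft (Nat.sub (Nat.pow 2 n) 1) 1).testBit i = true ↔ 1 ≤ i ∧ i ≤ n := by
  change ((2 ^ n - 1) <<< 1).testBit i = true ↔ _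
  rw [Nat.testBit_shiftLeft, Nat.testBit_two_pow_sub_one]
  simp only [ge_iff_le, Bool.and_eq_true, decide_eq_true_eq]
  omega

theorem testBit_O1 (i : ℕ) : O1.testBit i = true ↔ 1 ≤ i ∧ i ≤ 31671 := by
  have := testBit_seg 31671 i
  unfold O1
  with_reducible exact this

theorem testBit_pts (l : List ℕ) (i : ℕ) : (pts l).testBit i = true ↔ i ∈ l := by
  rw [← bit_eq_testBit, pts, bit_maskOf]

theorem m_O1 : ∀ g ∈ cl mv [0,1,2,3,4,5,6,7,8,9,11], ∀ i, 1 ≤ i → i ≤ 31671 → 1 ≤ g.1 i ∧ g.1 i ≤ 31671 :=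
  fun g hg i h1 h2 => (testBit_O1 _).1 ((inv_set st_ok hP i_O g hg i).trans ((testBit_O1 _).2 ⟨h1, h2⟩))

theorem l_pts {l : List ℕ} (e : allL (fun a => Nat.beq (apW st (trw [a]) (pts l)) (pts l)) [11] = true) {i : ℕ}
    (h : (mv 11).1 i ∈ l) : i ∈ l := by
  rw [← testBit_pts] at h ⊢
  rw [← h]
  exact (inv_set st_ok hP e _ (gen_mem_cl _ (by simp)) i).symm

theorem m_orbC {i : ℕ} (h1 : 1 ≤ i) (h2 : i ≤ 31671) :
    ∃ g ∈ cl mv [0,1,2,3,4,5,6,8,9], g.1 i ∈ [31671,31649,31546] := by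
  obtain ⟨g, hg, h⟩ := orb_sound st_ok hP (S := [0,1,2,3,4,5,6,8,9]) (SA := [0,2,4,6,8]) (SB := [1,3,5,9])
    (by decide +kernel) (by decide +kernel) 9 (pts [31671,31649,31546]) i
    (by rw [(beq_iff _ _).1 o_C]; exact (testBit_O1 _).2 ⟨h1, h2⟩)
  exact ⟨g, hg, (testBit_pts _ _).1 h⟩

theorem m_orbK {i : ℕ} (h1 : 1 ≤ i) (h2 : i ≤ 31671) :
    ∃ g ∈ cl mv [1,2,3,4,5,6,7,8,9], g.1 i ∈ [31649,31650,20438] := by
  obtain ⟨g, hg, h⟩ := orb_sound st_ok hP (S := [1,2,3,4,5,6,7,8,9]) (SA := [2,4,6,8]) (SB := [1,3,5,7,9])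
    (by decide +kernel) (by decide +kernel) 9 (pts [31649,31650,20438]) i
    (by rw [(beq_iff _ _).1 o_K]; exact (testBit_O1 _).2 ⟨h1, h2⟩)
  exact ⟨g, hg, (testBit_pts _ _).1 h⟩

theorem m_card : 9904359628800 ≤ Nat.card (cl mv [0,1,2,3,4,5,8,9,10]) := by
  have h9 : 1 ≤ Nat.card (cl mv []) := Nat.card_pos
  have h8 := card_step (S := [9]) st_ok hP (by decide +kernel) (by decide +kernel) c8a c8b (by decide +kernel) h9
  have h7 := card_step (S := [8, 9]) st_ok hP (by decide +kernel) (by decide +kernel) c7a c7b (by decide +kernel) h8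
  have h6 := card_step (S := [3, 8, 9]) st_ok hP (by decide +kernel) (by decide +kernel) c6a c6b (by decide +kernel) h7
  have h5 := card_step (S := [3, 4, 8, 9]) st_ok hP (by decide +kernel) (by decide +kernel) c5a c5b (by decide +kernel) h6
  have h4 := card_step (S := [2, 3, 4, 8, 9]) st_ok hP (by decide +kernel) (by decide +kernel) c4a c4b (by decide +kernel) h5
  have h3 := card_step (S := [1, 2, 3, 4, 8, 9]) st_ok hP (by decide +kernel) (by decide +kernel) c3a c3b (by decide +kernel) h4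
  have h2 := card_step (S := [0, 1, 2, 3, 4, 8, 9]) st_ok hP (by decide +kernel) (by decide +kernel) c2a c2b (by decide +kernel) h3
  have h1 := card_step (S := [0, 1, 2, 3, 4, 5, 8, 9]) st_ok hP (by decide +kernel) (by decide +kernel) c1a c1b (by decide +kernel) h2
  have h0 := card_step (S := [0, 1, 2, 3, 4, 5, 8, 9, 10]) st_ok hP (by decide +kernel) (by decide +kernel) c0a c0b (by decide +kernel) h1
  exact h0

section
variable {N k N0 X : ℕ} {st : List (List (ℕ × ℕ))} (h : stOK N st = true) (hP : net N st 12 * net N st 13 = 1)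
include h hP

theorem fix_mem {w : List ℕ} {A B : ℕ} (e : Nat.beq (Nat.land (Nat.xor (mov N k st (trw w) k) A) B) X = true)
    (hA : A = Nat.sub (Nat.pow 2 N) 1) (hB : B = Nat.sub (Nat.pow 2 N0) 1) {i : ℕ} (hi : i < N0) (hi' : i < N)
    (hf : (ev (mu N st) w).1 i = i) : X.testBit i = true := by
  rw [← (beq_iff _ _).1 e, hA, hB]
  change ((mov N k st (trw w) k ^^^ (2 ^ N - 1)) &&& (2 ^ N0 - 1)).testBit i = true
  rw [Nat.testBit_and, Nat.testBit_xor, mov_fix h hP hf, Nat.testBit_two_pow_sub_one, Nat.testBit_two_pow_sub_one,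
    decide_eq_true hi, decide_eq_true hi']
  rfl

theorem low_mem {A B : ℕ} (e : Nat.beq (Nat.lor B (Nat.lor (apW st (trw [15]) B) (apW st (trw [15,15]) B))) A = true)
    (hA : A = Nat.sub (Nat.pow 2 N) 1) (hB : B = Nat.sub (Nat.pow 2 N0) 1) {i : ℕ} (hi : i < N) :
    ∃ j : ℕ, (mu N st 15 ^ j).1 i < N0 := by
  subst hA hB
  have h1 := congrArg (Nat.testBit · i) ((beq_iff _ _).1 e)
  change ((2 ^ N0 - 1) ||| (apW st (trw [15]) (2 ^ N0 - 1) ||| apW st (trw [15,15]) (2 ^ N0 - 1))).testBit i =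
    (2 ^ N - 1).testBit i at h1
  rw [Nat.testBit_or, Nat.testBit_or, testBit_trw h hP, testBit_trw h hP, Nat.testBit_two_pow_sub_one,
    Nat.testBit_two_pow_sub_one, Nat.testBit_two_pow_sub_one, Nat.testBit_two_pow_sub_one, decide_eq_true hi,
    Bool.or_eq_true, Bool.or_eq_true, decide_eq_true_eq, decide_eq_true_eq, decide_eq_true_eq] at h1
  rcases h1 with h1 | h1 | h1
  · exact ⟨0, h1⟩
  · exact ⟨1, by simpa using h1⟩
  · exact ⟨2, by simpa [pow_succ] using h1⟩

end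

theorem m_fixx {i : ℕ} (hi : i < 306936) (h : (ev mv xw).1 i = i) : i ∈ [0,306808,306809,31671,17298,17620] := by
  unfold mv at h
  have := fix_mem st_ok hP f_x (by with_reducible rfl) (by with_reducible rfl) hi (by omega) h
  exact (testBit_pts _ _).1 this

theorem m_low {i : ℕ} (hi : i < 920808) : ∃ j : ℕ, (mv 15 ^ j).1 i < 306936 := by
  have := low_mem st_ok hP (N0 := 306936) (A := Nat.sub (Nat.pow 2 920808) 1) (B := Nat.sub (Nat.pow 2 306936) 1)
    (by with_reducible exact f_R) (by with_reducible rfl) (by with_reducible rfl) hi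
  unfold mv
  with_reducible exact this

attribute [irreducible] mv

end Cfsg.Agent.F24
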