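import Cfsg.Agent.Lib.F24.Out
import Cfsg.Agent.Lib.Mult.Fi23.Main

/-! The Schur multiplier of `Fi24'`. -/

set_option autoImplicit false
set_option maxRecDepth 100000

namespace Cfsg.Agent.F24

open Cfsg.Agent.CG Cfsg.Agent.Mult Cfsg.Agent.TCX Subgroup
open scoped commutatorElement

section
variable {E : Type} [Group E] {σ : E →* Spor.Fi24'} (hσ : IsStemExtension σ) {s : FF →* E}
  (hs : ∀ f, σ (s f) = phiG f)

variable (σ s) in
/-- The element `e` lies in the lift of the centraliser of `d`. -/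
def In (e : E) (d : Spor.Fi24) : Prop :=
  ∃ g : E, (σ g : Spor.Fi24) * ll * (σ g : Spor.Fi24)⁻¹ = d ∧ ∃ f, e = g * s f * g⁻¹

theorem In.conj {e : E} {d : Spor.Fi24} (h : In σ s e d) (g : E) :
    In σ s (g * e * g⁻¹) (σ g * d * (σ g : Spor.Fi24)⁻¹) := by
  obtain ⟨x, rfl, f, rfl⟩ := h
  exact ⟨g * x, by rw [map_mul, coe_mul]; group, f, by group⟩

theorem in_l (f : FF) : In σ s (s f) ll := ⟨1, by simp, f, by simp⟩

include hσ hs

theorem In.exists {e g : E} (h : In σ s e (σ g * ll * (σ g : Spor.Fi24)⁻¹)) : ∃ f, e = g * s f * g⁻¹ := by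
  obtain ⟨x, h1, f, rfl⟩ := h
  obtain ⟨c, hc⟩ := G_comm_l (g := (σ g)⁻¹ * σ x) (by
    rw [coe_mul, coe_inv]
    calc _ = (σ g : Spor.Fi24)⁻¹ * (σ g * ll * (σ g : Spor.Fi24)⁻¹) * σ x := by group
      _ = _ := by rw [← h1]; group)
  refine ⟨c * f * c⁻¹, ?_⟩
  rw [conj_congr hσ.2.1 (x' := g * s c) (by rw [map_mul, hs, ← hc]; group), map_mul, map_mul, map_inv]
  group

theorem in_m {c : FF} (hc : c ∈ CC) : In σ s (s c) (ll * phi (fx 12)) := by
  obtain ⟨g, hg⟩ := hσ.1 sw0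
  obtain ⟨β, -, hβ⟩ := restrict_CC sw0_m
  have := agree ((MulAut.conj g).toMonoidHom.comp (s.comp CC.subtype)) (s.comp (CC.subtype.comp β.toMonoidHom))
    fun x => hσ.2.1 (by simp [hs, hβ, hg, mul_assoc])
  refine ⟨g, by rw [hg, sw0_l], β.symm ⟨c, hc⟩, ?_⟩
  simpa using (DFunLike.congr_fun this (β.symm ⟨c, hc⟩)).symm

theorem In.move {e : E} {d d' : Spor.Fi24} (h : In σ s e d) (hd : IsD d') (h1 : Commute d d') (h2 : d ≠ d')
    (h3 : Commute (σ e : Spor.Fi24) d') : In σ s e d' := by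
  obtain ⟨g, rfl, f, rfl⟩ := h
  have h4 := hd.conj (σ g : Spor.Fi24)⁻¹
  have h5 : Commute ll ((σ g : Spor.Fi24)⁻¹ * d' * (σ g : Spor.Fi24)⁻¹⁻¹) := by
    simpa [mul_assoc] using h1.map (MulAut.conj (σ g : Spor.Fi24)⁻¹)
  have h6 : Commute (phi f) ((σ g : Spor.Fi24)⁻¹ * d' * (σ g : Spor.Fi24)⁻¹⁻¹) := by
    simpa [mul_assoc, hs, coe_phiG] using h3.map (MulAut.conj (σ g : Spor.Fi24)⁻¹)
  obtain ⟨x, hx⟩ := h4.cases.resolve_right fun h => h2 (by
    rw [← eq_of_cube_of_comm h4.sq ll_sq h h5.symm]; group)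
  rw [hx] at h6
  have h7 := (l_phi f).symm.mul_right h6
  rw [← mul_assoc, ll_sq, one_mul] at h7
  have h8 : x⁻¹ * f * x ∈ CC := cent_m (by
    simpa [mul_assoc] using (phi_comm h7).symm.map (MulAut.conj x⁻¹))
  have := ((in_m hσ hs h8).conj (s x)).conj g
  rw [hs, coe_phiG, phi_conj, ← hx] at this
  simpa [mul_assoc] using this

theorem exists_lifts : ∃ A : ℕ → E, (∀ a, a < 12 → (σ (A a) : Spor.Fi24) = ll * pr (y a)) ∧
    ∀ r ∈ F24a.R0, ∃ g : E, ∀ a ∈ r, ∃ f, A a = g * s f * g⁻¹ := by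
  obtain ⟨g, hg⟩ := hσ.1 sw0
  have hm : Commute kk (ll * phi (fx 12)) := by
    rw [← pr_y_phi (by norm_num) (by norm_num)]; unfold kk; exact (k_K0 m_K0).map pr
  have hm' : Commute (rG : Spor.Fi24) (ll * phi (fx 12)) := by
    rw [coe_rG]; exact ((Commute.refl _).mul_right (l_phi _)).mul_left hm
  obtain ⟨f, hf⟩ := G_comm_l (g := sw0⁻¹ * rG * sw0) (by
    rw [← sw0_l] at hm'
    simpa [mul_assoc] using hm'.symm.map (MulAut.conj (sw0 : Spor.Fi24)⁻¹))
  have e1 : σ (g * s f * g⁻¹) = rG := by rw [map_mul, map_mul, map_inv, hs, hg, ← hf]; group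
  have k1 : In σ s (g * s f * g⁻¹) (ll * phi (fx 12)) := ⟨g, by rw [hg, sw0_l], f, rfl⟩
  obtain ⟨x, hx⟩ := gen_conj (a := 2) (by norm_num)
  have hc : IsD (ll * phi (fx 2)) := hx ▸ isD_phi x
  have k2 : In σ s (g * s f * g⁻¹) (ll * phi (fx 2)) := k1.move hσ hs hc
    (((Commute.refl _).mul_right (l_phi _)).mul_left
      ((l_phi _).symm.mul_right ((m_comm (gen_mem_cl _ (by simp))).map phi)))
    (fun h => fx_ne (u := [12]) (v := [2]) (by decide +kernel) (by simpa using phi_inj (mul_left_cancel h))) (by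
      rw [e1, coe_rG]
      refine ((Commute.refl _).mul_right (l_phi _)).mul_left ?_
      rw [← pr_y_phi (by norm_num) (by norm_num)]; unfold kk; exact (k_comm (by simp)).map pr)
  have k3 : In σ s (s (fx 7)) (ll * phi (fx 2)) := (in_l _).move hσ hs hc ((Commute.refl _).mul_right (l_phi _))
    (fun h => fx_ne_one (a := 2) (by decide +kernel) (phi_inj (by simpa using h))) (by
      rw [hs, coe_phiG]
      exact (l_phi _).symm.mul_right (Commute.map (by
        simpa [commute_iff_eq] using fx_eq (u := [7,2]) (v := [2,7]) (by decide +kernel)) phi))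
  refine ⟨fun a => if a = 10 then g * s f * g⁻¹ else s (fx a), fun a ha => ?_, fun r hr => ?_⟩
  · beta_reduce
    split_ifs with h
    · rw [e1, coe_rG, h]; unfold kk; rfl
    · rw [hs, coe_phiG, pr_y_phi (by omega) h, ← mul_assoc, ll_sq, one_mul]
  have key : ∀ (S : List ℕ) (d : Spor.Fi24) (b : ℕ), allL (fun a => memL a S) r = true → b ∈ S →
      (∀ a ∈ S, In σ s (if a = 10 then g * s f * g⁻¹ else s (fx a)) d) →
      ∃ z : E, ∀ a ∈ r, ∃ f', (if a = 10 then g * s f * g⁻¹ else s (fx a)) = z * s f' * z⁻¹ := by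
    intro S d b h1 h2 h3
    obtain ⟨z, rfl, -⟩ := h3 b h2
    exact ⟨z, fun a ha => (h3 a ((memL_iff _ _).1 ((allL_iff _ _).1 h1 a ha))).exists hσ hs⟩
  have := (allL_iff (fun r => bor (allL (fun a => memL a [0,1,2,3,4,5,6,7,8,9,11]) r)
    (bor (allL (fun a => memL a [10,11,0,1,2,3,4,5,6,8,9]) r) (allL (fun a => memL a [10,7]) r))) _).1
    (by decide +kernel) r hr
  rw [bor_eq, bor_eq] at this
  rcases this with h | h | h
  · refine key _ ll 0 h (by simp) fun a ha => ?_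
    rw [if_neg (by simp at ha; omega)]; exact in_l _
  · refine key _ (ll * phi (fx 12)) 0 h (by simp) fun a ha => ?_
    rcases List.mem_cons.1 ha with rfl | ha
    · exact k1
    rw [if_neg (by simp at ha; omega)]
    rcases List.mem_cons.1 ha with rfl | ha
    · exact in_m hσ hs (by rw [fx_nth]; exact one_mem _)
    · exact in_m hσ hs (gen_mem_cl _ ha)
  · refine key _ (ll * phi (fx 2)) 7 h (by simp) fun a ha => ?_
    simp only [List.mem_cons, List.not_mem_nil, or_false] at ha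
    rcases ha with rfl | rfl
    exacts [k2, k3]

end

section
variable {E : Type} [Group E]

/-- The involution of `E × Bool` given by an element. -/
def flip (a : E) : Equiv.Perm (E × Bool) :=
  Function.Involutive.toPerm (fun p => (cond p.2 a⁻¹ a * p.1, !p.2)) (by rintro ⟨e, _ | _⟩ <;> simp)

theorem flip_apply (a : E) (p : E × Bool) : flip a p = (cond p.2 a⁻¹ a * p.1, !p.2) := rfl

/-- The element of `Fi24` named by a pair. -/
noncomputable def th (σ : E →* Spor.Fi24') (p : E × Bool) : Spor.Fi24 := cond p.2 ll 1 * σ p.1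

theorem th_flip {σ : E →* Spor.Fi24'} {a : E} {d : Spor.Fi24} (hd : d * d = 1) (h : (σ a : Spor.Fi24) = ll * d)
    (p : E × Bool) : th σ (flip a p) = d * th σ p := by
  obtain ⟨e, _ | _⟩ := p
  · simp [th, flip_apply, h, ← mul_assoc, ll_sq]
  · simp [th, flip_apply, h, ← mul_assoc, ll_inv, inv_of_sq hd]

theorem th_sign {σ : E →* Spor.Fi24'} {p q : E × Bool} (h : sb (th σ p) = sb (th σ q)) : p.2 = q.2 := by
  have : ∀ e, sb (σ e) = 1 := fun e => mem_comm_bar.1 (σ e).2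
  obtain ⟨e, _ | _⟩ := p <;> obtain ⟨e', _ | _⟩ := q <;> simp [th, this, sb_ll] at h ⊢

/-- The permutations given by left multiplication with elements of `X`. -/
def LM (X : Subgroup E) : Subgroup (Equiv.Perm (E × Bool)) where
  carrier := {π | (∀ b, ∃ x ∈ X, ∃ c, ∀ e, π (e, b) = (x * e, c)) ∧ ∀ b, ∃ x ∈ X, ∃ c, ∀ e, π⁻¹ (e, b) = (x * e, c)}
  one_mem' := ⟨fun b => ⟨1, one_mem _, b, by simp⟩, fun b => ⟨1, one_mem _, b, by simp⟩⟩
  mul_mem' := by
    have key : ∀ {π π' : Equiv.Perm (E × Bool)}, (∀ b, ∃ x ∈ X, ∃ c, ∀ e, π (e, b) = (x * e, c)) →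
        (∀ b, ∃ x ∈ X, ∃ c, ∀ e, π' (e, b) = (x * e, c)) → ∀ b, ∃ x ∈ X, ∃ c, ∀ e, (π * π') (e, b) = (x * e, c) := by
      intro π π' h h' b
      obtain ⟨x', m', c', e'⟩ := h' b
      obtain ⟨x, m, c, e⟩ := h c'
      exact ⟨x * x', mul_mem m m', c, fun z => by rw [Equiv.Perm.mul_apply, e', e, mul_assoc]⟩
    intro a b ha hb
    exact ⟨key ha.1 hb.1, by rw [mul_inv_rev]; exact key hb.2 ha.2⟩
  inv_mem' := fun ha => ⟨ha.2, ha.1⟩

theorem flip_mem {X : Subgroup E} {a : E} (h : a ∈ X) : flip a ∈ LM X := by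
  have : ∀ b, ∃ x ∈ X, ∃ c, ∀ e, flip a (e, b) = (x * e, c) := fun b =>
    ⟨cond b a⁻¹ a, by cases b; exacts [h, inv_mem h], !b, fun _ => rfl⟩
  exact ⟨this, this⟩

end

theorem mb : MB Spor.Fi24' [3] := by
  intro E _ _ σ hσ
  obtain ⟨s, hs⟩ := exists_section Mult.Fi23.mb hσ.1 hσ.2.1 phiG_inj
  obtain ⟨A, h1, h2⟩ := exists_lifts hσ hs
  have h3 : ∀ w : List ℕ, (∀ a ∈ w, a < 12) → ∀ p, th σ (ev (fun a => flip (A a)) w p) = pr (ev y w) * th σ p := by
    intro w hw p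
    induction w with
    | nil => simp
    | cons a w ih =>
      rw [ev_cons, ev_cons, Equiv.Perm.mul_apply, th_flip (by rw [← map_mul, y_sq, map_one]) (h1 a (hw a (by simp))),
        ih fun b hb => hw b (by simp [hb]), map_mul, mul_assoc]
  obtain ⟨Z, hZ⟩ := exists_lift (fun a => flip (A a)) fun r hr => by
    obtain ⟨g, hg⟩ := h2 r hr
    have h4 : ev (fun a => flip (A a)) r ∈ LM ((MulAut.conj g).toMonoidHom.comp s).range :=
      ev_mem _ fun a ha => flip_mem (by obtain ⟨f, hf⟩ := hg a ha; exact ⟨f, hf.symm⟩)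
    refine Equiv.ext fun ⟨e, b⟩ => ?_
    obtain ⟨_, ⟨f, rfl⟩, c, h5⟩ := h4.1 b
    have h6 := h3 r (R0_lt r hr) (e, b)
    rw [y_rels r hr, map_one, one_mul, h5] at h6
    have h7 : c = b := th_sign (congrArg sb h6)
    have h8 : f = 1 := phi_inj (by simpa [th, h7, hs, coe_phiG] using h6)
    rw [h5, h7, h8]; simp
  have h4 : ∀ g p, th σ (Z g p) = pr g * th σ p := by
    intro g
    have hg : g ∈ cl y [0,1,2,3,4,5,6,7,8,9,10,11] := y_top ▸ mem_top g
    induction hg using closure_induction with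
    | mem x hx =>
      obtain ⟨a, ha, rfl⟩ := hx
      have ha : a < 12 := by simp at ha; omega
      intro p
      rw [hZ a ha, th_flip (by rw [← map_mul, y_sq, map_one]) (h1 a ha)]
    | one => simp
    | mul a b _ _ ha hb => intro p; rw [map_mul, Equiv.Perm.mul_apply, ha, hb, map_mul, mul_assoc]
    | inv a _ ha => intro p; rw [map_inv pr, eq_inv_mul_iff_mul_eq, ← ha]; simp
  have h5 : ∀ g, sg g = 1 → ∃ x, (σ x : Spor.Fi24) = pr g ∧ ∀ e, Z g (e, false) = (x * e, false) := by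
    intro g hg
    have : cl y [0,1,2,3,4,5,6,7,8,9,10,11] ≤ (LM ⊤).comap Z := cl_le _ fun a ha => by
      rw [mem_comap, hZ a (by simp at ha; omega)]; exact flip_mem (mem_top _)
    obtain ⟨x, -, c, h⟩ := (this (y_top ▸ mem_top g)).1 false
    have h6 := h4 g (1, false)
    rw [h] at h6
    have h7 : c = false := th_sign (σ := σ) (p := (x * 1, c)) (q := (1, false)) (by rw [h6, map_mul, sb_pr, hg, one_mul])
    subst h7
    exact ⟨x, by simpa [th] using h6, h⟩
  let I : Subgroup E :=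
    { carrier := {x | ∃ g, ∀ e, Z g (e, false) = (x * e, false)}
      one_mem' := ⟨1, by simp⟩
      mul_mem' := by
        rintro a b ⟨g, hg⟩ ⟨h, hh⟩
        exact ⟨g * h, fun e => by rw [map_mul, Equiv.Perm.mul_apply, hh, hg, mul_assoc]⟩
      inv_mem' := by
        rintro a ⟨g, hg⟩
        exact ⟨g⁻¹, fun e => by rw [map_inv, Equiv.Perm.inv_eq_iff_eq, hg, mul_inv_cancel_left]⟩ }
  have h6 : ∀ e, ∃ x ∈ I, σ x = σ e := fun e => by
    obtain ⟨g, hg⟩ := pr_surj (σ e)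
    obtain ⟨x, x1, x2⟩ := h5 g (by rw [← sb_pr, hg]; exact mem_comm_bar.1 (σ e).2)
    exact ⟨x, ⟨g, x2⟩, Subtype.ext (x1.trans hg)⟩
  have h7 : commutator E ≤ I := by
    rw [_root_.commutator_def, commutator_le]
    intro a _ b _
    obtain ⟨x, x1, x2⟩ := h6 a
    obtain ⟨z, z1, z2⟩ := h6 b
    rw [← commutator_congr hσ.2.1 x2 z2, commutatorElement_def]
    exact mul_mem (mul_mem (mul_mem x1 z1) (inv_mem x1)) (inv_mem z1)
  obtain ⟨k, k1, k2⟩ := h5 zeta sg_zeta
  have k3 : ∀ n : ℕ, Z (zeta ^ n) (1, false) = (k ^ n, false) := by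
    intro n
    induction n with
    | zero => simp
    | succ n ih => rw [pow_succ', map_mul, Equiv.Perm.mul_apply, ih, k2, pow_succ']
  refine ⟨[k], List.Forall₂.cons ⟨Subtype.ext (k1.trans pr_zeta), ?_⟩ List.Forall₂.nil, fun z hz => ?_⟩
  · have := k3 3
    rw [zeta_cube, map_one] at this
    exact (congrArg Prod.fst this).symm
  · obtain ⟨g, hg⟩ := h7 (hσ.2.2 hz)
    have h8 := h4 g (1, false)
    rw [hg] at h8
    obtain ⟨n, rfl⟩ := mem_powers_iff_mem_zpowers.2 ((pr_eq_one (g := g)).1 (by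
      simpa [th, MonoidHom.mem_ker.1 hz] using h8.symm))
    have := (hg 1).symm.trans (k3 n)
    rw [mul_one, Prod.mk.injEq] at this
    rw [this.1]
    exact pow_mem (subset_closure (by simp)) n

theorem multiplier : HasCyclicSchurMultiplier Spor.Fi24' 3 := by
  refine mb.ub_one.hasSchurMultiplier ?_
  let τ : sg.ker →* Spor.Fi24' := (pr.comp sg.ker.subtype).codRestrict _ fun g =>
    mem_comm_bar.2 ((sb_pr _).trans g.2)
  have hk : ∀ g : sg.ker, g ∈ τ.ker ↔ g.1 ∈ zpowers zeta := fun g => by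
    rw [← pr_eq_one, MonoidHom.mem_ker, Subtype.ext_iff]; rfl
  refine ⟨sg.ker, inferInstance, inferInstance, τ, ⟨fun g => ?_, fun g hg => mem_center_iff.2 fun x => ?_,
    fun _ _ => Group.IsPerfect.mem_commutator⟩, ?_⟩
  · obtain ⟨x, hx⟩ := pr_surj g
    exact ⟨⟨x, by rw [MonoidHom.mem_ker, ← sb_pr, hx]; exact mem_comm_bar.1 g.2⟩, Subtype.ext hx⟩
  · obtain ⟨n, hn⟩ := (hk g).1 hg
    have := conj_zeta x
    rw [MonoidHom.mem_ker.1 x.2, Units.val_one, zpow_one, mul_inv_eq_iff_eq_mul] at this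
    refine Subtype.ext ?_
    rw [coe_mul, coe_mul, ← hn]
    exact (Commute.zpow_right this n).eq
  · have := Fact.mk Nat.prime_three
    have e : τ.ker = zpowers (⟨zeta, sg_zeta⟩ : sg.ker) := by
      ext g
      rw [hk]
      exact ⟨fun ⟨n, h⟩ => ⟨n, Subtype.ext h⟩, fun ⟨n, h⟩ => ⟨n, congrArg Subtype.val h⟩⟩
    refine ⟨mulEquivOfPrimeCardEq (p := 3) ?_ (by simp)⟩
    rw [e, Nat.card_zpowers]
    refine orderOf_eq_prime (Subtype.ext zeta_cube) fun h => ?_
    have h1 := a_zeta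
    rw [show zeta = 1 from congrArg Subtype.val h, act_one, zpow_two, act_mul, a_R, a_R2] at h1
    omega

end Cfsg.Agent.F24
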