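import Cfsg.Agent.Lib.F24.Trans

/-! The automorphisms of `Fi24'`. -/

set_option autoImplicit false
set_option maxRecDepth 100000

namespace Cfsg.Agent.F24

open Cfsg.Agent.CG Cfsg.Agent.Mult Cfsg.Agent.TCX Subgroup
open scoped commutatorElement

/-- The embedding of `Fi23` in `Fi24'`. -/
noncomputable def phiG : FF →* Spor.Fi24' := phi.codRestrict _ fun f => mem_comm_bar.2 (sb_phi f)

theorem coe_phiG (f : FF) : (phiG f : Spor.Fi24) = phi f := rfl

/-- The element `lk`. -/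
noncomputable def rG : Spor.Fi24' := ⟨ll * kk, mem_comm_bar.2 (by simp [sb_ll, sb_kk])⟩

theorem coe_rG : (rG : Spor.Fi24) = ll * kk := rfl

attribute [irreducible] phiG rG

theorem phiG_inj : Function.Injective phiG := fun _ _ h => phi_inj (by rw [← coe_phiG, h, coe_phiG])

theorem cG {g h : Spor.Fi24'} : Commute g h ↔ Commute (g : Spor.Fi24) h := Subtype.ext_iff

theorem G_comm_l {g : Spor.Fi24'} (h : Commute ll g) : ∃ f, g = phiG f := by
  obtain ⟨f, hf⟩ := comm_l_even h (mem_comm_bar.1 g.2)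
  exact ⟨f, Subtype.ext (hf.trans (coe_phiG f).symm)⟩

theorem G_top {K : Subgroup Spor.Fi24'} (h1 : ∀ f, phiG f ∈ K) (h2 : rG ∈ K) (g : Spor.Fi24') : g ∈ K := by
  obtain ⟨x, hx⟩ := pr_surj g
  obtain ⟨z, h3, h4⟩ := even_le (K := (K.map (commutator Spor.Fi24).subtype).comap pr)
    (fun f => ⟨_, h1 f, (coe_phiG f).trans (phi_def f)⟩) ⟨_, h2, by
      rw [map_mul, coe_subtype, coe_rG]; unfold ll kk; rfl⟩ (g := x) (by rw [← sb_pr, hx]; exact mem_comm_bar.1 g.2)
  rwa [show z = g from Subtype.ext (h4.trans hx)] at h3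

theorem aut_ext {α β : MulAut Spor.Fi24'} (h1 : ∀ f, α (phiG f) = β (phiG f)) (h2 : α rG = β rG) : α = β :=
  MulEquiv.ext (G_top (K := α.toMonoidHom.eqLocus β.toMonoidHom) h1 h2)

theorem rG_cube : rG ^ 3 = 1 := Subtype.ext (by rw [coe_pow, coe_rG, lk_cube]; rfl)

theorem rG_not : ¬ Commute ll rG := fun h => not_comm_lk (by
  have := (Commute.refl ll).mul_right h
  rwa [coe_rG, ← mul_assoc, ll_sq, one_mul] at this)

theorem rG_ne : rG ≠ 1 := fun h => rG_not (by rw [h]; exact Commute.one_right _)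

theorem rG_comm {f : FF} (h : Commute kk (phi f)) : Commute rG (phiG f) :=
  cG.2 (by rw [coe_rG, coe_phiG]; exact (l_phi f).mul_left h)

theorem comm_of_two {Γ : Type*} [Group Γ] {l s : Γ} {K : Subgroup Γ} (hs : ∀ g ∈ K, Commute g s)
    (h : ∀ g ∈ K, g * l * g⁻¹ = l ∨ g * l * g⁻¹ = l * s) : ⁅K, K⁆ ≤ centralizer {l} := by
  rw [commutator_le]
  intro a ha b hb
  have key : ∀ g ∈ K, ∃ t, (∀ x ∈ K, Commute x t) ∧ Commute s t ∧ (t = 1 ∨ t = s) ∧ g * l * g⁻¹ = l * t := fun g hg =>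
    (h g hg).elim (fun e => ⟨1, fun _ _ => Commute.one_right _, Commute.one_right _, Or.inl rfl, by simpa using e⟩)
      fun e => ⟨s, hs, Commute.refl _, Or.inr rfl, e⟩
  obtain ⟨t, t1, t2, -, t3⟩ := key _ (inv_mem ha)
  obtain ⟨v, v1, -, v2, v3⟩ := key _ (inv_mem hb)
  have hc : Commute v t := by
    rcases v2 with rfl | rfl
    exacts [Commute.one_left _, t2]
  have e1 : a⁻¹ * b⁻¹ * l * (a⁻¹ * b⁻¹)⁻¹ = l * t * v := by
    calc _ = a⁻¹ * (b⁻¹ * l * b⁻¹⁻¹) * a⁻¹⁻¹ := by group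
      _ = a⁻¹ * l * a⁻¹⁻¹ * v := by rw [v3, ← mul_assoc, mul_assoc _ v, ← (v1 _ (inv_mem (inv_mem ha))).eq, ← mul_assoc]
      _ = _ := by rw [t3]
  have e2 : b⁻¹ * a⁻¹ * l * (b⁻¹ * a⁻¹)⁻¹ = l * t * v := by
    calc _ = b⁻¹ * (a⁻¹ * l * a⁻¹⁻¹) * b⁻¹⁻¹ := by group
      _ = b⁻¹ * l * b⁻¹⁻¹ * t := by rw [t3, ← mul_assoc, mul_assoc _ t, ← (t1 _ (inv_mem (inv_mem hb))).eq, ← mul_assoc]
      _ = _ := by rw [v3, mul_assoc, hc.eq, mul_assoc]
  rw [mem_centralizer_singleton_iff, commutatorElement_def]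
  calc a * b * a⁻¹ * b⁻¹ * l = a * b * (a⁻¹ * b⁻¹ * l * (a⁻¹ * b⁻¹)⁻¹) * (a⁻¹ * b⁻¹) := by group
    _ = _ := by rw [e1, ← e2]; group

theorem aut_keep {α : MulAut Spor.Fi24'} {g : FF} (hα : α (phiG (g * fx 12 * g⁻¹)) = phiG (g * fx 12 * g⁻¹))
    (P : Subgroup FF) [Group.IsPerfect P] (hP : ∀ c ∈ P, Commute (g * fx 12 * g⁻¹) c) {c : FF} (hc : c ∈ P) :
    ∃ f, α (phiG c) = phiG f ∧ Commute (g * fx 12 * g⁻¹) f := by
  set K : Subgroup Spor.Fi24' := centralizer {phiG (g * fx 12 * g⁻¹)}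
  have h1 : P.map (α.toMonoidHom.comp phiG) ≤ K := by
    rintro _ ⟨c, hc, rfl⟩
    rw [mem_centralizer_singleton_iff, ← hα]
    exact (((hP c hc).map phiG).map α).symm.eq
  have h2 : α (phiG c) ∈ ⁅K, K⁆ :=
    commutator_mono h1 h1 ((commutator_eq_self (H := P.map (α.toMonoidHom.comp phiG)) (hH := Group.IsPerfect.map _)).ge
      ⟨c, hc, rfl⟩)
  have h3 : ∀ x ∈ K.map (commutator Spor.Fi24).subtype, Commute x (phi (g * fx 12 * g⁻¹)) := by
    rintro _ ⟨x, hx, rfl⟩
    rw [← coe_phiG]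
    exact cG.1 (mem_centralizer_singleton_iff.1 hx)
  have h4 := comm_of_two h3 (fun x hx => cent_tr (h3 x hx)) (by
    rw [← map_commutator]; exact mem_map_of_mem (commutator Spor.Fi24).subtype h2)
  obtain ⟨f, hf⟩ := G_comm_l (g := α (phiG c)) (mem_centralizer_singleton_iff.1 h4 : Commute _ ll).symm
  refine ⟨f, hf, phi_comm ?_⟩
  rw [← coe_phiG f, ← hf]
  exact (h3 _ (mem_map_of_mem _ (h1 ⟨c, hc, rfl⟩))).symm

theorem m_ne : fx 12 ≠ 1 := fx_ne_one (by decide +kernel)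

theorem x_m : Commute xF (fx 12) := (m_comm (ev_mem_cl fx (w := xw) (by decide +kernel))).symm

theorem not_dvdG : ¬ 13 ^ (1 + 1) ∣ Nat.card Spor.Fi24' := fun h => by
  have := Fact.mk (show Nat.Prime 13 by norm_num)
  obtain ⟨K, k1, k2⟩ := Sylow.exists_subgroup_card_pow_succ h (H := zpowers (phiG xF))
    (by rw [Nat.card_zpowers, orderOf_injective phiG phiG_inj, xF_order, pow_one])
  have hc := IsPGroup.isMulCommutative_of_card_eq_prime_sq k1
  have h1 : K ≤ phiG.range := fun q hq => by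
    have h2 : Commute (phiG xF) q := congrArg Subtype.val (hc.is_comm.comm ⟨_, k2 (mem_zpowers _)⟩ ⟨q, hq⟩)
    have h3 : q ^ 13 ^ 2 = 1 := by
      have := congrArg Subtype.val (pow_card_eq_one' (x := (⟨q, hq⟩ : K)))
      rwa [k1] at this
    have h4 := cG.1 h2
    rw [coe_phiG] at h4
    obtain ⟨f, hf⟩ := G_comm_l (g := q) (commute_of_six (n := 2) (congrArg Subtype.val h3) (by simp) fun i =>
      fix_six (isD_l.conj _) (((h4.pow_right i).mul_right (l_phi _).symm).mul_right (h4.pow_right i).inv_right)).symm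
    exact ⟨f, hf.symm⟩
  have h2 := card_dvd_of_le h1
  rw [k1, ← Nat.card_congr (MonoidHom.ofInjective phiG_inj).toEquiv] at h2
  exact not_dvd169 h2

theorem no_three {r : Spor.Fi24'} (h1 : Commute (phiG xF) r) (h2 : Commute (phiG (fx 12)) r) (h3 : r ^ 3 = 1) :
    r = 1 := by
  have h4 : Commute (r : Spor.Fi24) (phi (fx 12)) := by rw [← coe_phiG]; exact (cG.1 h2).symm
  have h5 : Commute ll (r * r : Spor.Fi24') := by
    rcases cent_tr (f := 1) (g := r) (by simpa using h4) with h | h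
    · exact (show Commute ll r from (mul_inv_eq_iff_eq_mul.1 h).symm).mul_right (mul_inv_eq_iff_eq_mul.1 h).symm
    · simp only [one_mul, inv_one, mul_one] at h
      refine (mul_inv_eq_iff_eq_mul.1 ?_).symm
      calc (r * r : Spor.Fi24) * ll * (r * r : Spor.Fi24)⁻¹ = r * (r * ll * (r : Spor.Fi24)⁻¹) * (r : Spor.Fi24)⁻¹ := by
            group
        _ = r * ll * (r : Spor.Fi24)⁻¹ * phi (fx 12) := by
            nth_rewrite 1 [h]
            rw [← mul_assoc, mul_assoc _ (phi _), ← h4.inv_left.eq, ← mul_assoc]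
        _ = ll := by rw [h, mul_assoc, ← map_mul, fx_sq, map_one, mul_one]
  have h6 : r * r * (r * r) = r := by rw [← mul_assoc, ← pow_three', h3, one_mul]
  obtain ⟨f, rfl⟩ := G_comm_l (g := r * r * (r * r)) (h5.mul_right h5) |>.imp fun f hf => h6.symm.trans hf
  by_contra hne
  refine cx_23 x_m (phiG_inj (by simpa using h1.eq)) (by rw [sq, fx_sq]) m_ne (phiG_inj (by simpa using h3))
    (fun h => hne (by rw [h, map_one])) (phiG_inj (by simpa using h2.eq))

theorem invol_x {s : Spor.Fi24'} (h1 : Commute (phiG xF) s) (h2 : s * s = 1) (h3 : s ≠ 1)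
    (hno : ∀ r, Commute (phiG xF) r → Commute s r → r ^ 3 = 1 → r = 1) : ∃ g, g * s * g⁻¹ = phiG (fx 12) := by
  have h4 := cG.1 h1
  rw [coe_phiG] at h4
  have hs : (s : Spor.Fi24) * s = 1 := congrArg Subtype.val h2
  have hx := (rG_comm k_x).symm
  rcases fix_cases (isD_l.conj s) ((h4.mul_right (l_phi _).symm).mul_right h4.inv_right) with ⟨i, hi⟩ | ⟨d1, d2, -⟩
  · have h5 : Commute ll ((rG ^ (2 * i))⁻¹ * s * rG ^ (2 * i) : Spor.Fi24') := by
      have e1 := lk_conj (2 * i)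
      have e2 : (s : Spor.Fi24) * (ll * kk) ^ i * (s : Spor.Fi24)⁻¹ = ((ll * kk) ^ i)⁻¹ := by
        have : (ll * kk) ^ i = ll * (s * ll * (s : Spor.Fi24)⁻¹) := by rw [hi, ← mul_assoc, ll_sq, one_mul]
        rw [this, inv_of_sq hs]
        simp only [mul_inv_rev, inv_of_sq hs, ll_inv, ← mul_assoc, mul_assoc _ (s : Spor.Fi24) (s : Spor.Fi24), hs,
          mul_one]
      have e3 : (s : Spor.Fi24) * (ll * (ll * kk) ^ (2 * i)) * (s : Spor.Fi24)⁻¹ = ll * (ll * kk) ^ (2 * i) := by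
        rw [← conj_mul, hi, mul_comm 2, pow_mul, ← conj_pow, e2, mul_assoc, mul_right_inj, sq, mul_inv_cancel_left,
          inv_eq_iff_mul_eq_one, ← pow_succ', ← pow_mul, mul_comm, pow_mul, lk_cube, one_pow]
      rw [← e1] at e3
      simp only [coe_mul, coe_inv, coe_pow, coe_rG]
      generalize (ll * kk) ^ (2 * i) = c at e3
      calc ll * (c⁻¹ * s * c) = c⁻¹ * (c * ll * c⁻¹) * s * c := by group
        _ = _ := by rw [← e3]; group
    obtain ⟨f, hf⟩ := G_comm_l h5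
    have h6 : Commute (phiG xF) (phiG f) := hf ▸ ((hx.pow_right _).inv_right.mul_right h1).mul_right (hx.pow_right _)
    have h7 : phiG f * phiG f = 1 := by
      rw [← hf, ← inv_inv (rG ^ (2 * i)), inv_inv (rG ^ (2 * i))⁻¹, conj_mul, h2]; simp
    have h8 : f * f = 1 := phiG_inj (by simpa using h7)
    have h9 := cx_22 (phiG_inj (by simpa using h6.eq)) x_m (by rw [sq, h8]) (fun h => h3 (by
      rw [h, map_one] at hf
      simpa [mul_assoc, mul_eq_one_comm (a := (rG ^ (2 * i))⁻¹)] using hf)) (by rw [sq, fx_sq]) m_ne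
    refine ⟨phiG (f * fx 12) * (rG ^ (2 * i))⁻¹, ?_⟩
    calc _ = phiG (f * fx 12) * ((rG ^ (2 * i))⁻¹ * s * rG ^ (2 * i)) * (phiG (f * fx 12))⁻¹ := by group
      _ = _ := by rw [hf, ← map_inv, ← map_mul, ← map_mul, conj_of_cube h8 (fx_sq 12) h9]
  · exfalso
    rcases fix_cases (isD_k.conj s) ((h4.mul_right k_x.symm).mul_right h4.inv_right) with ⟨i, hi⟩ | ⟨e1, e2, -⟩
    · have := d1.mul_left ((d1.mul_left d2).pow_left i)
      rw [← hi] at this
      exact not_comm_lk (by simpa [mul_assoc] using (this.map (MulAut.conj (s : Spor.Fi24)⁻¹)).symm)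
    · have h5 : Commute rG (s * rG * s⁻¹) := cG.2 (by
        simp only [coe_mul, coe_inv, coe_rG]
        rw [← conj_mul]
        exact (d1.mul_right e1).mul_left (d2.mul_right e2))
      have h6 := hno (rG * (s * rG * s⁻¹)) (hx.mul_right ((h1.mul_right hx).mul_right h1.inv_right)) (by
        rw [commute_iff_eq]
        nth_rewrite 2 [h5.eq]
        rw [inv_of_sq h2]
        simp only [← mul_assoc, mul_assoc _ s s, h2, mul_one]) (by rw [h5.mul_pow, conj_pow, rG_cube]; simp)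
      refine rG_not ?_
      rw [eq_inv_of_mul_eq_one_left h6]
      simp only [coe_mul, coe_inv, coe_rG]
      rw [← conj_mul]
      exact (d1.mul_right e1).inv_right

theorem step2 (α : MulAut Spor.Fi24') : ∃ g, (MulAut.conj g * α : MulAut Spor.Fi24') (phiG (fx 12)) = phiG (fx 12) := by
  have := Fact.mk (show Nat.Prime 13 by norm_num)
  have ho : orderOf (phiG xF) = 13 := by rw [orderOf_injective phiG phiG_inj, xF_order]
  obtain ⟨g, hg⟩ := exists_conj_of_card (n := 1) (by norm_num) (H := zpowers (phiG xF)) (K := zpowers (α (phiG xF)))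
    (by rw [Nat.card_zpowers, ho, pow_one]) (by rw [Nat.card_zpowers, MulEquiv.orderOf_eq, ho, pow_one]) not_dvdG
  have h1 : (MulAut.conj g * α : MulAut Spor.Fi24') (phiG xF) ∈ zpowers (phiG xF) := hg _ (mem_zpowers _)
  generalize hβ : MulAut.conj g * α = β at h1
  have h2 : phiG xF ∈ zpowers (β (phiG xF)) := by
    rw [eq_of_le_of_card_ge (zpowers_le.2 h1) (by rw [Nat.card_zpowers, Nat.card_zpowers, MulEquiv.orderOf_eq])]
    exact mem_zpowers _
  obtain ⟨n, hn⟩ := h1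
  obtain ⟨k, hk⟩ := h2
  obtain ⟨c, hc⟩ := invol_x (s := β (phiG (fx 12))) (hk ▸ ((x_m.map phiG).map β).zpow_left k)
    (by rw [← map_mul, ← map_mul, fx_sq, map_one, map_one])
    (fun h => m_ne (phiG_inj (β.injective (by rw [h, map_one, map_one])))) fun r r1 r2 r3 => by
      obtain ⟨r, rfl⟩ := β.surjective r
      have r4 := r1.zpow_left n
      dsimp only at hn
      rw [hn] at r4
      rw [no_three (r := r) (β.injective (by simpa using r4.eq)) (β.injective (by simpa using r2.eq))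
        (β.injective (by simpa using r3)), map_one]
  exact ⟨c * g, by rw [map_mul, mul_assoc, hβ]; exact hc⟩

theorem restrict_CC {α : MulAut Spor.Fi24'} (h : α (phiG (fx 12)) = phiG (fx 12)) :
    ∃ β : MulAut CC, β mC = mC ∧ ∀ x : CC, phiG (β x) = α (phiG x) := by
  have hi : Function.Injective (phiG.comp CC.subtype) := phiG_inj.comp Subtype.val_injective
  obtain ⟨β, hβ⟩ := restrict_aut hi α fun x => by
    obtain ⟨f, h1, h2⟩ := aut_keep (g := 1) (by simpa using h) CC (fun c hc => by simpa using m_comm hc) x.2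
    exact ⟨⟨f, cent_m (by simpa using h2)⟩, h1.symm⟩
  exact ⟨β, hi ((hβ mC).trans h), hβ⟩

/-- An element that interchanges `l` and `m`. -/
noncomputable def sw0 : Spor.Fi24' :=
  (phiG (ev fx t3m))⁻¹ * ⟨pr uu, mem_comm_bar.2 (by rw [sb_pr, sg_uu])⟩ * phiG (ev fx t3m)

theorem sw0_l : (sw0 : Spor.Fi24) * ll * (sw0 : Spor.Fi24)⁻¹ = ll * phi (fx 12) := by
  simp only [sw0, coe_mul, coe_inv, coe_phiG]
  calc _ = (phi (ev fx t3m))⁻¹ * (pr uu * (phi (ev fx t3m) * ll * (phi (ev fx t3m))⁻¹) * (pr uu)⁻¹) *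
        phi (ev fx t3m) := by group
    _ = _ := by
      rw [← (l_phi _).eq, mul_inv_cancel_right, u_ll, ← t3_conj, ← phi_conj]; group

theorem sw0_m : MulAut.conj sw0 (phiG (fx 12)) = phiG (fx 12) := by
  have h : pr uu * phi (fx 0) * (pr uu)⁻¹ = phi (fx 0) := by
    rw [phi_def, psi_fx0 (by norm_num), ← map_inv, ← map_mul, ← map_mul, ← conj_mul, uu_inv, u_l, (l_comm (by norm_num)).eq]
    nth_rewrite 2 [← u_l]
    simp only [← mul_assoc, uu_sq, one_mul, mul_assoc _ uu uu, mul_one]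
  refine Subtype.ext ?_
  simp only [sw0, MulAut.conj_apply, coe_mul, coe_inv, coe_phiG]
  calc _ = (phi (ev fx t3m))⁻¹ * (pr uu * (phi (ev fx t3m) * phi (fx 12) * (phi (ev fx t3m))⁻¹) * (pr uu)⁻¹) *
        phi (ev fx t3m) := by group
    _ = _ := by
      rw [← map_inv, ← map_mul, ← map_mul, t3_conj, h, ← t3_conj, ← map_mul, ← map_mul]; congr 1; group

theorem step3 {α : MulAut Spor.Fi24'} (h : α (phiG (fx 12)) = phiG (fx 12)) :
    ∃ g, ∀ c ∈ CC, (MulAut.conj g * α : MulAut Spor.Fi24') (phiG c) = phiG c := by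
  obtain ⟨β, b1, b2⟩ := restrict_CC h
  obtain ⟨σ, s1, s2⟩ := restrict_CC sw0_m
  rcases out_le_two mC_center out_quot β σ b1 s1 with ⟨c, hc⟩ | ⟨c, hc⟩ | ⟨c, hc⟩
  · refine ⟨(phiG c)⁻¹, fun x hx => ?_⟩
    have := b2 ⟨x, hx⟩
    rw [hc] at this
    rw [MulAut.mul_apply, ← this]
    simp [mul_assoc]
  · exfalso
    have h1 := s2 ⟨fx 0, gen_mem_cl _ (by simp)⟩
    rw [hc] at h1
    have h2 := congrArg Subtype.val h1
    simp only [MulAut.conj_apply, coe_mul, coe_inv, coe_phiG, map_mul, map_inv] at h2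
    have h3 := cent_tr (f := ev fx vw) (g := (phi c)⁻¹ * sw0) (by
      rw [v_conj]
      calc _ = (phi c)⁻¹ * (sw0 * phi (fx 0) * (sw0 : Spor.Fi24)⁻¹) * sw0 := by group
        _ = _ := by rw [← h2]; group)
    have h4 : (phi c)⁻¹ * sw0 * ll * ((phi c)⁻¹ * sw0)⁻¹ = ll * phi (fx 12) := by
      calc _ = (phi c)⁻¹ * (sw0 * ll * (sw0 : Spor.Fi24)⁻¹) * (phi c)⁻¹⁻¹ := by group
        _ = _ := by rw [sw0_l, ← map_inv, phi_conj, ← (m_comm (inv_mem c.2)).eq, mul_inv_cancel_right]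
    rw [h4, v_conj, mul_eq_left, mul_right_inj, ← map_one phi] at h3
    rcases h3 with h3 | h3
    · exact m_ne (phi_inj h3)
    · exact fx_ne (u := [12]) (v := [0]) (by decide +kernel) (by simpa using phi_inj h3)
  · refine ⟨(phiG c * sw0)⁻¹, fun x hx => ?_⟩
    have h1 := b2 ⟨x, hx⟩
    have h2 := s2 ⟨x, hx⟩
    rw [hc] at h1
    rw [MulAut.mul_apply, ← h1, coe_mul, coe_mul, map_mul phiG, map_mul phiG, h2]
    simp [mul_assoc]

theorem step4 {α : MulAut Spor.Fi24'} (h : ∀ c ∈ CC, α (phiG c) = phiG c) :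
    ∃ g, ∀ f, (MulAut.conj g * α : MulAut Spor.Fi24') (phiG f) = phiG f := by
  have h1 : cl fx [0,1,2,3,4,5,6,7,8,9] ≤ phiG.range.comap (α.toMonoidHom.comp phiG) := cl_le _ fun a ha => by
    by_cases e : a = 7
    · have := Group.IsPerfect.map (H := CC) (MulAut.conj (ev fx t3m)).toMonoidHom
      obtain ⟨f, h2, -⟩ := aut_keep (α := α) (g := ev fx t3m) (by rw [t3_conj]; exact h _ (gen_mem_cl _ (by simp)))
        (CC.map (MulAut.conj (ev fx t3m)).toMonoidHom) (by
          rintro _ ⟨c, hc, rfl⟩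
          rw [t3_conj]; exact a_comm hc) (c := fx 7)
        ⟨fx 5, gen_mem_cl _ (by simp), conj_of_eqF (by decide +kernel)⟩
      rw [e]; exact ⟨f, h2.symm⟩
    · exact ⟨fx a, (h _ (gen_mem_cl _ (by simp at ha ⊢; omega))).symm⟩
  obtain ⟨β, hβ⟩ := restrict_aut phiG_inj α fun x => h1 (fx_top ▸ mem_top x)
  obtain ⟨c, hc⟩ := inner_of_out_one CG.Fi23.card_out β
  refine ⟨(phiG c)⁻¹, fun x => ?_⟩
  rw [MulAut.mul_apply, ← hβ, hc]
  simp [mul_assoc]

/-- Conjugation by `l`. -/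
noncomputable def lam : MulAut Spor.Fi24' := MulAut.conjNormal ll

theorem lam_phi (f : FF) : lam (phiG f) = phiG f := Subtype.ext (by
  rw [lam, MulAut.conjNormal_apply, coe_phiG, (l_phi f).eq, mul_inv_cancel_right])

theorem lam_r : lam rG = rG⁻¹ := Subtype.ext (by
  rw [lam, MulAut.conjNormal_apply, coe_inv, coe_rG, ← mul_assoc, ll_sq, one_mul, mul_inv_rev, kk_inv])

theorem comm_of_cube {Γ : Type*} [Group Γ] {r c : Γ} (hr : r ^ 3 = 1) (hc : c ^ 3 = 1) (h : r * c * r⁻¹ ∈ zpowers c) :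
    Commute r c := by
  obtain ⟨n, hn⟩ := h
  dsimp only at hn
  rw [zpow_eq_zpow_emod' _ hc] at hn
  have h3 : n % 3 = 0 ∨ n % 3 = 1 ∨ n % 3 = 2 := by omega
  rcases h3 with h3 | h3 | h3 <;> simp only [Nat.cast_ofNat, h3] at hn
  · have : c = 1 := by simpa using hn.symm
    rw [this]; exact Commute.one_right _
  · exact mul_inv_eq_iff_eq_mul.1 (by simpa using hn.symm)
  · have h1 : r * r * c * (r * r)⁻¹ = c := by
      calc _ = r * (r * c * r⁻¹) * r⁻¹ := by group
        _ = (r * c * r⁻¹) ^ (2 : ℤ) := by rw [conj_zpow, hn]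
        _ = c ^ 3 * c := by rw [← hn]; group
        _ = c := by rw [hc, one_mul]
    have h2 : Commute (r * r) c := mul_inv_eq_iff_eq_mul.1 h1
    have h4 := h2.mul_left h2
    rwa [← mul_assoc, ← pow_three', hr, one_mul] at h4

theorem step5 {α : MulAut Spor.Fi24'} (h : ∀ f, α (phiG f) = phiG f) : α = 1 ∨ α = lam := by
  have c1 : ∀ {f}, Commute kk (phi f) → Commute (phiG f) (α rG) := fun {f} hf => h f ▸ (rG_comm hf).symm.map α
  have c2 : ∀ {f d}, Commute kk (phi f) → Commute (phi f) d →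
      Commute (phi f) ((α rG : Spor.Fi24) * d * (α rG : Spor.Fi24)⁻¹) := fun {f d} h1 h2 => by
    have := cG.1 (c1 h1)
    rw [coe_phiG] at this
    exact (this.mul_right h2).mul_right this.inv_right
  obtain ⟨i, hi⟩ := (fix_cases (isD_l.conj (α rG)) (c2 k_x (l_phi _).symm)).resolve_right
    fun h1 => h1.2.2 (c2 k_bj (l_phi _).symm).symm
  obtain ⟨j, hj⟩ := (fix_cases (isD_k.conj (α rG)) (c2 k_x k_x.symm)).resolve_right
    fun h1 => h1.2.2 (c2 k_bj k_bj.symm).symm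
  have h3 : α rG ^ 3 = 1 := by rw [← map_pow, rG_cube, map_one]
  have h4 : α rG * rG * (α rG)⁻¹ ∈ zpowers rG := by
    refine ⟨-i + j, Subtype.ext ?_⟩
    have e : ll * (ll * kk) ^ i * ll = ((ll * kk) ^ i)⁻¹ := by
      nth_rewrite 3 [← ll_inv]
      rw [← conj_pow, ← mul_assoc, ll_sq, one_mul, ← inv_pow, mul_inv_rev, kk_inv]
    simp only [coe_mul, coe_inv, coe_zpow, coe_rG]
    rw [← conj_mul, hi, hj, ← mul_assoc, e, zpow_add, zpow_neg, zpow_natCast, zpow_natCast]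
  have h5 : Commute (α rG) rG := comm_of_cube h3 rG_cube h4
  obtain ⟨f, hf⟩ := G_comm_l (g := (rG ^ i)⁻¹ * α rG) (by
    rw [← lk_conj] at hi
    simp only [coe_mul, coe_inv, coe_pow, coe_rG] at hi ⊢
    generalize (ll * kk) ^ i = c at hi
    calc _ = c⁻¹ * (c * ll * c⁻¹) * α rG := by group
      _ = _ := by rw [← hi]; group)
  have c3 : ∀ {g}, Commute kk (phi g) → Commute g f := fun {g} hg => phiG_inj (by
    rw [map_mul, map_mul, ← hf]
    exact (((rG_comm hg).symm.pow_right i).inv_right.mul_right (c1 hg)).eq)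
  have h6 : f = 1 := by
    by_contra hne
    have h7 : f ^ 3 = 1 := phiG_inj (by
      rw [map_pow, ← hf, (h5.symm.pow_left i).inv_left.mul_pow, h3, inv_pow, ← pow_mul, mul_comm, pow_mul, rG_cube]
      simp)
    have h8 : ¬ Commute (fx 1 * fx 7) (fx 12 * fx 16) := fun h =>
      fx_ne (u := [1,7,12,16]) (v := [12,16,1,7]) (by decide +kernel) (by simpa [mul_assoc] using h.eq)
    rcases cx_33 (c3 k_x) (r := fx 12 * fx 16)
      (by
        have := fx_eq (u := xw ++ [12,16]) (v := 12 :: 16 :: xw) (by decide +kernel)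
        rw [ev_append] at this
        simpa [xF, commute_iff_eq, mul_assoc] using this) h7 hne
      (by simpa [pow_succ, mul_assoc] using fx_eq (u := [12,16,12,16,12,16]) (v := []) (by decide +kernel))
      (by simpa using fx_ne (u := [12,16]) (v := []) (by decide +kernel)) with h9 | h9
    · exact h8 (h9 ▸ c3 k_bj)
    · exact h8 (by simpa using (h9 ▸ c3 k_bj).inv_right)
  rw [h6, map_one, inv_mul_eq_one, pow_eq_pow_mod i rG_cube] at hf
  have h7 : i % 3 = 0 ∨ i % 3 = 1 ∨ i % 3 = 2 := by omega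
  rcases h7 with h7 | h7 | h7 <;> rw [h7] at hf
  · exact absurd (α.injective (by simpa using hf.symm)) rG_ne
  · exact Or.inl (aut_ext h (by simpa using hf.symm))
  · refine Or.inr (aut_ext (fun f => (h f).trans (lam_phi f).symm) ?_)
    rw [lam_r, ← hf, eq_inv_iff_mul_eq_one, ← pow_succ, rG_cube]

theorem lam_not : lam ∉ Inn Spor.Fi24' := by
  rintro ⟨g, hg⟩
  have h1 : ∀ x : Spor.Fi24', Commute ((g : Spor.Fi24)⁻¹ * ll) x := fun x => by
    have := congrArg Subtype.val (DFunLike.congr_fun hg x)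
    simp only [lam, MulAut.conjNormal_apply, MulAut.conj_apply, coe_mul, coe_inv] at this
    calc _ = (g : Spor.Fi24)⁻¹ * (ll * x * ll⁻¹) * ll := by group
      _ = _ := by rw [← this]; group
  have h2 : ∀ f, Commute ((g : Spor.Fi24)⁻¹ * ll) (phi f) := fun f => coe_phiG f ▸ h1 _
  have h3 : Commute ll ((g : Spor.Fi24)⁻¹ * ll) := by
    refine (mul_inv_eq_iff_eq_mul.1 ?_).symm
    refine (cent_tr (f := 1) (h2 _)).elim id fun h4 => (cent_tr (f := ev fx vw) (h2 _)).elim id fun h5 => ?_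
    rw [h4, v_conj, mul_right_inj] at h5
    exact absurd (by simpa using phi_inj h5) (fx_ne (u := [12]) (v := [0]) (by decide +kernel))
  obtain ⟨f, hf⟩ := G_comm_l (g := g⁻¹) (by simpa [ll_sq, mul_assoc] using h3.mul_right (Commute.refl ll))
  have h4 : f ∈ center FF := mem_center_iff.2 fun x => (phi_comm (by
    have := (h2 x).mul_left (l_phi x)
    rwa [mul_assoc, ll_sq, mul_one, ← coe_inv, hf, coe_phiG] at this)).symm.eq
  rw [fx_center, mem_bot] at h4
  have h5 := h1 rG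
  rw [← coe_inv, hf, h4, map_one, OneMemClass.coe_one, one_mul] at h5
  exact rG_not h5

theorem card_out : Nat.card (Out Spor.Fi24') = 2 := by
  have key : ∀ α : MulAut Spor.Fi24', (α : Out Spor.Fi24') = 1 ∨ (α : Out Spor.Fi24') = lam := by
    intro α
    have e : ∀ (g : Spor.Fi24') (β : MulAut Spor.Fi24'), ((MulAut.conj g * β : MulAut _) : Out Spor.Fi24') = β :=
      fun g β => by rw [QuotientGroup.mk_mul, (QuotientGroup.eq_one_iff (N := Inn _) (MulAut.conj g)).2 ⟨g, rfl⟩, one_mul]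
    obtain ⟨g2, h2⟩ := step2 α
    obtain ⟨g3, h3⟩ := step3 h2
    obtain ⟨g4, h4⟩ := step4 h3
    rw [← e g2, ← e g3, ← e g4]
    rcases step5 h4 with h | h <;> rw [h]
    exacts [Or.inl rfl, Or.inr rfl]
  rw [Nat.card_eq_two_iff]
  refine ⟨1, lam, fun h => lam_not ((QuotientGroup.eq_one_iff _).1 h.symm), Set.eq_univ_of_forall fun x => ?_⟩
  obtain ⟨α, rfl⟩ := QuotientGroup.mk_surjective x
  simpa using key α

end Cfsg.Agent.F24
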