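import Cfsg.Agent.Lib.F24.Lists

set_option autoImplicit false
set_option maxRecDepth 100000
set_option Elab.async false

namespace Cfsg.Agent.F24

open Cfsg.Agent.CG Cfsg.Agent.Mult

theorem st_ok : stOK 920808 st = true := by decide +kernel
theorem q_u : Nat.beq (apW st (trw [10,11,0,10]) (Nat.shiftLeft 1 31649)) (Nat.shiftLeft 1 0) = true := by decide +kernel
theorem q_v : Nat.beq (apW st (trw vw) (Nat.shiftLeft 1 31649)) (Nat.shiftLeft 1 31671) = true := by decide +kernel
theorem q_j : Nat.beq (apW st (trw [7]) (Nat.shiftLeft 1 31546)) (Nat.shiftLeft 1 31671) = true := by decide +kernel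
theorem q_tc : Nat.beq (apW st (trw [1,0,2,1]) (Nat.shiftLeft 1 31650)) (Nat.shiftLeft 1 31649) = true := by decide +kernel
theorem q_g : Nat.beq (apW st (trw gw) (Nat.shiftLeft 1 20438)) (Nat.shiftLeft 1 31649) = true := by decide +kernel
theorem q_k : Nat.beq (apW st (trw [10]) (Nat.shiftLeft 1 306808)) (Nat.shiftLeft 1 0) = true := by decide +kernel
theorem q_l : Nat.beq (apW st (trw [11]) (Nat.shiftLeft 1 306809)) (Nat.shiftLeft 1 306808) = true := by decide +kernel
theorem q_g2 : Nat.beq (apW st (trw gw) (Nat.shiftLeft 1 306808)) (Nat.shiftLeft 1 812904) = true := by decide +kernel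
theorem q_a : Nat.beq (apW st (trw [0]) (Nat.shiftLeft 1 505968)) (Nat.shiftLeft 1 812904) = true := by decide +kernel
theorem q_g3 : Nat.beq (apW st (trw gw) (Nat.shiftLeft 1 613744)) (Nat.shiftLeft 1 505968) = true := by decide +kernel
theorem q_k2 : Nat.beq (apW st (trw [10]) (Nat.shiftLeft 1 613872)) (Nat.shiftLeft 1 613744) = true := by decide +kernel
theorem q_R : Nat.beq (apW st (trw [15]) (Nat.shiftLeft 1 306936)) (Nat.shiftLeft 1 0) = true := by decide +kernel
theorem q_R2 : Nat.beq (apW st (trw [15]) (Nat.shiftLeft 1 613872)) (Nat.shiftLeft 1 306936) = true := by decide +kernel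
theorem q_e2 : Nat.beq (apW st (trw kaw) (Nat.shiftLeft 1 17298)) (Nat.shiftLeft 1 20438) = true := by decide +kernel
theorem q_e3 : Nat.beq (apW st (trw kbw) (Nat.shiftLeft 1 17620)) (Nat.shiftLeft 1 20438) = true := by decide +kernel
theorem i_0 : allL (fun a => Nat.beq (apW st (trw [a]) (Nat.shiftLeft 1 0)) (Nat.shiftLeft 1 0)) [0,1,2,3,4,5,6,7,8,9,11] = true := by decide +kernel
theorem i_m : allL (fun a => Nat.beq (apW st (trw [a]) (Nat.shiftLeft 1 31671)) (Nat.shiftLeft 1 31671)) [0,1,2,3,4,5,6,8,9,11] = true := by decide +kernel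
theorem i_O : allL (fun a => Nat.beq (apW st (trw [a]) O1) O1) [0,1,2,3,4,5,6,7,8,9,11] = true := by decide +kernel
theorem i_C : allL (fun a => Nat.beq (apW st (trw [a]) (pts [31671,31649,31546])) (pts [31671,31649,31546])) [11] = true := by decide +kernel
theorem i_K : allL (fun a => Nat.beq (apW st (trw [a]) (pts [31649,31650,20438])) (pts [31649,31650,20438])) [11] = true := by decide +kernel
theorem o_C : Nat.beq (orb st [0,2,4,6,8] [1,3,5,9] 9 (pts [31671,31649,31546])) O1 = true := by decide +kernel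
theorem o_K : Nat.beq (orb st [2,4,6,8] [1,3,5,7,9] 9 (pts [31649,31650,20438])) O1 = true := by decide +kernel
theorem c0a : Nat.ble 1080 (popc 20 (orb st [0,2,4,8] [1,3,5,9,10] 10 (Nat.shiftLeft 1 0))) = true := by decide +kernel
theorem c0b : allL (fun a => Nat.beq (apW st (trw [a]) (Nat.shiftLeft 1 0)) (Nat.shiftLeft 1 0)) [0,1,2,3,4,5,8,9] = true := by decide +kernel
theorem c1a : Nat.ble 3159 (popc 20 (orb st [0,2,4,8] [1,3,5,9] 8 (Nat.shiftLeft 1 31659))) = true := by decide +kernel
theorem c1b : allL (fun a => Nat.beq (apW st (trw [a]) (Nat.shiftLeft 1 31659)) (Nat.shiftLeft 1 31659)) [0,1,2,3,4,8,9] = true := by decide +kernel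
theorem c2a : Nat.ble 56 (popc 20 (orb st [0,2,4,8] [1,3,9] 9 (Nat.shiftLeft 1 306809))) = true := by decide +kernel
theorem c2b : allL (fun a => Nat.beq (apW st (trw [a]) (Nat.shiftLeft 1 306809)) (Nat.shiftLeft 1 306809)) [1,2,3,4,8,9] = true := by decide +kernel
theorem c3a : Nat.ble 27 (popc 20 (orb st [2,4,8] [1,3,9] 6 (Nat.shiftLeft 1 31649))) = true := by decide +kernel
theorem c3b : allL (fun a => Nat.beq (apW st (trw [a]) (Nat.shiftLeft 1 31649)) (Nat.shiftLeft 1 31649)) [2,3,4,8,9] = true := by decide +kernel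
theorem c4a : Nat.ble 16 (popc 20 (orb st [2,4,8] [3,9] 4 (Nat.shiftLeft 1 31394))) = true := by decide +kernel
theorem c4b : allL (fun a => Nat.beq (apW st (trw [a]) (Nat.shiftLeft 1 31394)) (Nat.shiftLeft 1 31394)) [3,4,8,9] = true := by decide +kernel
theorem c5a : Nat.ble 5 (popc 20 (orb st [4,8] [3,9] 2 (Nat.shiftLeft 1 30926))) = true := by decide +kernel
theorem c5b : allL (fun a => Nat.beq (apW st (trw [a]) (Nat.shiftLeft 1 30926)) (Nat.shiftLeft 1 30926)) [3,8,9] = true := by decide +kernel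
theorem c6a : Nat.ble 4 (popc 20 (orb st [8] [3,9] 2 (Nat.shiftLeft 1 31654))) = true := by decide +kernel
theorem c6b : allL (fun a => Nat.beq (apW st (trw [a]) (Nat.shiftLeft 1 31654)) (Nat.shiftLeft 1 31654)) [8,9] = true := by decide +kernel
theorem c7a : Nat.ble 3 (popc 20 (orb st [8] [9] 1 (Nat.shiftLeft 1 28354))) = true := by decide +kernel
theorem c7b : allL (fun a => Nat.beq (apW st (trw [a]) (Nat.shiftLeft 1 28354)) (Nat.shiftLeft 1 28354)) [9] = true := by decide +kernel
theorem c8a : Nat.ble 2 (popc 20 (orb st [] [9] 1 (Nat.shiftLeft 1 31655))) = true := by decide +kernel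
theorem c8b : allL (fun a => Nat.beq (apW st (trw [a]) (Nat.shiftLeft 1 31655)) (Nat.shiftLeft 1 31655)) [] = true := by decide +kernel
theorem f_x : Nat.beq (Nat.land (Nat.xor (mov 920808 20 st (trw xw) 20) (Nat.sub (Nat.pow 2 920808) 1)) (Nat.sub (Nat.pow 2 306936) 1)) (pts [0,306808,306809,31671,17298,17620]) = true := by decide +kernel
theorem f_R : Nat.beq (Nat.lor (Nat.sub (Nat.pow 2 306936) 1) (Nat.lor (apW st (trw [15]) (Nat.sub (Nat.pow 2 306936) 1)) (apW st (trw [15,15]) (Nat.sub (Nat.pow 2 306936) 1)))) (Nat.sub (Nat.pow 2 920808) 1) = true := by decide +kernel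

end Cfsg.Agent.F24
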