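import Cfsg.Agent.Lib.F24.Bar

/-! The transpositions of `Fi24`. -/

set_option autoImplicit false
set_option maxRecDepth 100000

namespace Cfsg.Agent.F24

open Cfsg.Agent.CG Cfsg.Agent.Mult Cfsg.Agent.TCX Subgroup

/-- The transposition `l`. -/
noncomputable def ll : Spor.Fi24 := pr (y 11)

/-- The transposition `k`. -/
noncomputable def kk : Spor.Fi24 := pr (y 10)

/-- The embedding of `Fi23`. -/
noncomputable def phi : FF →* Spor.Fi24 := pr.comp psi

theorem phi_def (f : FF) : phi f = pr (psi f) := rfl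

theorem ll_sq : ll * ll = 1 := by rw [ll, ← map_mul, y_sq, map_one]
theorem kk_sq : kk * kk = 1 := by rw [kk, ← map_mul, y_sq, map_one]
theorem ll_inv : ll⁻¹ = ll := inv_of_sq ll_sq
theorem kk_inv : kk⁻¹ = kk := inv_of_sq kk_sq
theorem kl_cube' : (kk * ll) ^ 3 = 1 := by rw [kk, ll, ← map_mul, ← map_pow, kl_cube, map_one]
theorem l_phi (f : FF) : Commute ll (phi f) := (l_psi f).map pr
theorem sb_phi (f : FF) : sb (phi f) = 1 := by rw [phi_def, sb_pr, sg_psi]
theorem sb_ll : sb ll = -1 := by rw [ll, sb_pr, sg_y (by norm_num)]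
theorem sb_kk : sb kk = -1 := by rw [kk, sb_pr, sg_y (by norm_num)]

theorem lk_cube : (ll * kk) ^ 3 = 1 := by
  rw [← inv_eq_one, ← inv_pow, mul_inv_rev, ll_inv, kk_inv, kl_cube']

theorem phi_inj : Function.Injective phi := (injective_iff_map_eq_one phi).2 fun f h =>
  psi_inj (by rw [zeta_fix (pr_eq_one.1 h) (act_H1 (psi_mem f)), map_one])

theorem phi_comm {f g : FF} (h : Commute (phi f) (phi g)) : Commute f g :=
  phi_inj (by rw [map_mul, map_mul, h.eq])

theorem pr_y_phi {a : ℕ} (ha : a < 18) (h : a ≠ 10) : pr (y a) = ll * phi (fx a) := by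
  rw [y_psi ha h, map_mul]; rfl

theorem pr_H1 {h : Hat} (hh : h ∈ H1) : ∃ f, pr h = phi f ∨ pr h = ll * phi f := by
  obtain ⟨f, rfl | rfl⟩ := decH hh
  exacts [⟨f, Or.inl rfl⟩, ⟨f, Or.inr (map_mul _ _ _)⟩]

theorem pr_SS {g : Hat} (hg : g ∈ SS) : ∃ f, pr g = phi f ∨ pr g = ll * phi f := by
  obtain ⟨z, h0, h, h1, rfl⟩ := mem_SS hg
  rw [map_mul, pr_eq_one.2 h0, one_mul]
  exact pr_H1 h1

theorem SS_comm {g : Hat} (hg : g ∈ SS) : Commute ll (pr g) := by
  obtain ⟨f, h | h⟩ := pr_SS hg <;> rw [h]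
  exacts [l_phi f, (Commute.refl _).mul_right (l_phi f)]

theorem u_ll : pr uu * ll * (pr uu)⁻¹ = ll * phi (fx 0) := by
  rw [ll, ← map_inv, uu_inv, ← map_mul, ← map_mul, u_l, pr_y_phi (by norm_num) (by norm_num), ll]

theorem fx_ne_one {a : ℕ} (h : eqF [a] [] = false) : fx a ≠ 1 := by simpa using fx_ne h

theorem not_comm_lk : ¬ Commute ll kk := fun h => by
  have h1 := eq_of_cube_of_comm ll_sq kk_sq lk_cube h
  have h2 : pr (y 11 * y 10) = 1 := by rw [map_mul, ← ll, ← kk, ← h1, ll_sq]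
  exact k_not ((mul_mem_cancel_left (H1_le l_mem)).1 (zeta_le (pr_eq_one.1 h2)))

theorem comm_SS {g : Hat} (hg : Commute ll (pr g)) : g ∈ SS := by
  obtain ⟨z, h0, h, h1, h', h2, r, hr, rfl⟩ := cover_hat g
  rw [mul_mem_cancel_left (zeta_le h0), mul_mem_cancel_right (H1_le h2), mul_mem_cancel_left (H1_le h1)]
  have h3 : Commute ll (pr r) := by
    have := (((SS_comm (H1_le h1)).inv_right.mul_right (SS_comm (zeta_le h0)).inv_right).mul_right hg).mul_right
      (SS_comm (H1_le h2)).inv_right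
    simpa [mul_assoc] using this
  simp only [List.mem_cons, List.not_mem_nil, or_false] at hr
  rcases hr with rfl | rfl | rfl
  · exact one_mem _
  · have := u_ll
    rw [← h3.eq, mul_inv_cancel_right, left_eq_mul, ← map_one phi] at this
    exact absurd (phi_inj this) (fx_ne_one (by decide +kernel))
  · exact absurd h3 not_comm_lk

theorem comm_l {g : Spor.Fi24} (hg : Commute ll g) : ∃ f, g = phi f ∨ g = ll * phi f := by
  obtain ⟨x, rfl⟩ := pr_surj g
  exact pr_SS (comm_SS hg)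

theorem comm_l_even {g : Spor.Fi24} (hg : Commute ll g) (hs : sb g = 1) : ∃ f, g = phi f := by
  obtain ⟨f, rfl | rfl⟩ := comm_l hg
  · exact ⟨f, rfl⟩
  · rw [map_mul, sb_phi, sb_ll] at hs
    exact absurd hs (by decide)

/-- The transpositions. -/
def IsD (d : Spor.Fi24) : Prop := ∃ g, d = g * ll * g⁻¹

theorem IsD.conj {d : Spor.Fi24} (h : IsD d) (g : Spor.Fi24) : IsD (g * d * g⁻¹) := by
  obtain ⟨x, rfl⟩ := h
  exact ⟨g * x, by group⟩

theorem IsD.sq {d : Spor.Fi24} (h : IsD d) : d * d = 1 := by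
  obtain ⟨x, rfl⟩ := h
  rw [conj_mul, ll_sq]; simp

theorem isD_l : IsD ll := ⟨1, by simp⟩

theorem isD_k : IsD kk := ⟨_, (conj_of_cube ll_sq kk_sq lk_cube).symm⟩

theorem phi_conj (f g : FF) : phi f * (ll * phi g) * (phi f)⁻¹ = ll * phi (f * g * f⁻¹) := by
  rw [← mul_assoc, ← (l_phi f).eq, map_mul, map_mul, map_inv]; group

theorem isD_phi (f : FF) : IsD (ll * phi (f * fx 12 * f⁻¹)) := by
  have h : IsD (ll * phi (fx 0)) := ⟨_, u_ll.symm⟩
  have := h.conj (phi (f * (ev fx vw)⁻¹))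
  rw [phi_conj, ← v_conj] at this
  convert this using 3; group

theorem isD_m : IsD (ll * phi (fx 12)) := by simpa using isD_phi 1

theorem IsD.cases {d : Spor.Fi24} (h : IsD d) : (∃ f, d = ll * phi (f * fx 12 * f⁻¹)) ∨ (d * ll) ^ 3 = 1 := by
  obtain ⟨g, rfl⟩ := h
  obtain ⟨g, rfl⟩ := pr_surj g
  obtain ⟨h, h1, h', h2, r, hr, e⟩ := cover pr_zeta g
  have e2 : pr g * ll * (pr g)⁻¹ = pr h * (pr r * ll * (pr r)⁻¹) * (pr h)⁻¹ := by
    rw [e, map_mul, map_mul, mul_assoc _ (pr h'), ← (SS_comm (H1_le h2)).eq]; group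
  have e3 : ∀ x, (x * ll) ^ 3 = 1 → (pr h * x * (pr h)⁻¹ * ll) ^ 3 = 1 := fun x hx => by
    rw [mul_assoc, ← (SS_comm (H1_le h1)).inv_right.eq, ← mul_assoc, mul_assoc _ x, conj_pow, hx]; simp
  rw [e2]
  simp only [List.mem_cons, List.not_mem_nil, or_false] at hr
  rcases hr with rfl | rfl | rfl
  · exact Or.inr (e3 _ (by simp [ll_sq]))
  · obtain ⟨f, hf⟩ := pr_H1 h1
    refine Or.inl ⟨f * ev fx vw, ?_⟩
    have : ll * phi (f * ev fx vw * fx 12 * (f * ev fx vw)⁻¹) = phi f * (ll * phi (fx 0)) * (phi f)⁻¹ := by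
      rw [phi_conj, ← v_conj]; simp only [mul_inv_rev, mul_assoc]
    rw [u_ll, this]
    rcases hf with hf | hf <;> rw [hf]
    have h3 : Commute ll (phi f * (ll * phi (fx 0)) * (phi f)⁻¹) :=
      ((l_phi f).mul_right ((Commute.refl _).mul_right (l_phi _))).mul_right (l_phi f).inv_right
    calc _ = ll * (phi f * (ll * phi (fx 0)) * (phi f)⁻¹) * ll⁻¹ := by group
      _ = _ := by rw [h3.eq, mul_inv_cancel_right]
  · refine Or.inr (e3 _ ?_)
    rw [← kk, kk_inv, mul_assoc, ← pow_two, ← pow_mul, mul_comm 2 3, pow_mul, kl_cube', one_pow]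

theorem three_transp {d e : Spor.Fi24} (hd : IsD d) (he : IsD e) : Commute d e ∨ (d * e) ^ 3 = 1 := by
  obtain ⟨g, rfl⟩ := he
  rcases (hd.conj g⁻¹).cases with ⟨f, h⟩ | h
  · left
    have h1 : Commute ll (g⁻¹ * d * g⁻¹⁻¹) := h ▸ (Commute.refl _).mul_right (l_phi _)
    calc d * (g * ll * g⁻¹) = g * (g⁻¹ * d * g⁻¹⁻¹ * ll) * g⁻¹ := by group
      _ = _ := by rw [← h1.eq]; group
  · right
    rw [show d * (g * ll * g⁻¹) = g * (g⁻¹ * d * g⁻¹⁻¹ * ll) * g⁻¹ by group, conj_pow, h]; simp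

theorem pair_unique {d e : Spor.Fi24} (hd : IsD d) (he : IsD e) (h : d * e = phi (fx 12)) :
    d = ll ∨ d = ll * phi (fx 12) := by
  have hs : phi (fx 12) * phi (fx 12) = 1 := by rw [← map_mul, fx_sq, map_one]
  have hc : Commute d e := comm_of_sq hd.sq he.sq (by rw [h, hs])
  have hds : Commute d (phi (fx 12)) := h ▸ (Commute.refl d).mul_right hc
  have he' : e = d * phi (fx 12) := by rw [← h, ← mul_assoc, hd.sq, one_mul]
  rcases hd.cases with ⟨f, h1⟩ | h1
  · obtain ⟨c, c1, r, hr, h2⟩ := conj_m f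
    rw [h2] at h1
    simp only [List.mem_cons, List.not_mem_nil, or_false] at hr
    rcases hr with rfl | rfl | rfl
    · exact Or.inr (by rw [h1, ← (m_comm c1).eq, mul_inv_cancel_right])
    · exfalso
      have h3 := he.conj (phi c⁻¹)
      rw [he', h1, mul_assoc ll, ← map_mul, phi_conj, mul_assoc _ _ (fx 12), ← (m_comm (inv_mem c1)).eq] at h3
      have h4 : c⁻¹ * (c * fx 0 * (fx 12 * c⁻¹)) * c⁻¹⁻¹ = fx 0 * fx 12 := by group
      obtain ⟨g, hg⟩ := gen_conj (a := 7) (by norm_num)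
      have h5 := isD_phi g
      rw [← hg] at h5
      rw [h4] at h3
      have h6 : ∀ a b : FF, ll * phi a * (ll * phi b) = phi (a * b) := fun a b => by
        rw [(l_phi a).eq, mul_assoc, ← mul_assoc ll, ll_sq, one_mul, map_mul]
      rcases three_transp h3 h5 with h7 | h7
      · have := h7.eq
        rw [h6, h6] at this
        exact fx_ne (u := [0,12,7]) (v := [7,0,12]) (by decide +kernel) (by simpa [mul_assoc] using phi_inj this)
      · rw [h6, ← map_pow, ← map_one phi] at h7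
        exact fx_ne (u := [0,12,7,0,12,7,0,12,7]) (v := []) (by decide +kernel)
          (by simpa [mul_assoc, pow_succ] using phi_inj h7)
    · exfalso
      have h3 := (Commute.mul_left (l_phi (fx 12)) hds)
      rw [h1, ← mul_assoc, ll_sq, one_mul] at h3
      have h4 := ((m_comm (inv_mem c1)).mul_right (phi_comm h3).symm).mul_right (m_comm c1)
      exact fx_ne (u := [12,7,12,7]) (v := [7,12,7,12]) (by decide +kernel) (by simpa [mul_assoc] using h4.eq)
  · rcases he.cases with ⟨f, h2⟩ | h2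
    · have h3 : Commute ll e := h2 ▸ (Commute.refl _).mul_right (l_phi _)
      have h4 := h3.mul_right (l_phi (fx 12))
      rw [he', mul_assoc, hs, mul_one] at h4
      exact Or.inl (eq_of_cube_of_comm hd.sq ll_sq h1 h4.symm)
    · exfalso
      rw [he', mul_assoc, ← (l_phi _).eq, ← mul_assoc, (hds.mul_left (l_phi _)).mul_pow, h1, one_mul, pow_succ, sq, hs,
        one_mul, ← map_one phi] at h2
      exact fx_ne_one (by decide +kernel) (phi_inj h2)

/-- The centraliser of a product of two commuting transpositions permutes them. -/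
theorem cent_tr {f : FF} {g : Spor.Fi24} (h : Commute g (phi (f * fx 12 * f⁻¹))) :
    g * ll * g⁻¹ = ll ∨ g * ll * g⁻¹ = ll * phi (f * fx 12 * f⁻¹) := by
  have h1 : phi f⁻¹ * (g * ll * g⁻¹) * (phi f⁻¹)⁻¹ * (phi f⁻¹ * (g * (ll * phi (f * fx 12 * f⁻¹)) * g⁻¹) * (phi f⁻¹)⁻¹) =
      phi (fx 12) := by
    rw [conj_mul, conj_mul, ← mul_assoc ll, ll_sq, one_mul, h.eq, mul_inv_cancel_right, ← map_inv, ← map_mul, ← map_mul]
    congr 1; group
  have h2 : ∀ x, phi f⁻¹ * (g * ll * g⁻¹) * (phi f⁻¹)⁻¹ = ll * phi x → g * ll * g⁻¹ = ll * phi (f * x * f⁻¹) :=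
    fun x hx => by rw [← phi_conj, ← hx, map_inv]; group
  rcases pair_unique ((isD_l.conj g).conj _) (((isD_phi f).conj g).conj _) h1 with h3 | h3
  · exact Or.inl (by simpa using h2 1 (by simpa using h3))
  · exact Or.inr (h2 _ h3)

theorem psi_x : psi xF = ev y xw := by
  rw [ev_psi (by decide +kernel), show xw.length % 2 = 0 from rfl, pow_zero, one_mul, xF]

theorem phi_K0 {w : List ℕ} (h : allL (fun a => memL a [1,2,3,4,5,6,7,8,9]) w = true) (h1 : okL w = true)
    (h2 : w.length % 2 = 0) : Commute kk (phi (ev fx w)) := by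
  have := (k_K0 (ev_mem_cl y h)).map pr
  rwa [ev_psi h1, h2, pow_zero, one_mul] at this

theorem k_x : Commute kk (phi xF) := phi_K0 (by decide +kernel) (by decide +kernel) rfl

theorem k_bj : Commute kk (phi (fx 1 * fx 7)) := by
  simpa using phi_K0 (w := [1, 7]) (by decide +kernel) (by decide +kernel) rfl

theorem k_t : Commute kk (pr (y 15)) := by
  refine comm_of_sq kk_sq (by rw [← map_mul, y_sq, map_one]) ?_
  rw [← pr_zeta, zeta, kk]; simp [mul_assoc]

theorem lk_conj (i : ℕ) : (ll * kk) ^ i * ll * ((ll * kk) ^ i)⁻¹ = ll * (ll * kk) ^ i := by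
  have h : ll * (ll * kk) * ll⁻¹ = (ll * kk)⁻¹ := by
    rw [← mul_assoc, ll_sq, one_mul, mul_inv_rev, kk_inv]
  have h2 : (ll * kk) ^ i * ll = ll * ((ll * kk) ^ i)⁻¹ := by
    rw [← inv_pow, ← h, conj_pow, ← mul_assoc, ← mul_assoc, ll_sq, one_mul, ll_inv]
  rw [h2, mul_assoc, mul_right_inj, ← mul_inv_rev, inv_eq_iff_mul_eq_one, ← pow_add, ← pow_add,
    show i + i + i = 3 * i by ring, pow_mul, lk_cube, one_pow]

/-- The transpositions that commute with the element of order thirteen. -/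
theorem fix_six {d : Spor.Fi24} (hd : IsD d) (h : Commute (phi xF) d) :
    d ∈ [ll, ll * (ll * kk), ll * (ll * kk) ^ 2, pr (y 12), pr (y 16), pr (y 17)] := by
  obtain ⟨g, rfl⟩ := hd
  obtain ⟨g, rfl⟩ := pr_surj g
  obtain ⟨i, hi⟩ := comm_SS (g := g⁻¹ * psi xF * g) (by
    rw [map_mul, map_mul, map_inv, ← phi_def]
    calc ll * ((pr g)⁻¹ * phi xF * pr g) = (pr g)⁻¹ * (pr g * ll * (pr g)⁻¹ * phi xF) * pr g := by group
      _ = _ := by rw [← h.eq]; group)
  have h1 : act (psi xF) (act g 0) = act (zz ^ (sg g * i)) (act g 0) := by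
    rw [← act_zz, ← hi, ← act_mul, ← act_mul]; congr 1; group
  have h2 : ∀ n : ℕ, act (psi xF ^ n) (act g 0) = act (zz ^ ((n : ℤ) * ((sg g : ℤ) * i))) (act g 0) := by
    intro n
    induction n with
    | zero => simp
    | succ n ih =>
      rw [pow_succ', act_mul, ih, act_zz, h1, ← act_mul, ← zpow_add, sg_psi]
      congr 2; push_cast; ring
  have h3 : act (psi xF) (act g 0) = act g 0 := by
    have := h2 13
    rw [← map_pow, ← xF_order, pow_orderOf_eq_one, map_one, act_one, act_zz_mod, xF_order] at this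
    rw [h1, act_zz_mod]
    nth_rewrite 2 [this]
    congr 2; omega
  obtain ⟨j, hj⟩ := m_low (i := act g 0) (by rw [act_def]; exact Fx.lt _ (by norm_num))
  rw [← rho_zz, ← map_pow, ← act_def, ← act_mul] at hj
  have h4 := m_fixx hj (by
    rw [← rho_ev (by decide +kernel), ← act_def, ← psi_x, act_mul, ← zpow_natCast, act_zz, sg_psi, h3]; simp)
  have key : ∀ c : Hat, act (zz ^ j * g) 0 = act c 0 → pr g * ll * (pr g)⁻¹ = pr c * ll * (pr c)⁻¹ := fun c hc => by
    have h5 := SS_comm (g := c⁻¹ * (zz ^ j * g)) ⟨0, by rw [act_mul, act_inv hc.symm]; simp [act_one]⟩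
    rw [map_mul, map_mul, map_pow, eq_inv_of_mul_eq_one_left zz_zeta, map_inv, map_inv, pr_zeta, inv_one, one_pow,
      one_mul] at h5
    calc _ = pr c * ((pr c)⁻¹ * pr g * ll) * (pr g)⁻¹ := by group
      _ = _ := by rw [← h5.eq]; group
  have hu : ∀ (w : List ℕ) (a : ℕ), idH (w ++ [0]) (a :: w) = true →
      pr (ev y w * uu) * ll * (pr (ev y w * uu))⁻¹ = pr (y a) := fun w a hw => by
    have := y_eq hw
    rw [ev_append, ev_singleton, ev_cons] at this
    rw [ll, ← map_inv, ← map_mul, ← map_mul, mul_inv_rev, uu_inv, ← mul_assoc, mul_assoc (ev y w) uu,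
      mul_assoc (ev y w) _ uu, u_l, this, mul_inv_cancel_right]
  simp only [List.mem_cons, List.not_mem_nil, or_false] at h4 ⊢
  rcases h4 with h4 | h4 | h4 | h4 | h4 | h4
  · exact Or.inl (by simpa using key 1 (by rw [h4, act_one]))
  · refine Or.inr (Or.inr (Or.inl ?_))
    rw [key _ (h4.trans a_k.symm), ← kk, kk_inv, sq, ← mul_assoc, ← mul_assoc, ← mul_assoc, ll_sq, one_mul]
  · refine Or.inr (Or.inl ?_)
    rw [key (y 11 * y 10) (by rw [h4, act_mul, a_k, a_y (by norm_num) p_l]), map_mul, ← kk, ← ll]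
    simpa using lk_conj 1
  · refine Or.inr (Or.inr (Or.inr (Or.inl ?_)))
    rw [key (ev y vw.reverse * uu) (by rw [h4, act_mul, a_u, ev_reverse fun a _ => y_sq a, act_inv a_v]),
      hu _ 12 (by decide +kernel)]
  · refine Or.inr (Or.inr (Or.inr (Or.inr (Or.inl ?_))))
    rw [key (ev y (kaw ++ gw) * uu) (by
      rw [h4, act_mul, a_u, ev_append, act_mul, a_g, act_ev (by decide +kernel) p_e2]), hu _ 16 (by decide +kernel)]
  · refine Or.inr (Or.inr (Or.inr (Or.inr (Or.inr ?_))))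
    rw [key (ev y (kbw ++ gw) * uu) (by
      rw [h4, act_mul, a_u, ev_append, act_mul, a_g, act_ev (by decide +kernel) p_e3]), hu _ 17 (by decide +kernel)]

theorem fix_cases {d : Spor.Fi24} (hd : IsD d) (h : Commute (phi xF) d) : (∃ i : ℕ, d = ll * (ll * kk) ^ i) ∨
    (Commute ll d ∧ Commute kk d ∧ ¬ Commute d (phi (fx 1 * fx 7))) := by
  have h1 := fix_six hd h
  have key : ∀ a, a < 18 → a ≠ 10 → eqF [a, 1, 7] [1, 7, a] = false → Commute kk (pr (y a)) →
      Commute ll (pr (y a)) ∧ Commute kk (pr (y a)) ∧ ¬ Commute (pr (y a)) (phi (fx 1 * fx 7)) := by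
    intro a h1 h2 h3 h4
    refine ⟨by rw [pr_y_phi h1 h2]; exact (Commute.refl _).mul_right (l_phi _), h4, fun h5 => fx_ne h3 ?_⟩
    have := (l_phi _).mul_left h5
    rw [pr_y_phi h1 h2, ← mul_assoc, ll_sq, one_mul] at this
    simpa [mul_assoc] using (phi_comm this).eq
  have hk : ∀ (w : List ℕ) (a : ℕ), allL (fun a => memL a [1,2,3,4,5,6,7,8,9]) w = true →
      idH (w ++ [15]) (a :: w) = true → Commute kk (pr (y a)) := fun w a h1 h2 => by
    have h3 := y_eq h2
    rw [ev_append, ev_singleton, ev_cons] at h3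
    have h4 := (k_K0 (ev_mem_cl y h1)).map pr
    rw [eq_mul_inv_of_mul_eq h3.symm, map_mul, map_mul, map_inv]
    exact (h4.mul_right k_t).mul_right h4.inv_right
  simp only [List.mem_cons, List.not_mem_nil, or_false] at h1
  rcases h1 with rfl | rfl | rfl | rfl | rfl | rfl
  · exact Or.inl ⟨0, by simp⟩
  · exact Or.inl ⟨1, by simp⟩
  · exact Or.inl ⟨2, rfl⟩
  · exact Or.inr (key 12 (by norm_num) (by norm_num) (by decide +kernel) ((k_K0 m_K0).map pr))
  · exact Or.inr (key 16 (by norm_num) (by norm_num) (by decide +kernel)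
      (hk kaw 16 (by decide +kernel) (by decide +kernel)))
  · exact Or.inr (key 17 (by norm_num) (by norm_num) (by decide +kernel)
      (hk kbw 17 (by decide +kernel) (by decide +kernel)))

attribute [irreducible] ll kk phi

end Cfsg.Agent.F24
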