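import Cfsg.Agent.Lib.F24.Act
import Cfsg.Agent.Lib.TCX.F24b.Main

/-! The involution `u` and the element `ζ` of order three. -/

set_option autoImplicit false
set_option maxRecDepth 100000

namespace Cfsg.Agent.F24

open Cfsg.Agent.CG Cfsg.Agent.Mult Cfsg.Agent.TCX Subgroup

/-- The subgroup generated by `b, …, j`. -/
noncomputable abbrev K0 : Subgroup Hat := cl y [1,2,3,4,5,6,7,8,9]

theorem k_K0 {h : Hat} (hh : h ∈ K0) : Commute (y 10) h := commute_cl (fun _ ha => k_comm ha) hh

theorem m_K0 : y 12 ∈ K0 := by rw [y_def]; exact ev_mem_cl _ (by decide +kernel)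

theorem y_H1 {a : ℕ} (h : okL [a] = true) : y a ∈ H1 := by simpa using ev_H1 h

theorem K0_le : K0 ≤ H1 := cl_mono _ (by decide)

/-- The relators for the letter `m`. -/
def Rm : List (List ℕ) := [[12,12], 12 :: MW.reverse, [0,12,0,12], [1,12,1,12], [2,12,2,12], [3,12,3,12], [4,12,4,12],
  [5,12,5,12], [6,12,6,12], [8,12,8,12], [9,12,9,12], [10,12,10,12], [11,12,11,12], [7,12,7,12,7,12]]

theorem b_rels : ∀ r ∈ F24b.R, ev y r = 1 := by
  refine ders_sound (inv := invOf F24b.invL) (R0 := F24a.R0 ++ Rm) (hs := F24b.hints) (fun a => ?_) (fun r hr => ?_)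
    (by decide +kernel)
  · rw [y_inv]; congr 1
    by_cases ha : a < 13
    · exact (beq_iff _ _).1 ((allLt_iff (fun a => Nat.beq (invOf F24b.invL a) a) 13).1 (by decide +kernel) a ha)
    · exact nth_triv _ _ (by simp [F24b.invL]; omega)
  · rcases List.mem_append.1 hr with hr | hr
    · exact y_rels r hr
    · rcases (bor_eq _ _).1 ((allL_iff (fun r => bor (eqL r [10,12,10,12]) (idH r [])) _).1 (by decide +kernel) r hr)
        with h | h
      · rw [(eqL_iff _ _).1 h]
        simp only [ev_cons, ev_nil, mul_one]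
        rw [← mul_assoc (y 12), ← (k_K0 m_K0).eq, mul_assoc, y_sq, mul_one, y_sq]
      · exact y_eq h

/-- The involution `klak`. -/
noncomputable def uu : Hat := ev y [10,11,0,10]

/-- The involution `bacb`. -/
noncomputable def tc : Hat := ev y [1,0,2,1]

theorem w_rel {r : List ℕ} (h : anyL (eqL r) F24b.l0W = true) : ev y r = 1 := by
  obtain ⟨w, hw, e⟩ := (anyL_iff _ _).1 h
  rw [(eqL_iff _ _).1 e]; exact F24b.l0_ok.imp Hat y b_rels w hw

theorem uu_sq : uu * uu = 1 := by
  rw [uu, ← ev_append]; exact w_rel (by decide +kernel)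

theorem uu_inv : uu⁻¹ = uu := inv_of_sq uu_sq

theorem tc_sq : tc * tc = 1 := by
  rw [tc, ← ev_append]; exact w_rel (by decide +kernel)

theorem u_tc : uu * tc * uu = tc * uu * tc := braid_of_cube uu_sq tc_sq (by
  rw [uu, tc, ← ev_append, ← ev_powL]; exact w_rel (by decide +kernel))

theorem u_b : uu * y 1 * uu = y 1 * y 0 * y 10 * y 0 * y 1 := by
  have := w_rel (r := [10,11,0,10] ++ [1] ++ [10,11,0,10] ++ [1,0,10,0,1]) (by decide +kernel)
  rw [ev_append, ev_append, ev_append, ← uu, ev_singleton] at this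
  rw [eq_inv_of_mul_eq_one_left this]
  simp [y_inv, mul_assoc]

theorem k_tc : y 10 * tc * uu = tc * uu * y 1 := by
  have := w_rel (r := [10] ++ [1,0,2,1] ++ [10,11,0,10] ++ ([1] ++ [10,11,0,10] ++ [1,0,2,1])) (by decide +kernel)
  simp only [ev_append, ← uu.eq_1, ← tc.eq_1, ev_singleton] at this
  rw [eq_inv_of_mul_eq_one_left this]
  simp [y_inv, uu_inv, inv_of_sq tc_sq, mul_assoc]

theorem u_l : uu * y 11 * uu = y 0 := by
  have := w_rel (r := [10,11,0,10] ++ [11] ++ [10,11,0,10] ++ [0]) (by decide +kernel)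
  simp only [ev_append, ← uu.eq_1, ev_singleton] at this
  rw [eq_inv_of_mul_eq_one_left this, y_inv]

theorem k_u : y 10 * uu = y 11 * y 0 * y 10 := by
  simp only [uu, ev_cons, ev_nil, mul_one, ← mul_assoc, y_sq, one_mul]

theorem u_comm {a : ℕ} (ha : a ∈ [2,3,4,5,6,7,8,9,12]) : uu * y a * uu = y a := by
  have : Commute (y a) uu := by
    refine commute_cl (S := [10,11,0]) (fun s hs => ?_) (ev_mem_cl _ (by decide +kernel))
    have h := (allL_iff (fun a => band (idH [a, 0] [0, a]) (idH [a, 11] [11, a])) _).1 (by decide +kernel) a ha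
    rw [band_eq] at h
    simp only [List.mem_cons, List.not_mem_nil, or_false] at hs
    rcases hs with rfl | rfl | rfl
    · by_cases e : a = 12
      · rw [e]; exact (k_K0 m_K0).symm
      · exact (k_comm (by simp at ha ⊢; omega)).symm
    · simpa [commute_iff_eq] using y_eq h.2
    · simpa [commute_iff_eq] using y_eq h.1
  rw [← this.eq, mul_assoc, uu_sq, mul_one]

theorem sg_uu : sg uu = 1 := by rw [uu, sg_ev (by decide +kernel)]; rfl

theorem u_h2 : uu * y 13 * uu = y 14 := by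
  have h1 := F24b.l1_ok Hat y b_rels ([10,11,0,10] ++ (t3m ++ [8] ++ t3m.reverse) ++ [10,11,0,10])
    (List.mem_singleton.2 ((eqL_iff _ _).1 (by decide +kernel)))
  rw [ev_append, ev_append, ← uu, y_eq (v := [13]) (by decide +kernel), ev_singleton] at h1
  have h2 : cl y [0,1,2,3,4,5,6,7,8,11,12] ≤ H1 := cl_le _ fun a ha =>
    y_H1 ((allL_iff (fun a => okL [a]) _).1 (by decide +kernel) a ha)
  rw [← mul_inv_eq_one]
  refine eq_one_of_rho (mul_mem (h2 h1) (inv_mem (y_H1 (by decide +kernel)))) ?_ ?_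
  · simp [sg_uu, sg_y]
  · have e1 : y 13 = ev y h2w := y_def 13
    have e2 : y 14 = ev y h3w := y_def 14
    rw [map_mul, map_inv, mul_inv_eq_one, e1, e2, uu, ← ev_append, ← ev_append, rho_ev (by decide +kernel),
      rho_ev (by decide +kernel), m_uh]

theorem u_t : uu * y 15 * uu = y 15 := by
  have e1 : y 15 = ev y tW := by simpa using y_eq (u := [15]) (v := tW) (by decide +kernel)
  have e2 : y 15 = ev y (tW.map fun a => if a = 13 then 14 else a) := by
    simpa using y_eq (u := [15]) (v := tW.map fun a => if a = 13 then 14 else a) (by decide +kernel)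
  have e3 := map_ev y (MulAut.conj uu).toMonoidHom tW
  rw [← e1] at e3
  have e4 : uu * y 15 * uu = (MulAut.conj uu).toMonoidHom (y 15) := by simp [uu_inv]
  rw [e4, e3, e2]
  unfold ev
  rw [List.map_map]
  refine congrArg _ (List.map_congr_left fun a ha => ?_)
  have := (memL_iff _ _).1 ((allL_iff (fun a => memL a [13,2,3,4,5,6,7,8,9,12]) tW).1 (by decide +kernel) a ha)
  rcases List.mem_cons.1 this with rfl | h
  · simp [uu_inv, u_h2]
  · have : a ≠ 13 := by simp at h; omega
    simp [uu_inv, u_comm h, this]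

theorem psi_comm {f g : FF} (h : Commute (psi f) (psi g)) : Commute f g :=
  psi_inj (by rw [map_mul, map_mul, h.eq])

theorem u_cent {h : Hat} (hh : h ∈ H1) (hc : Commute (y 0) h) : uu * h * uu ∈ H1 := by
  have hl : uu * y 11 * uu ∈ H1 := by rw [u_l]; exact y_H1 (by decide +kernel)
  have mul : ∀ {a b : Hat}, uu * a * uu ∈ H1 → uu * b * uu ∈ H1 → uu * (a * b) * uu ∈ H1 := fun {a b} ha hb => by
    have := mul_mem ha hb
    rwa [mul_assoc, mul_assoc uu b, ← mul_assoc uu uu, uu_sq, one_mul, ← mul_assoc, mul_assoc uu a] at this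
  have key : CC ≤ H1.comap ((MulAut.conj uu).toMonoidHom.comp (psi.comp (MulAut.conj (ev fx t3m)).toMonoidHom)) := by
    refine cl_le _ fun a ha => ?_
    obtain ⟨b, hb, e⟩ := (anyL_iff _ _).1 ((allL_iff (fun a => anyL (fun b => band (okL [b]) (eqF (t3m ++ [a]) (b :: t3m)))
      [13,2,3,4,5,6,7,8,9,12]) _).1 (by decide +kernel) a ha)
    rw [band_eq] at e
    change uu * psi (ev fx t3m * fx a * (ev fx t3m)⁻¹) * uu⁻¹ ∈ H1
    have e2 : psi (fx b) = y 11 * y b := by rw [okL_spec e.1 b (by simp), ← mul_assoc, l_sq, one_mul]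
    rw [conj_of_eqF e.2, uu_inv, e2]
    refine mul hl ?_
    rcases List.mem_cons.1 hb with rfl | hb
    · rw [u_h2]; exact y_H1 (by decide +kernel)
    · rw [u_comm hb]; exact y_H1 e.1
  have key2 : ∀ f, Commute (y 0) (psi f) → uu * psi f * uu ∈ H1 := fun f hf => by
    have h1 : Commute (fx 0) f := psi_comm (by rw [psi_fx0 (by norm_num)]; exact (l_psi f).mul_left hf)
    have h2 : uu * psi (ev fx t3m * ((ev fx t3m)⁻¹ * f * ev fx t3m) * (ev fx t3m)⁻¹) * uu⁻¹ ∈ H1 := key (cent_a h1)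
    simpa [uu_inv, mul_assoc] using h2
  obtain ⟨f, rfl | rfl⟩ := decH hh
  · exact key2 f hc
  · refine mul hl (key2 f ?_)
    have := (l_comm (a := 0) (by norm_num)).symm.mul_right hc
    rwa [← mul_assoc, l_sq, one_mul] at this

/-- The element `ktkt`. -/
noncomputable def zeta : Hat := y 10 * y 15 * y 10 * y 15

theorem zeta_b {a : ℕ} (ha : a ∈ [2,3,4,5,6,7,8,9]) : Commute zeta (y 1 * y a) := by
  have h := (allL_iff (fun a => band (idH [15,1,a,15] (nth Wg [] (a - 2)))
    (allL (fun b => memL b [1,2,3,4,5,6,7,8,9]) (nth Wg [] (a - 2)))) _).1 (by decide +kernel) a ha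
  rw [band_eq] at h
  have h1 : Commute (y 10) (y 1 * y a) := (k_comm (by simp)).mul_right (k_comm (by simp at ha ⊢; omega))
  have h2 := k_K0 (ev_mem_cl y h.2)
  rw [← y_eq h.1] at h2
  simp only [ev_cons, ev_nil, mul_one, ← mul_assoc] at h2
  rw [mul_assoc (y 15)] at h2
  generalize y 1 * y a = s at h1 h2
  have ht := y_sq 15
  calc zeta * s = y 10 * y 15 * (y 10 * (y 15 * s * y 15)) * y 15 := by
        rw [zeta]; simp only [mul_assoc, ht, mul_one]
    _ = y 10 * s * y 15 * y 10 * y 15 := by rw [h2.eq]; simp only [← mul_assoc, mul_assoc _ (y 15) (y 15), ht, mul_one]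
    _ = s * zeta := by rw [h1.eq, zeta]; simp only [mul_assoc]

theorem zeta_a : Commute zeta (y 11 * y 0) := by
  have h1 : y 15 * (y 11 * y 0) = y 11 * y 0 * y 15 := by
    simpa [mul_assoc] using y_eq (u := [15,11,0]) (v := [11,0,15]) (by decide +kernel)
  have h2 : uu * y 15 = y 15 * uu := by
    calc uu * y 15 = uu * y 15 * uu * uu := by rw [mul_assoc, uu_sq, mul_one]
      _ = _ := by rw [u_t]
  have h3 : y 11 * y 0 = y 10 * uu * y 10 := by rw [k_u, mul_assoc _ (y 10), y_sq, mul_one]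
  have hk := y_sq 10
  calc zeta * (y 11 * y 0) = y 10 * y 15 * y 10 * (y 15 * (y 11 * y 0)) := by rw [zeta]; simp only [mul_assoc]
    _ = y 10 * (y 15 * uu) * y 10 * y 15 := by
        rw [h1, h3]; simp only [← mul_assoc, mul_assoc _ (y 10) (y 10), hk, mul_one]
    _ = _ := by rw [← h2, h3, zeta]; simp only [← mul_assoc, mul_assoc _ (y 10) (y 10), hk, mul_one]

theorem zeta_psi (f : FF) : Commute zeta (psi f) := by
  have hb : Commute zeta (y 11 * y 1) := by
    have e : y 11 * y 1 = y 11 * y 0 * (y 1 * y 3) * (y 11 * y 0) * (y 1 * y 3) * (y 11 * y 0) := by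
      simpa [mul_assoc] using y_eq (u := [11,1]) (v := [11,0,1,3,11,0,1,3,11,0]) (by decide +kernel)
    have h3 := zeta_b (a := 3) (by simp)
    rw [e]
    exact (((zeta_a.mul_right h3).mul_right zeta_a).mul_right h3).mul_right zeta_a
  have : psi f ∈ cl (fun a => psi (fx a)) [0,1,2,3,4,5,6,7,8,9] := by
    rw [← map_cl, fx_top]; exact mem_map_of_mem _ (mem_top f)
  refine commute_cl (fun a ha => ?_) this
  rw [psi_fx0 (by simp at ha; omega)]
  rcases List.mem_cons.1 ha with rfl | ha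
  · exact zeta_a
  rcases List.mem_cons.1 ha with rfl | ha
  · exact hb
  · have := hb.mul_right (zeta_b ha)
    rwa [mul_assoc, ← mul_assoc (y 1), y_sq, one_mul] at this

theorem zeta_inv : zeta⁻¹ = y 15 * y 10 * y 15 * y 10 := by simp [zeta, y_inv, mul_assoc]

theorem l_zeta : y 11 * zeta * y 11 = zeta⁻¹ := by
  have h : y 15 * zeta * y 15 = zeta⁻¹ := by
    rw [zeta_inv, zeta]; simp only [mul_assoc, y_sq, mul_one]
  nth_rewrite 2 [← y_inv 15] at h
  rw [y_psi (a := 15) (by norm_num) (by norm_num), mul_inv_rev, y_inv, mul_assoc (y 11), ← (zeta_psi _).eq] at h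
  rw [← h]; group

theorem y_zeta {a : ℕ} (ha : a < 12) : y a * zeta * y a = zeta⁻¹ := by
  by_cases h : a = 10
  · rw [h, zeta_inv, zeta]; simp only [← mul_assoc, y_sq, one_mul]
  · nth_rewrite 2 [← y_inv a]
    rw [y_psi (by omega) h, mul_inv_rev, y_inv, mul_assoc (y 11), ← (zeta_psi _).eq, ← l_zeta]; group

theorem conj_sg {Γ : Type*} [Group Γ] (f : Hat →* Γ) {R : Γ} (h : ∀ a, a < 12 → f (y a) * R * f (y a) = R⁻¹)
    (g : Hat) : f g * R * (f g)⁻¹ = R ^ (sg g : ℤ) := by
  have hg : g ∈ cl y [0,1,2,3,4,5,6,7,8,9,10,11] := y_top ▸ mem_top g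
  induction hg using closure_induction with
  | mem x hx =>
    obtain ⟨a, ha, rfl⟩ := hx
    have ha : a < 12 := by simp at ha; omega
    rw [← map_inv, y_inv, h a ha, sg_y (by omega)]; simp
  | one => simp
  | mul a b _ _ ha hb =>
    rw [map_mul, map_mul, Units.val_mul, zpow_mul, ← ha, conj_zpow, ← hb]; group
  | inv a _ ha =>
    rw [map_inv, map_inv, Int.units_inv_eq_self]
    rcases Int.units_eq_one_or (sg a) with e | e <;> rw [e] at ha ⊢
    · simp only [Units.val_one, zpow_one] at ha ⊢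
      nth_rewrite 1 [← ha]; group
    · simp only [Units.val_neg, Units.val_one, zpow_neg, zpow_one] at ha ⊢
      calc _ = (f a)⁻¹ * (R⁻¹)⁻¹ * f a := by group
        _ = _ := by nth_rewrite 1 [← ha]; group

theorem conj_zeta (g : Hat) : g * zeta * g⁻¹ = zeta ^ (sg g : ℤ) := conj_sg (MonoidHom.id _) (fun _ => y_zeta) g

theorem zeta_cube : zeta ^ 3 = 1 := by
  have h1 : (y 2 * y 15) ^ 3 = 1 := by
    simpa [pow_succ, mul_assoc] using y_eq (u := [2,15,2,15,2,15]) (v := []) (by decide +kernel)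
  have h2 : y 2 * y 15 * zeta * (y 2 * y 15)⁻¹ = zeta := by rw [conj_zeta]; simp [sg_y]
  have h3 : y 2 * y 15 * y 10 * (y 2 * y 15)⁻¹ = y 10 * zeta⁻¹ := by
    rw [← y_zeta (a := 2) (by norm_num), ← mul_assoc, ← mul_assoc, (k_comm (a := 2) (by simp)).eq, zeta]
    simp only [mul_inv_rev, y_inv, ← mul_assoc, mul_assoc _ (y 10) (y 10), y_sq, mul_one]
  generalize y 2 * y 15 = τ at h1 h2 h3
  have h4 : ∀ n : ℕ, τ ^ n * y 10 * (τ ^ n)⁻¹ = y 10 * zeta⁻¹ ^ n := by
    intro n
    induction n with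
    | zero => simp
    | succ n ih =>
      calc _ = τ * (τ ^ n * y 10 * (τ ^ n)⁻¹) * τ⁻¹ := by rw [pow_succ']; group
        _ = (τ * y 10 * τ⁻¹) * (τ * zeta * τ⁻¹)⁻¹ ^ n := by rw [ih, conj_inv, conj_pow]; group
        _ = _ := by rw [h2, h3, pow_succ']; group
  have := h4 3
  rw [h1] at this
  simpa using this

instance normalZeta : (zpowers zeta).Normal := ⟨by
  rintro _ ⟨n, rfl⟩ g
  exact ⟨sg g * n, by dsimp only; rw [zpow_mul, ← conj_zeta, conj_zpow]⟩⟩

end Cfsg.Agent.F24
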